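import Cfsg.Agent.AltSection.Two.Orbits

/-! Translates of orbit sums. -/

set_option maxHeartbeats 0
set_option maxRecDepth 100000

namespace Cfsg.Lib.AltSection.Two


def t0_0 : Term := (1, 84, 6, [(2519,16), (2304,38), (1792,37), (2314,51), (1110,23), (1956,49), (1881,37), (918,45), (2588,29), (1699,19), (2451,19), (1812,37), (2605,18), (1734,19), (1944,16)])

def t0_1 : Term := (1, 89, 38, [(535,1), (2139,47), (1663,23), (1598,22), (2444,45), (1692,32), (1572,58), (1678,32), (1585,50), (523,16), (2369,54), (2537,4), (827,39), (2769,62), (2100,31)])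

def t0_2 : Term := (1, 94, 8, [(239,17), (683,17), (1049,35), (1035,53), (215,17), (1030,17), (349,35), (1268,17), (221,17), (1277,42), (425,42), (701,17), (251,17), (1264,6), (677,17)])

def t0_3 : Term := (1, 102, 15, [(1301,57), (2781,9), (2812,49), (341,38), (2791,39), (2389,46), (347,38), (1207,12), (1596,38), (2765,32), (1297,60), (2097,46), (1214,43), (2469,11), (2199,17)])

def t0_4 : Term := (1, 107, 10, [(1762,3), (1574,6), (2438,11), (2279,30), (1294,55), (2393,3), (1153,3), (2377,25), (2603,11), (2275,19), (848,3), (1307,31), (2679,15), (1903,24), (1346,3)])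

def t0_5 : Term := (1, 111, 2, [(732,2), (128,0), (377,0), (123,2), (359,43), (298,20), (1067,7), (133,7), (295,20), (143,7), (587,0), (286,7), (562,0), (59,20), (71,43)])

def t0_6 : Term := (1, 89, 15, [(2794,34), (795,51), (933,43), (2457,57), (1360,41), (2723,28), (988,36), (2304,35), (2715,58), (1461,16), (2292,29), (1097,60), (1330,58), (221,31), (2079,38)])

def t0_7 : Term := (1, 116, 7, [(664,17), (2327,36), (1023,35), (2323,5), (713,7), (884,63), (637,17), (943,50), (707,2), (1075,0), (630,17), (669,17), (739,0), (2228,7), (2232,56)])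

def t0_8 : Term := (1, 121, 38, [(2456,43), (1412,42), (2301,28), (336,25), (2830,47), (1359,19), (1985,44), (776,44), (2076,21), (2175,53), (1615,4), (2331,36), (2003,19), (2346,36), (845,34)])

def t0_9 : Term := (1, 115, 12, [(768,5), (432,16), (1295,31), (246,16), (222,19), (1102,0), (356,16), (1299,0), (744,31), (1308,21), (1088,48), (216,19), (1083,0), (252,19), (750,48)])

def t0_10 : Term := (1, 92, 1, [(297,17), (444,38), (178,16), (942,50), (317,0), (883,63), (164,17), (941,18), (197,0), (308,16), (387,17), (328,37), (400,0), (437,59), (882,63)])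

def t0_11 : Term := (1, 128, 15, [(1297,37), (1887,27), (2199,49), (2776,61), (1170,37), (347,20), (1433,61), (843,20), (681,16), (429,19), (249,44), (741,44), (2509,49), (789,30), (1865,19)])

def t0_12 : Term := (1, 132, 14, [(705,45), (141,42), (949,42), (375,28), (111,46), (1703,60), (284,42), (712,1), (887,15), (1522,51), (1706,48), (264,46), (468,47), (362,32), (1527,27)])

def t0_13 : Term := (1, 138, 15, [(2291,52), (536,21), (2081,1), (2251,14), (1693,55), (993,63), (1418,5), (2182,22), (1664,2), (2438,59), (2618,18), (2016,0), (1268,51), (355,10), (1761,37)])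

def t0_14 : Term := (1, 142, 4, [(2066,45), (1702,6), (1491,2), (1489,17), (2794,22), (2385,23), (2070,41), (1650,23), (2523,6), (1936,47), (2713,20), (1626,6), (2382,23), (2526,15), (2796,22)])

def t0_15 : Term := (1, 143, 8, [(541,0), (2104,0), (1392,2), (2276,6), (2014,7), (1539,0), (808,0), (1545,0), (2531,7), (1417,7), (936,0), (1443,0), (1551,0), (2076,17), (1749,53)])

def t0_16 : Term := (1, 148, 8, [(788,23), (1357,6), (2310,45), (1356,16), (1312,26), (789,23), (1327,6), (790,23), (1311,15), (2300,45), (1326,6), (219,18), (787,23), (1341,30), (1342,6)])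

def t0_17 : Term := (1, 152, 15, [(1016,3), (449,25), (1535,22), (665,3), (1652,52), (728,3), (2274,25), (202,3), (1671,12), (901,4), (1489,22), (510,22), (2351,3), (2273,4), (1477,42)])

def t0_18 : Term := (1, 158, 15, [(1196,57), (459,28), (949,42), (1424,8), (141,35), (969,42), (2225,8), (1527,8), (733,45), (62,42), (1282,62), (554,28), (705,45), (1022,15), (264,17)])

def t0_19 : Term := (1, 163, 38, [(5,17), (285,18), (104,29), (657,17), (80,52), (42,0), (64,0), (143,0), (889,4), (646,30), (888,57), (365,0), (288,7), (112,1), (364,2)])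

def t0_20 : Term := (1, 168, 15, [(531,18), (702,18), (1660,43), (833,43), (1472,29), (1729,35), (690,50), (1723,35), (246,43), (543,18), (1564,50), (1513,18), (234,43), (1882,36), (1776,43)])

def t0_21 : Term := (1, 154, 1, [(910,19), (325,54), (467,0), (944,7), (971,4), (327,58), (508,19), (882,10), (591,4), (886,0), (719,19), (948,14), (729,4), (65,54), (328,61)])

def t0_22 : Term := (1, 172, 15, [(1160,0), (2611,57), (357,29), (1607,0), (2287,57), (2440,35), (1502,0), (2447,35), (1907,2), (2090,7), (2154,0), (2158,0), (1957,31), (2616,60), (2281,36)])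

def t0_23 : Term := (1, 177, 38, [(346,33), (2802,14), (2238,5), (2129,16), (2711,0), (1210,31), (1975,31), (1777,22), (1099,17), (2094,45), (698,54), (2454,22), (2600,39), (1814,39), (1736,4)])

def t0_24 : Term := (1, 115, 10, [(755,0), (2627,2), (780,2), (2106,31), (2279,7), (796,7), (1112,0), (2292,60), (1552,0), (2108,48), (812,0), (1574,2), (2546,63), (1588,7), (1316,0)])

def t0_25 : Term := (1, 106, 2, [(313,17), (1800,17), (582,17), (1284,62), (84,42), (1060,51), (183,17), (913,15), (47,17), (633,17), (396,17), (640,17), (68,35), (1780,17), (1201,43)])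

def t0_26 : Term := (1, 182, 15, [(2651,42), (935,4), (2117,17), (1514,3), (2473,42), (1622,23), (2486,25), (1724,17), (2385,52), (1276,42), (2156,17), (856,17), (2795,3), (2556,3), (1987,45)])

def t0_27 : Term := (1, 186, 4, [(2300,47), (2402,6), (2534,6), (2394,6), (918,47), (2473,11), (219,41), (979,23), (2314,6), (1085,47), (2310,47), (2540,6), (2304,15), (1032,47), (2467,15)])

def t0_28 : Term := (1, 191, 37, [(2190,41), (1561,7), (2694,23), (1123,35), (1690,55), (1910,19), (2091,15), (2598,37), (878,42), (2265,63), (2528,55), (786,44), (2162,16), (1549,22), (1042,8)])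

def t0_29 : Term := (1, 196, 5, [(1128,48), (1594,1), (1011,59), (2636,0), (2808,0), (2297,17), (2497,41), (2298,1), (2807,28), (1063,62), (2423,41), (127,6), (2236,48), (2635,42), (1592,17)])

def t0_30 : Term := (1, 199, 0, [(586,19), (265,61), (385,26), (115,51), (398,26), (260,61), (888,58), (109,31), (571,16), (717,61), (255,61), (20,58), (642,45), (87,38), (885,54)])

def t0_31 : Term := (1, 204, 11, [(1178,48), (2383,35), (2109,57), (1741,17), (2293,35), (2054,61), (2147,17), (871,43), (2547,58), (2610,62), (1665,0), (1986,61), (2705,34), (1575,17), (1723,22)])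

def t0_32 : Term := (1, 208, 6, [(1505,17), (2741,38), (2428,37), (2813,24), (1771,19), (2543,43), (1914,17), (2792,17), (2399,30), (2290,45), (2465,28), (1686,3), (1989,19), (2040,43), (2045,40)])

def t0_33 : Term := (1, 210, 38, [(1151,1), (1108,39), (2046,1), (1171,27), (1305,1), (1215,11), (2040,31), (2043,48), (2041,6), (1456,18), (1130,1), (1242,6), (1870,17), (214,20), (1272,6)])

def t0_34 : Term := (1, 112, 4, [(514,4), (2782,4), (2674,0), (2753,9), (2655,44), (2752,4), (1061,35), (2768,4), (2377,37), (2412,0), (916,4), (1841,0), (1728,19), (2767,25), (2781,4)])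

def t0_35 : Term := (1, 214, 37, [(1290,58), (1524,48), (2230,52), (183,5), (725,52), (715,17), (180,51), (597,3), (1072,4), (1291,47), (1449,20), (726,17), (955,37), (1059,36), (334,17)])

def t0_36 : Term := (1, 215, 1, [(272,17), (1675,53), (514,4), (578,43), (333,4), (579,11), (119,17), (659,18), (211,4), (916,4), (369,17), (1061,35), (409,4), (1676,6), (660,47)])

def t0_37 : Term := (1, 218, 38, [(2238,11), (2562,39), (346,0), (1303,34), (1188,2), (1210,11), (785,31), (2817,22), (2682,54), (352,0), (1144,1), (2582,61), (2508,2), (1186,41), (2597,54)])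

def t0_38 : Term := (1, 95, 0, [(5,0), (94,0), (10,0), (286,29), (89,0), (15,0), (71,0), (403,45), (99,0), (376,23), (22,0), (453,0), (320,52), (456,0), (52,0)])

def t0_39 : Term := (1, 199, 8, [(1330,26), (918,38), (1360,11), (2314,37), (1345,26), (928,31), (2392,45), (2304,45), (2079,47), (2081,23), (2400,58), (2538,58), (2472,58), (933,37), (413,57)])

def t0_40 : Term := (1, 219, 10, [(2031,20), (841,20), (1984,0), (687,44), (842,51), (1885,45), (1967,21), (237,17), (675,45), (2167,44), (2033,20), (693,58), (1887,28), (2168,38), (1886,58)])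

def t0_41 : Term := (1, 220, 8, [(117,0), (550,6), (1284,0), (640,35), (1822,54), (1373,0), (367,0), (965,47), (1937,2), (1059,0), (270,0), (724,0), (1483,51), (1261,35), (964,33)])

def t0_42 : Term := (1, 222, 13, [(555,45), (259,6), (375,31), (890,6), (1066,48), (76,47), (887,11), (1229,17), (304,2), (554,54), (131,45), (324,62), (1014,44), (379,18), (1223,0)])

def t0_43 : Term := (1, 227, 37, [(1073,35), (896,0), (79,1), (1253,30), (392,7), (712,42), (901,57), (1711,28), (2324,12), (1075,46), (2351,2), (720,28), (1065,28), (1257,0), (2273,42)])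

def t0_44 : Term := (1, 145, 12, [(472,0), (1799,60), (1802,44), (1708,17), (1800,50), (953,0), (1399,50), (69,23), (1804,42), (891,0), (395,44), (1637,60), (394,31), (1533,17), (396,42)])

def t0_45 : Term := (1, 148, 12, [(214,23), (1108,38), (1151,0), (775,45), (1129,59), (2640,45), (1109,51), (778,43), (1150,4), (2645,63), (1172,28), (1130,62), (777,43), (776,41), (1171,32)])

def t0_46 : Term := (1, 228, 38, [(846,0), (2267,16), (2778,60), (2518,35), (1314,52), (748,0), (1130,0), (1750,0), (2470,6), (2100,43), (1272,4), (2104,0), (2369,7), (1572,1), (2040,0)])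

def t0_47 : Term := (1, 237, 15, [(2001,29), (1946,29), (2730,0), (1145,36), (1922,22), (2432,39), (1143,36), (2560,29), (2478,13), (1250,52), (1324,32), (2636,46), (2771,53), (527,32), (2254,57)])

def t0_48 : Term := (1, 241, 6, [(1096,37), (418,19), (1733,19), (232,44), (2042,34), (2407,43), (1305,19), (342,37), (2074,49), (1955,44), (760,44), (1888,18), (1750,16), (2103,45), (2766,48)])

def t0_49 : Term := (1, 243, 38, [(176,17), (127,6), (103,50), (178,17), (88,29), (2,0), (128,7), (4,0), (51,4), (446,50), (275,58), (20,0), (25,2), (97,0), (13,2)])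

def t0_50 : Term := (1, 248, 15, [(2233,57), (1285,25), (633,43), (1484,4), (893,60), (1008,45), (1400,4), (1071,39), (1069,43), (1423,43), (1802,4), (1820,43), (384,45), (118,25), (383,45)])

def t0_51 : Term := (1, 253, 10, [(2339,63), (1147,32), (2345,63), (2831,26), (1341,46), (1407,11), (2196,10), (2772,7), (841,39), (1356,47), (2168,24), (2827,4), (860,52), (1168,9), (2335,63)])

def t0_52 : Term := (1, 255, 6, [(1054,7), (2323,37), (631,58), (2227,4), (728,0), (629,45), (718,0), (1447,4), (1287,7), (630,45), (1281,7), (62,20), (1064,7), (2406,48), (2420,20)])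

def t0_53 : Term := (1, 257, 2, [(14,2), (260,15), (206,0), (385,48), (64,0), (296,31), (4,0), (586,7), (41,0), (193,7), (9,7), (188,2), (81,0), (360,57), (583,0)])

def t0_54 : Term := (1, 261, 13, [(1033,31), (840,7), (2350,21), (1146,2), (821,49), (2727,31), (1340,1), (1270,1), (2254,57), (2728,53), (2597,15), (1325,27), (1474,50), (1125,34), (2598,2)])

def t0_55 : Term := (1, 266, 15, [(2602,35), (2484,35), (2167,63), (1963,8), (1984,42), (1899,1), (2746,32), (841,10), (1923,31), (765,35), (1943,28), (1769,28), (237,52), (1463,39), (2033,52)])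

def t0_56 : Term := (1, 271, 38, [(1204,6), (2733,53), (832,42), (1918,37), (989,42), (1117,45), (1605,23), (2184,2), (2740,1), (870,42), (2355,17), (2670,6), (1999,17), (1159,54), (1635,38)])

def t0_57 : Term := (1, 277, 15, [(1757,49), (1356,7), (1498,59), (2699,5), (986,34), (2278,51), (1516,38), (2492,20), (2067,36), (1611,7), (1860,49), (1126,49), (2779,58), (2797,21), (753,0)])

def t0_58 : Term := (1, 282, 38, [(2112,0), (537,24), (2378,48), (814,0), (1694,63), (1576,56), (1619,56), (519,56), (1665,7), (2514,62), (2653,33), (998,25), (2654,22), (2353,25), (1643,13)])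

def t0_59 : Term := (1, 252, 5, [(2366,14), (1845,58), (2540,5), (1938,21), (2023,5), (731,14), (1978,21), (1672,20), (2702,10), (2161,10), (1703,21), (2029,21), (2536,5), (584,10), (967,21)])

def t0_60 : Term := (1, 284, 9, [(96,18), (2257,20), (1199,43), (1253,9), (2274,20), (1192,43), (1229,60), (161,18), (17,43), (1283,22), (131,18), (1259,57), (194,18), (1289,60), (1223,57)])

def t0_61 : Term := (1, 285, 9, [(2162,19), (1323,6), (2581,37), (821,25), (2091,33), (2010,44), (2598,16), (1561,38), (2308,45), (1543,25), (2192,16), (1566,31), (2682,16), (1910,49), (2730,16)])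

def t0_62 : Term := (1, 142, 0, [(158,35), (296,42), (171,17), (644,17), (163,17), (153,35), (81,20), (898,17), (386,42), (480,28), (57,23), (485,17), (285,23), (402,20), (287,33)])

def t0_63 : Term := (1, 148, 6, [(605,43), (864,18), (1614,43), (863,50), (807,43), (682,43), (826,18), (748,43), (806,43), (1599,43), (825,18), (220,18), (523,18), (844,43), (845,18)])

def t0_64 : Term := (1, 288, 2, [(15,2), (466,40), (6,17), (469,40), (65,0), (470,36), (5,0), (102,23), (36,17), (16,42), (10,7), (11,35), (61,35), (467,36), (103,50)])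

def t0_65 : Term := (1, 294, 2, [(1839,20), (1564,45), (228,20), (1445,20), (1472,61), (1440,20), (543,45), (1559,61), (815,20), (531,45), (1973,20), (537,45), (1466,58), (1518,45), (1513,45)])

def t0_66 : Term := (1, 107, 5, [(851,17), (907,15), (301,35), (1281,59), (2058,17), (2752,47), (1157,35), (1670,17), (2090,17), (390,42), (1349,42), (167,17), (1767,17), (2099,6), (2601,40)])

def t0_67 : Term := (1, 298, 37, [(1822,0), (1708,62), (1479,4), (462,0), (1490,13), (975,14), (1779,61), (513,0), (1406,49), (1478,4), (1627,20), (149,16), (1019,37), (650,4), (332,5)])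

def t0_68 : Term := (1, 300, 38, [(2809,17), (1622,49), (1578,16), (532,17), (2117,14), (1636,13), (1606,61), (1730,4), (2651,42), (2770,19), (2157,20), (837,22), (1249,4), (526,58), (2515,5)])

def t0_69 : Term := (1, 303, 38, [(194,0), (269,28), (1452,18), (714,0), (1252,52), (663,0), (1013,0), (1670,0), (2226,0), (2272,34), (1023,25), (1821,0), (2352,7), (970,18), (1287,61)])

def t0_70 : Term := (1, 306, 12, [(2788,4), (2402,2), (1619,40), (2212,0), (2705,16), (2823,61), (1774,0), (1798,11), (2551,20), (2008,41), (2446,16), (2547,16), (2316,22), (2109,16), (2452,0)])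

def t0_71 : Term := (1, 112, 6, [(1559,0), (2466,38), (2672,4), (2083,18), (2656,0), (1157,11), (2481,39), (1348,43), (2378,0), (2410,4), (2286,0), (1839,4), (1729,0), (2052,15), (2594,15)])

def t0_72 : Term := (1, 308, 13, [(896,19), (2322,20), (499,16), (2321,38), (2352,50), (1189,2), (1398,50), (58,17), (1196,43), (479,19), (549,45), (547,60), (907,6), (2367,18), (548,17)])

def t0_73 : Term := (1, 313, 2, [(593,51), (1533,20), (1672,17), (724,61), (1426,24), (334,51), (734,58), (511,38), (1375,12), (208,58), (1708,20), (1483,3), (671,31), (1232,57), (1202,43)])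

def t0_74 : Term := (1, 316, 0, [(751,1), (835,23), (1089,2), (2675,31), (1766,11), (1300,7), (2710,49), (2815,26), (1548,1), (1813,45), (2120,27), (2157,33), (2359,47), (1337,20), (2556,34)])

def t0_75 : Term := (1, 321, 9, [(615,16), (2375,5), (1145,37), (1503,46), (2496,49), (990,16), (1303,21), (2396,19), (1725,5), (1497,39), (758,5), (1836,45), (2584,49), (1830,52), (1094,14)])

def t0_76 : Term := (1, 326, 38, [(1847,2), (1486,22), (588,7), (1962,34), (1289,1), (1199,11), (720,11), (483,23), (655,20), (668,7), (1711,2), (1223,6), (465,40), (17,6), (1253,6)])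

def t0_77 : Term := (1, 330, 37, [(1643,17), (2252,3), (2653,17), (2494,35), (2025,28), (1619,29), (2186,7), (2734,17), (2187,20), (1208,6), (2403,35), (1763,18), (2113,57), (344,35), (1917,18)])

def t0_78 : Term := (1, 293, 10, [(2133,45), (1327,15), (2761,40), (2811,25), (1326,26), (2762,47), (1988,61), (2586,17), (788,23), (2812,46), (622,20), (2134,58), (2602,1), (2135,61), (1860,58)])

def t0_79 : Term := (1, 331, 10, [(209,0), (1201,2), (407,0), (640,42), (914,7), (331,0), (1405,7), (965,25), (512,0), (1260,42), (1431,0), (550,26), (1947,26), (963,47), (1380,2)])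

def t0_80 : Term := (1, 336, 10, [(1971,33), (1442,33), (1837,23), (534,27), (1556,15), (540,11), (1469,11), (225,7), (1562,11), (1510,5), (1463,15), (528,11), (1516,7), (1437,23), (1433,47)])

def t0_81 : Term := (1, 257, 10, [(1734,5), (1101,5), (1956,5), (1928,42), (1307,5), (1944,5), (2692,21), (1916,4), (767,5), (1927,35), (1990,5), (848,51), (1915,4), (847,62), (2498,14)])

def t0_82 : Term := (1, 338, 7, [(629,35), (106,23), (1074,0), (471,27), (1451,47), (712,1), (663,42), (468,47), (464,23), (668,28), (636,28), (1022,42), (1447,47), (738,41), (706,7)])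

def t0_83 : Term := (1, 343, 37, [(239,35), (536,17), (767,42), (755,34), (1664,28), (1465,36), (1558,29), (849,18), (1693,20), (1881,7), (811,37), (1862,18), (542,36), (233,35), (1687,43)])

def t0_84 : Term := (1, 348, 0, [(1201,43), (1843,24), (1060,51), (2504,31), (1820,17), (1780,35), (1070,20), (1078,31), (331,20), (1202,36), (1231,43), (2502,51), (334,48), (1232,18), (1779,3)])

def t0_85 : Term := (1, 353, 37, [(1189,6), (1398,5), (959,0), (2367,17), (126,7), (952,38), (2328,38), (2255,37), (455,28), (1421,11), (907,53), (962,20), (1522,16), (548,0), (405,60)])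

def t0_86 : Term := (1, 111, 0, [(162,45), (453,61), (488,51), (22,51), (478,20), (107,38), (501,5), (33,45), (476,20), (575,34), (1056,14), (110,51), (654,16), (960,49), (722,21)])

def t0_87 : Term := (1, 356, 37, [(2458,18), (2819,55), (2394,0), (1776,0), (2007,59), (1092,39), (2332,45), (690,4), (1807,24), (2368,17), (1136,7), (1564,22), (2446,39), (2648,0), (338,22)])

def t0_88 : Term := (1, 239, 7, [(1680,45), (2773,3), (2153,58), (2744,23), (2698,25), (1051,45), (2697,19), (1871,31), (1829,38), (2116,45), (1852,20), (679,20), (1496,45), (2622,4), (2651,6)])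

def t0_89 : Term := (1, 358, 4, [(2549,51), (1108,38), (1210,43), (1109,51), (447,50), (2554,31), (1208,43), (775,45), (1821,60), (2561,51), (2550,51), (2559,20), (1960,43), (2556,51), (1209,57)])

def t0_90 : Term := (1, 364, 37, [(2671,6), (1966,38), (2017,31), (984,19), (2693,9), (1813,18), (1578,27), (1205,30), (2116,28), (1320,31), (2809,2), (1409,36), (2736,21), (800,14), (1636,45)])

def t0_91 : Term := (1, 365, 7, [(2321,62), (459,36), (1012,12), (460,22), (458,50), (1287,21), (1398,43), (24,43), (1486,60), (653,3), (2322,62), (1257,12), (1536,43), (728,45), (1064,5)])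

def t0_92 : Term := (1, 238, 8, [(2128,5), (1593,5), (1933,58), (1755,41), (2582,0), (1355,43), (2561,14), (2193,31), (2722,0), (1921,45), (2712,21), (857,20), (2163,0), (2454,35), (2448,51)])

def t0_93 : Term := (1, 220, 6, [(1604,4), (1694,20), (1269,51), (702,54), (2053,2), (2742,0), (2552,14), (1507,51), (2085,7), (2573,47), (2306,4), (2593,33), (2025,0), (2188,62), (2355,33)])

def t0_94 : Term := (1, 288, 11, [(1553,0), (2520,14), (2307,14), (1882,3), (2263,37), (2628,21), (2452,3), (2551,50), (1318,3), (2280,0), (2552,16), (2621,44), (2317,41), (1507,19), (1113,3)])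

def t0_95 : Term := (1, 370, 0, [(1035,42), (2260,17), (683,28), (1602,35), (1500,28), (1268,42), (848,42), (2588,42), (2619,28), (2372,40), (1346,28), (2179,28), (1956,45), (1634,6), (1153,42)])

def t0_96 : Term := (1, 376, 38, [(2025,31), (2820,58), (2187,20), (2083,45), (1952,10), (2252,54), (1741,30), (2384,34), (1905,20), (601,18), (2707,37), (929,45), (1318,40), (938,45), (2269,45)])

def t0_97 : Term := (1, 383, 15, [(1267,16), (790,44), (353,49), (1433,58), (423,16), (2171,54), (747,30), (1865,54), (2441,44), (675,49), (1149,49), (249,49), (2775,58), (862,44), (1995,16)])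

def t0_98 : Term := (1, 238, 12, [(2777,19), (1328,0), (2444,49), (825,0), (1313,0), (2763,49), (1129,0), (2437,31), (2450,7), (2748,19), (2101,43), (1108,0), (1796,45), (806,0), (2137,41)])

def t0_99 : Term := (1, 385, 37, [(1310,0), (2288,4), (857,7), (2454,35), (2712,62), (686,0), (2582,16), (2129,53), (2029,54), (1593,33), (1303,16), (1777,53), (819,60), (1340,0), (2817,53)])

def t0_100 : Term := (1, 335, 3, [(1414,53), (632,41), (2418,48), (451,60), (362,29), (71,50), (2416,48), (1010,62), (1006,62), (1789,63), (1787,41), (1415,60), (299,48), (59,55), (298,59)])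

def t0_101 : Term := (1, 142, 1, [(144,11), (142,6), (559,23), (199,23), (1015,22), (508,0), (29,6), (482,27), (572,46), (489,17), (41,23), (583,6), (657,39), (910,0), (719,2)])

def t0_102 : Term := (1, 388, 15, [(1023,4), (54,4), (1013,29), (165,22), (884,53), (1287,42), (319,25), (576,22), (546,48), (637,25), (2327,61), (739,22), (1977,45), (1526,25), (1228,45)])

def t0_103 : Term := (1, 393, 9, [(1125,20), (1099,38), (1942,45), (2522,42), (1094,20), (2483,31), (1946,61), (1167,20), (434,43), (2630,22), (1146,20), (2516,31), (1104,20), (2658,60), (2496,51)])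

def t0_104 : Term := (1, 397, 15, [(2745,40), (821,4), (940,22), (2163,56), (1509,25), (603,17), (1756,48), (1503,52), (621,48), (2522,17), (2822,51), (2282,22), (1778,48), (2130,13), (1415,32)])

def t0_105 : Term := (1, 400, 10, [(250,28), (936,42), (220,42), (791,48), (808,35), (214,35), (412,28), (775,38), (541,28), (1203,11), (226,28), (523,42), (917,57), (517,35), (336,28)])

def t0_106 : Term := (1, 253, 11, [(677,12), (830,63), (2438,48), (1465,56), (1461,61), (1264,35), (1471,52), (743,2), (2506,52), (1030,24), (1294,29), (2789,54), (1132,55), (2785,58), (1082,52)])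

def t0_107 : Term := (1, 288, 5, [(704,17), (2176,17), (1309,0), (1874,42), (634,17), (2199,0), (1052,35), (2204,0), (641,17), (1103,0), (1280,42), (769,0), (666,17), (1869,17), (2171,17)])

def t0_108 : Term := (1, 202, 5, [(2010,45), (792,20), (2352,50), (1328,54), (2718,61), (2720,61), (985,18), (1329,45), (983,18), (547,60), (2722,61), (2367,18), (2717,61), (984,36), (1908,54)])

def t0_109 : Term := (1, 169, 9, [(253,0), (1219,2), (217,2), (1205,43), (939,7), (223,7), (339,0), (920,0), (544,0), (924,11), (229,0), (520,2), (1209,0), (526,7), (415,0)])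

def t0_110 : Term := (1, 403, 38, [(1478,47), (1260,33), (650,57), (211,17), (2234,57), (1019,35), (1261,42), (582,17), (639,49), (208,0), (1007,61), (651,3), (314,35), (1453,22), (956,22)])

def t0_111 : Term := (1, 407, 6, [(1598,28), (2512,38), (2173,57), (2518,20), (2390,28), (2176,43), (2301,28), (1816,29), (2666,28), (2172,43), (2639,28), (1902,18), (1759,28), (2834,60), (2833,50)])

def t0_112 : Term := (1, 413, 15, [(147,36), (1490,43), (1375,39), (1427,53), (1708,36), (274,12), (1529,13), (1232,28), (1406,20), (1453,43), (1292,63), (578,29), (208,18), (314,57), (724,18)])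

def t0_113 : Term := (1, 414, 14, [(1506,17), (2498,37), (2606,26), (1990,19), (2429,14), (2262,16), (2692,44), (2081,25), (1174,25), (2620,42), (2538,51), (2357,16), (2050,13), (1687,16), (1360,13)])

def t0_114 : Term := (1, 418, 0, [(1034,42), (2038,23), (681,28), (2637,17), (1498,28), (1267,42), (2602,6), (2299,17), (1739,6), (2371,40), (2135,23), (1595,17), (1898,35), (1633,6), (2812,26)])

def t0_115 : Term := (1, 203, 11, [(750,43), (1851,35), (2008,28), (2007,41), (1828,35), (2150,60), (2187,17), (246,43), (2823,28), (2213,18), (762,0), (2026,61), (2788,0), (870,20), (756,16)])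

def t0_116 : Term := (1, 420, 10, [(1862,17), (2347,22), (2424,35), (2006,44), (2251,49), (2676,42), (2305,3), (2787,29), (1471,16), (1997,37), (1603,3), (2807,45), (2789,23), (2803,52), (2641,3)])

def t0_117 : Term := (1, 199, 4, [(813,61), (117,38), (1623,31), (1430,58), (1606,51), (528,31), (1604,20), (1427,45), (816,61), (819,45), (1619,38), (1608,20), (1621,31), (534,20), (225,58)])

def t0_118 : Term := (1, 425, 5, [(730,45), (1717,20), (488,13), (2798,51), (1927,3), (2318,22), (588,20), (1985,45), (2472,12), (562,61), (1477,17), (586,20), (1718,20), (1987,61), (1621,22)])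

def t0_119 : Term := (1, 430, 38, [(2456,36), (676,43), (1359,49), (2077,12), (1902,8), (2301,21), (1750,23), (1645,47), (1100,23), (1091,10), (2104,12), (2833,11), (2814,33), (2666,0), (2518,41)])

def t0_120 : Term := (1, 431, 7, [(857,19), (2487,36), (527,31), (1220,13), (1836,58), (2462,19), (1163,37), (2412,29), (2396,37), (2126,45), (1353,44), (2128,58), (1503,31), (1549,13), (1897,19)])

def t0_121 : Term := (1, 435, 37, [(1188,35), (2690,21), (2562,61), (1000,35), (1909,41), (2682,0), (1354,7), (521,36), (2189,61), (2160,49), (1052,35), (2774,4), (1497,18), (2630,16), (746,60)])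

def t0_122 : Term := (1, 442, 38, [(2071,14), (2136,16), (1951,21), (1849,43), (2276,21), (2748,38), (2686,37), (2023,34), (1387,43), (1233,6), (932,5), (2303,45), (1383,38), (791,23), (2751,20)])

def t0_123 : Term := (1, 444, 37, [(1890,12), (2571,22), (1944,42), (1833,43), (2080,15), (2808,13), (2545,9), (2108,39), (1642,18), (810,41), (1133,13), (2424,18), (1135,57), (1234,28), (2050,9)])

def t0_124 : Term := (1, 434, 38, [(354,7), (1951,42), (2437,2), (2024,0), (2071,52), (777,2), (1749,7), (1682,0), (2748,19), (2530,16), (2450,7), (806,0), (1328,0), (2289,0), (2103,2)])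

def t0_125 : Term := (1, 447, 37, [(254,60), (1000,52), (859,4), (609,60), (2774,23), (1436,2), (2242,1), (1220,2), (521,16), (1210,59), (981,61), (2756,7), (2238,2), (346,60), (416,21)])

def t0_126 : Term := (1, 222, 14, [(1245,45), (1383,18), (1641,31), (2250,43), (2455,2), (342,62), (2244,53), (1771,0), (1791,35), (1242,54), (827,45), (1888,0), (2428,42), (1645,6), (1760,17)])

def t0_127 : Term := (1, 227, 15, [(1300,28), (2017,50), (2221,29), (1548,28), (2671,41), (351,2), (2710,39), (2264,2), (1813,31), (1606,29), (2270,57), (2155,30), (2157,29), (2515,43), (1931,29)])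

def t0_128 : Term := (1, 452, 37, [(1961,60), (1480,25), (479,4), (111,17), (1844,63), (961,37), (1477,31), (723,0), (713,49), (2476,58), (1489,22), (564,19), (1066,14), (2419,18), (2274,5)])

def t0_129 : Term := (1, 107, 2, [(1044,17), (2041,42), (1698,17), (2073,17), (418,42), (2477,51), (694,17), (1749,42), (232,17), (1791,17), (1275,17), (1811,17), (342,35), (2768,36), (2104,43)])

def t0_130 : Term := (1, 455, 15, [(1042,4), (1954,25), (2091,39), (1520,4), (1933,42), (2528,17), (340,25), (1864,4), (2691,23), (2516,4), (2334,61), (758,22), (2166,45), (1624,25), (1240,45)])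

def t0_131 : Term := (1, 204, 7, [(1719,43), (840,18), (2584,59), (1725,16), (2189,17), (2527,0), (1896,35), (1736,43), (2727,28), (1144,62), (2461,17), (2062,41), (2595,17), (2000,20), (2123,0)])

def t0_132 : Term := (1, 457, 15, [(1404,40), (916,30), (1784,43), (1484,3), (1377,50), (1010,58), (1801,47), (1820,20), (1845,39), (666,42), (965,25), (1071,7), (50,45), (461,44), (1525,0)])

def t0_133 : Term := (1, 114, 14, [(1558,0), (2655,0), (2679,55), (1728,0), (2641,0), (2480,0), (2377,0), (2381,19), (2799,51), (2285,0), (2457,20), (2305,0), (2661,19), (1603,0), (2800,62)])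

def t0_134 : Term := (1, 462, 37, [(1950,2), (1405,19), (1637,7), (1802,13), (396,1), (369,43), (1799,43), (1400,29), (1948,54), (472,33), (1639,2), (383,53), (671,0), (44,0), (408,53)])

def t0_135 : Term := (1, 463, 13, [(2720,60), (2773,43), (2090,29), (1591,50), (1829,35), (984,47), (2809,29), (995,17), (1336,7), (1908,53), (421,43), (2387,36), (1966,6), (2671,42), (800,7)])

def t0_136 : Term := (1, 403, 15, [(2496,0), (2271,16), (2020,58), (1561,16), (2009,63), (2580,16), (1410,16), (878,22), (2595,56), (1355,42), (1206,15), (1690,4), (1037,29), (875,38), (985,29)])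

def t0_137 : Term := (1, 199, 7, [(668,16), (436,38), (1521,31), (1959,13), (1475,51), (439,31), (1074,37), (1819,45), (1421,61), (1422,45), (1022,16), (1523,38), (1477,38), (440,13), (54,58)])

def t0_138 : Term := (1, 468, 38, [(1074,8), (1065,14), (66,10), (2489,27), (1257,55), (628,21), (643,21), (2405,21), (1075,29), (2231,20), (1057,5), (1058,63), (324,58), (1197,23), (1673,14)])

def t0_139 : Term := (1, 281, 38, [(1620,5), (2112,42), (2370,48), (228,0), (1576,12), (1631,13), (2109,31), (1878,17), (2378,0), (1604,3), (1589,5), (625,4), (1647,22), (2647,13), (2650,13)])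

def t0_140 : Term := (1, 321, 14, [(1465,3), (988,35), (2571,3), (612,17), (928,39), (2341,16), (1134,16), (2506,0), (1772,54), (2245,3), (2401,37), (1213,46), (2400,29), (530,22), (1773,41)])

def t0_141 : Term := (1, 471, 38, [(181,34), (1669,51), (1450,46), (118,34), (1009,46), (410,11), (512,11), (1423,39), (660,51), (1491,42), (1656,14), (384,26), (1709,11), (1381,20), (904,54)])

def t0_142 : Term := (1, 472, 0, [(167,35), (190,45), (390,17), (470,4), (906,15), (301,42), (16,20), (889,9), (967,6), (163,8), (193,45), (951,37), (386,12), (296,12), (192,61)])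

def t0_143 : Term := (1, 330, 15, [(2223,43), (1221,41), (375,45), (2419,43), (890,53), (1064,35), (503,4), (1066,35), (897,22), (881,43), (1824,4), (2476,39), (76,45), (447,25), (1229,45)])

def t0_144 : Term := (1, 475, 37, [(1074,35), (897,0), (628,0), (648,19), (1221,0), (66,35), (1652,42), (565,17), (890,4), (2322,61), (1671,0), (116,17), (289,35), (1258,0), (449,35)])

def t0_145 : Term := (1, 480, 11, [(1969,29), (1444,62), (2606,2), (868,52), (2291,0), (1546,29), (1558,52), (2567,13), (1174,34), (2381,46), (2141,63), (1573,1), (2050,52), (2105,7), (2715,50)])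

def t0_146 : Term := (1, 480, 6, [(2178,35), (600,46), (2800,60), (978,46), (2285,62), (2016,29), (2587,42), (1234,32), (1393,52), (2277,31), (2723,17), (2210,53), (1176,55), (867,29), (1850,46)])

def t0_147 : Term := (1, 486, 10, [(1442,20), (2703,53), (1562,45), (1768,63), (2064,18), (1556,61), (1911,10), (2668,23), (2069,23), (1538,49), (2463,21), (2397,4), (1963,1), (2781,51), (2683,21)])

def t0_148 : Term := (1, 365, 2, [(889,36), (18,6), (399,45), (262,47), (898,29), (261,50), (886,36), (268,47), (910,18), (266,50), (256,18), (558,14), (88,43), (386,54), (559,3)])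

def t0_149 : Term := (1, 490, 37, [(882,25), (575,44), (399,23), (4,3), (163,63), (52,37), (590,58), (178,5), (400,42), (942,16), (195,54), (20,19), (72,16), (295,18), (297,19)])

def t0_150 : Term := (1, 239, 14, [(635,45), (896,15), (1259,48), (1251,48), (958,58), (2255,45), (1705,7), (1073,35), (1253,19), (2351,6), (2321,25), (1526,25), (161,17), (1257,6), (2225,6)])

def t0_151 : Term := (1, 132, 13, [(1085,45), (1661,7), (2344,21), (1644,1), (1441,49), (2540,47), (1632,7), (1186,42), (2248,57), (2534,51), (2583,43), (1390,49), (1468,50), (1415,27), (2560,46)])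

def t0_152 : Term := (1, 425, 1, [(2740,16), (768,18), (1299,43), (1729,43), (2083,39), (1619,0), (2370,20), (1553,60), (2051,22), (2608,20), (2216,43), (2574,20), (1929,39), (2316,0), (2551,22)])

def t0_153 : Term := (1, 491, 12, [(1598,43), (1571,38), (807,19), (1645,19), (2444,7), (517,23), (1663,44), (1658,0), (523,4), (1613,57), (1572,30), (1570,48), (806,43), (2512,35), (1641,48)])

def t0_154 : Term := (1, 492, 37, [(879,60), (558,55), (320,17), (197,22), (584,35), (74,0), (363,11), (134,0), (89,22), (325,17), (286,35), (22,5), (15,0), (191,17), (277,5)])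

def t0_155 : Term := (1, 257, 1, [(130,37), (359,56), (6,19), (295,43), (75,44), (386,11), (135,19), (562,44), (29,19), (16,44), (125,44), (11,37), (57,37), (261,58), (559,19)])

def t0_156 : Term := (1, 222, 9, [(471,23), (30,15), (468,47), (169,0), (564,40), (106,47), (202,47), (577,6), (565,23), (576,1), (146,6), (141,26), (592,6), (136,47), (589,26)])

def t0_157 : Term := (1, 493, 6, [(1358,0), (1328,19), (2798,5), (825,44), (2565,37), (1517,48), (1171,7), (1129,37), (1826,45), (2739,48), (863,7), (2814,0), (1493,20), (1438,45), (1511,48)])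

def t0_158 : Term := (1, 500, 37, [(2737,13), (2157,20), (1894,51), (2533,22), (2515,44), (2482,31), (2151,28), (2057,35), (1606,9), (2510,28), (1496,36), (1945,54), (1032,17), (433,2), (2629,53)])

def t0_159 : Term := (1, 501, 38, [(1300,17), (1335,20), (2221,28), (1577,36), (799,52), (351,7), (614,7), (1142,7), (2735,58), (2343,51), (1554,22), (817,0), (1336,0), (1118,2), (818,2)])

def t0_160 : Term := (1, 505, 15, [(335,51), (2779,32), (2133,44), (1244,43), (2797,39), (1237,2), (1304,43), (2463,21), (1611,38), (2199,42), (2299,15), (2759,18), (347,31), (1297,60), (2752,4)])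

def t0_161 : Term := (1, 253, 14, [(842,37), (1382,62), (2828,34), (2243,56), (2239,47), (1148,8), (2249,52), (861,52), (2832,6), (1342,19), (1169,34), (2195,30), (2743,0), (2167,49), (1357,33)])

def t0_162 : Term := (1, 506, 1, [(2466,16), (1564,43), (2696,43), (1445,18), (2725,12), (2212,5), (1547,43), (1559,60), (2591,3), (2634,50), (1917,49), (2760,43), (2184,12), (2402,5), (1774,5)])

def t0_163 : Term := (1, 512, 15, [(1573,11), (2605,10), (2357,33), (1773,5), (1154,11), (2717,11), (1361,5), (1388,46), (2695,14), (2789,21), (1152,6), (2277,7), (1277,51), (749,21), (2513,40)])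

def t0_164 : Term := (1, 514, 15, [(1047,0), (2690,44), (2527,16), (1515,0), (2189,49), (2093,35), (785,44), (1725,3), (1909,37), (2365,0), (2597,49), (877,16), (1719,45), (2126,44), (1144,23)])

def t0_165 : Term := (1, 515, 8, [(534,4), (2827,47), (2249,37), (2828,17), (1244,44), (2509,31), (1214,4), (2171,11), (991,37), (2345,4), (931,4), (1469,19), (616,19), (2132,38), (2096,4)])

def t0_166 : Term := (1, 208, 1, [(153,16), (571,16), (167,16), (265,61), (960,16), (80,26), (171,16), (398,15), (575,16), (301,16), (158,16), (390,16), (654,16), (267,54), (53,45)])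

def t0_167 : Term := (1, 284, 8, [(824,45), (2022,20), (1611,45), (2012,34), (1612,51), (843,45), (1769,20), (862,45), (1597,38), (1596,45), (1758,20), (213,20), (805,45), (1912,37), (1924,20)])

def t0_168 : Term := (1, 516, 38, [(1458,40), (831,41), (1114,51), (1878,22), (923,11), (216,2), (607,7), (625,0), (1319,44), (2114,60), (1113,38), (228,0), (420,0), (919,0), (1218,2)])

def t0_169 : Term := (1, 84, 8, [(1075,4), (1485,15), (375,10), (1535,16), (458,50), (289,3), (669,39), (455,23), (1486,60), (141,5), (1023,22), (284,5), (1536,43), (146,45), (379,12)])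

def t0_170 : Term := (1, 521, 37, [(1857,17), (1742,20), (2410,45), (2706,56), (2708,55), (2150,17), (1138,28), (798,17), (2286,30), (531,23), (2594,37), (1348,6), (1729,17), (1660,17), (2634,12)])

def t0_171 : Term := (1, 392, 5, [(762,45), (740,20), (210,45), (739,51), (245,51), (247,31), (246,20), (43,45), (761,45), (211,61), (756,61), (49,20), (755,45), (757,54), (763,54)])

def t0_172 : Term := (1, 523, 38, [(2524,33), (2820,41), (2402,0), (1765,0), (1905,63), (1040,37), (2332,31), (756,16), (1952,24), (2353,17), (1136,7), (1518,19), (2514,37), (2654,20), (338,19)])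

def t0_173 : Term := (1, 526, 38, [(1380,21), (1479,52), (1803,25), (50,5), (1822,62), (905,37), (1530,21), (666,3), (975,0), (1401,24), (1782,21), (461,19), (1061,14), (1843,4), (1020,17)])

def t0_174 : Term := (1, 219, 3, [(426,43), (428,53), (85,43), (1047,31), (425,43), (631,45), (797,18), (1042,38), (795,18), (313,20), (1040,51), (312,38), (1045,38), (62,20), (630,45)])

def t0_175 : Term := (1, 532, 38, [(1818,23), (1308,57), (1265,6), (702,23), (684,36), (1088,19), (216,30), (246,37), (2786,6), (426,41), (1114,44), (1472,38), (1083,19), (2316,58), (1458,20)])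

def t0_176 : Term := (1, 533, 38, [(1183,47), (2796,14), (2058,11), (2671,42), (2709,0), (2554,47), (544,61), (2017,17), (1046,17), (2533,40), (235,20), (1813,39), (2057,13), (1945,4), (1883,22)])

def t0_177 : Term := (1, 284, 1, [(1262,43), (334,20), (44,45), (1232,43), (1256,43), (1226,43), (294,20), (1202,60), (274,20), (1406,50), (1292,43), (1403,36), (1286,43), (314,20), (1195,43)])

def t0_178 : Term := (1, 535, 3, [(2818,57), (1989,18), (591,43), (623,43), (2146,50), (2158,29), (2166,18), (1861,18), (1997,0), (575,53), (2491,48), (133,18), (1891,35), (2816,57), (2422,62)])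

def t0_179 : Term := (1, 539, 13, [(184,16), (45,19), (180,16), (50,19), (85,0), (397,42), (44,19), (394,53), (393,43), (314,16), (181,16), (69,0), (310,6), (48,0), (311,11)])

def t0_180 : Term := (1, 316, 5, [(527,28), (1583,17), (300,63), (1790,55), (1588,28), (1400,28), (925,28), (2427,52), (2546,28), (372,47), (1210,28), (457,28), (2108,28), (1017,56), (1224,33)])

def t0_181 : Term := (1, 491, 10, [(1264,6), (809,20), (2587,45), (251,44), (1616,54), (1573,45), (1234,6), (811,17), (1601,45), (1294,19), (2568,58), (812,31), (2603,28), (1574,45), (2567,58)])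

def t0_182 : Term := (1, 400, 0, [(854,28), (1744,11), (685,28), (1907,35), (1502,28), (1160,28), (2088,42), (2554,42), (2122,28), (2374,40), (1607,28), (2118,28), (1957,45), (1636,6), (2056,35)])

def t0_183 : Term := (1, 110, 4, [(1265,43), (2596,20), (2351,58), (2595,51), (2587,51), (773,45), (2591,20), (1266,43), (1573,38), (2255,45), (1741,20), (635,18), (1264,43), (1147,20), (1148,20)])

def t0_184 : Term := (1, 544, 4, [(1576,30), (2771,30), (572,57), (2756,19), (2382,13), (846,43), (2294,30), (1876,29), (1833,36), (481,43), (1857,18), (158,18), (1500,43), (1914,18), (1926,18)])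

def t0_185 : Term := (1, 196, 4, [(824,23), (1715,6), (652,40), (2681,17), (2783,23), (1852,23), (1769,6), (1909,35), (2787,23), (727,47), (1758,6), (122,6), (1457,23), (2697,7), (1680,6)])

def t0_186 : Term := (1, 284, 6, [(623,43), (1727,18), (2312,48), (1551,50), (1972,43), (700,43), (1989,18), (766,43), (1838,43), (2302,48), (1861,18), (250,18), (541,18), (1505,43), (1692,18)])

def t0_187 : Term := (1, 137, 15, [(2372,0), (1316,21), (1574,0), (1862,16), (2382,7), (2718,47), (2627,5), (849,22), (2472,48), (1134,0), (1494,20), (755,0), (2048,26), (2546,10), (2142,21)])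

def t0_188 : Term := (1, 407, 2, [(1735,31), (874,20), (247,31), (1879,38), (1565,31), (1730,31), (1666,54), (1883,20), (1446,54), (763,54), (1724,38), (757,61), (1560,51), (769,54), (1554,31)])

def t0_189 : Term := (1, 545, 12, [(1863,3), (800,19), (1895,23), (614,19), (1352,16), (2677,42), (784,19), (2576,35), (2151,45), (2425,3), (1908,29), (1162,16), (2460,17), (856,16), (2154,52)])

def t0_190 : Term := (1, 547, 9, [(2155,17), (2295,54), (2577,35), (1446,25), (2816,3), (2720,42), (2555,3), (1560,38), (2525,31), (1542,25), (2119,3), (1565,31), (2579,49), (1966,45), (1920,3)])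

def t0_191 : Term := (1, 548, 9, [(1669,57), (2504,19), (1950,19), (956,30), (2436,49), (1843,50), (1804,49), (450,38), (1397,62), (2329,4), (1704,57), (955,50), (953,36), (2325,50), (1784,34)])

def t0_192 : Term := (1, 348, 10, [(2036,17), (2535,38), (1886,35), (2131,20), (2529,20), (2068,35), (1885,3), (2441,42), (1297,48), (1550,34), (2035,3), (2095,35), (765,0), (1726,62), (2067,8)])

def t0_193 : Term := (1, 552, 38, [(1074,35), (1252,42), (628,28), (1481,4), (269,11), (66,7), (146,7), (555,0), (2226,4), (952,51), (658,17), (1425,0), (1189,60), (959,33), (460,2)])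

def t0_194 : Term := (1, 506, 8, [(347,3), (1267,12), (843,12), (1034,29), (675,3), (219,24), (237,12), (681,24), (789,8), (699,3), (423,12), (1149,3), (773,3), (249,45), (213,3)])

def t0_195 : Term := (1, 186, 3, [(1611,15), (601,6), (2161,23), (2212,23), (2206,47), (2116,47), (1596,15), (2183,33), (2177,47), (2124,47), (213,23), (746,6), (518,6), (2153,33), (679,15)])

def t0_196 : Term := (1, 556, 38, [(2683,37), (2637,4), (1127,0), (2643,34), (1169,2), (2427,35), (771,31), (1720,22), (2283,3), (773,17), (982,7), (1510,19), (1815,17), (1086,18), (1407,37)])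

def t0_197 : Term := (1, 562, 15, [(805,58), (1357,37), (598,49), (2249,58), (2068,19), (2743,8), (2266,54), (2170,54), (926,61), (2167,42), (2642,61), (1994,49), (1899,49), (2602,44), (1148,16)])

def t0_198 : Term := (1, 567, 15, [(1720,36), (699,29), (1510,50), (1726,36), (1469,53), (2643,3), (1747,30), (528,37), (243,18), (1988,43), (231,60), (1657,60), (1562,18), (687,50), (540,18)])

def t0_199 : Term := (1, 109, 7, [(2482,49), (1409,17), (1931,57), (1384,18), (1724,24), (854,23), (1560,17), (1435,17), (2374,24), (1919,43), (2287,28), (853,18), (2495,39), (1920,4), (1932,6)])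

def t0_200 : Term := (1, 284, 11, [(214,45), (2303,15), (2471,42), (936,43), (2391,40), (2640,43), (2313,26), (1100,48), (2465,44), (2645,50), (2537,7), (2399,47), (1048,48), (996,18), (2531,49)])

def t0_201 : Term := (1, 572, 38, [(1759,48), (1832,24), (2531,62), (2700,36), (863,55), (1493,20), (1302,7), (987,37), (1760,21), (2312,62), (2039,42), (2739,38), (1721,0), (1511,31), (1129,27)])

def t0_202 : Term := (1, 492, 38, [(2227,26), (570,55), (1190,57), (739,16), (1978,2), (304,35), (959,28), (576,17), (900,16), (1448,36), (1189,60), (165,3), (161,17), (738,20), (952,19)])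

def t0_203 : Term := (1, 84, 5, [(1818,24), (2301,36), (2432,12), (2311,50), (922,50), (2374,4), (1868,12), (1203,23), (2637,47), (1690,22), (1798,3), (2360,22), (2642,23), (1724,4), (2495,5)])

def t0_204 : Term := (1, 573, 0, [(44,0), (371,1), (50,0), (67,7), (121,0), (45,1), (367,0), (83,2), (274,0), (368,1), (117,0), (46,0), (271,1), (118,1), (270,0)])

def t0_205 : Term := (1, 574, 9, [(1219,6), (1351,6), (2486,45), (2264,25), (1352,26), (2411,45), (2499,61), (1279,6), (223,23), (2281,46), (1249,6), (2364,58), (1309,6), (2379,61), (2425,58)])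

def t0_206 : Term := (1, 577, 15, [(668,7), (1668,18), (17,45), (1667,43), (440,18), (465,23), (1976,29), (708,13), (1650,29), (1421,43), (1521,29), (1819,43), (548,43), (1522,29), (630,60)])

def t0_207 : Term := (1, 579, 15, [(1098,0), (2673,46), (2459,4), (1560,0), (2217,25), (2089,7), (783,46), (1689,5), (1852,52), (2379,0), (2613,25), (855,4), (1684,31), (2118,46), (1140,29)])

def t0_208 : Term := (1, 580, 15, [(1106,58), (2283,30), (2685,23), (1126,45), (2637,26), (2413,58), (1147,61), (2699,24), (1169,45), (1865,42), (2356,25), (2492,7), (249,45), (1433,44), (2668,23)])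

def t0_209 : Term := (1, 486, 4, [(1419,18), (1061,38), (72,43), (452,50), (319,51), (2482,31), (1940,45), (709,45), (1058,20), (318,51), (2481,31), (63,20), (366,43), (1420,18), (1941,58)])

def t0_210 : Term := (1, 132, 9, [(1794,7), (2161,56), (1814,7), (2254,60), (2124,41), (1701,1), (1809,10), (1474,9), (746,48), (2127,46), (1789,14), (2350,30), (752,20), (2164,61), (1520,21)])

def t0_211 : Term := (1, 317, 4, [(531,0), (2100,0), (258,37), (2136,21), (1134,4), (2441,43), (1116,37), (2505,45), (988,14), (278,4), (929,0), (105,19), (612,5), (2131,5), (2095,0)])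

def t0_212 : Term := (1, 583, 37, [(360,4), (644,44), (885,19), (115,22), (571,63), (60,37), (87,31), (41,16), (193,7), (385,2), (276,35), (173,19), (328,37), (316,35), (9,19)])

def t0_213 : Term := (1, 587, 0, [(590,19), (500,62), (1063,19), (196,63), (457,63), (727,37), (895,12), (505,48), (502,59), (23,62), (646,3), (113,59), (114,48), (40,56), (477,3)])

def t0_214 : Term := (1, 589, 38, [(964,35), (1626,41), (2433,19), (184,17), (1783,2), (551,2), (1193,60), (49,0), (273,4), (1400,50), (2504,35), (475,5), (383,0), (1802,58), (452,14)])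

def t0_215 : Term := (1, 317, 3, [(414,2), (1870,54), (21,0), (1584,0), (419,21), (1567,0), (228,0), (1748,21), (233,5), (51,0), (338,7), (55,14), (343,14), (1873,41), (1737,5)])

def t0_216 : Term := (1, 592, 38, [(778,42), (2753,9), (2505,28), (2829,46), (927,11), (348,7), (611,7), (1641,0), (2702,33), (2340,51), (1551,22), (2075,0), (1901,0), (2203,54), (1438,2)])

def t0_217 : Term := (1, 593, 4, [(764,4), (1096,25), (404,4), (760,25), (714,25), (1095,4), (1306,4), (1305,4), (708,13), (323,4), (1099,4), (201,4), (740,4), (759,4), (1304,13)])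

def t0_218 : Term := (1, 594, 15, [(1176,0), (2498,0), (848,31), (1618,0), (2107,55), (1891,0), (1101,7), (695,16), (1969,2), (2341,4), (677,45), (1734,5), (2209,0), (1915,45), (2783,25)])

def t0_219 : Term := (1, 261, 10, [(1019,42), (2234,46), (1262,42), (894,15), (2330,27), (661,28), (1256,8), (475,33), (1454,32), (2233,15), (1009,12), (956,32), (1453,23), (2329,16), (651,24)])

def t0_220 : Term := (1, 170, 8, [(230,17), (2165,33), (1809,17), (2691,2), (1166,16), (2818,57), (340,35), (2817,15), (1042,35), (1789,17), (416,42), (1520,17), (692,17), (2491,7), (2166,18)])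

def t0_221 : Term := (1, 480, 12, [(1890,34), (1418,60), (1679,63), (1362,29), (1030,17), (2626,31), (2480,59), (2568,12), (1361,46), (2457,49), (2142,55), (1264,35), (2082,31), (677,42), (2716,33)])

def t0_222 : Term := (1, 597, 15, [(2269,16), (2494,0), (2707,58), (1559,19), (2734,63), (1741,16), (1798,42), (834,19), (1763,56), (1117,16), (1295,11), (1688,22), (832,38), (1204,11), (1036,36)])

def t0_223 : Term := (1, 257, 6, [(576,19), (1475,20), (1283,0), (1477,31), (970,37), (1424,63), (961,37), (1421,61), (1066,0), (1057,0), (1223,44), (723,0), (589,19), (1482,51), (1480,55)])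

def t0_224 : Term := (1, 603, 15, [(459,58), (1075,1), (141,49), (1371,31), (1257,30), (733,54), (1535,38), (131,33), (1065,30), (2322,29), (728,49), (458,54), (1258,49), (289,49), (1016,16)])

def t0_225 : Term := (1, 608, 37, [(1080,35), (905,0), (1201,26), (395,4), (1803,2), (902,43), (974,28), (1640,17), (1380,9), (1454,47), (550,2), (1947,3), (209,17), (397,0), (2501,53)])

def t0_226 : Term := (1, 615, 38, [(2148,45), (2053,51), (1851,20), (979,23), (1394,49), (2672,15), (1929,30), (2240,41), (2307,23), (1741,18), (2215,23), (414,6), (2707,40), (2269,45), (2246,45)])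

def t0_227 : Term := (1, 335, 9, [(1514,60), (1446,18), (1519,43), (538,9), (1565,53), (818,29), (1473,43), (532,53), (1560,60), (1974,4), (1435,36), (229,29), (1840,18), (544,43), (1467,60)])

def t0_228 : Term := (1, 145, 1, [(265,19), (5,18), (469,4), (172,60), (285,4), (647,50), (112,19), (173,53), (142,4), (888,4), (363,19), (950,37), (376,4), (171,53), (657,36)])

def t0_229 : Term := (1, 277, 38, [(1744,45), (1335,26), (2825,49), (924,27), (799,32), (1395,31), (2675,49), (1235,16), (2735,49), (1983,18), (2027,23), (1384,51), (2153,16), (2689,6), (1808,33)])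

def t0_230 : Term := (1, 620, 37, [(328,50), (575,37), (316,18), (132,3), (163,61), (385,4), (135,58), (437,57), (400,12), (941,5), (23,31), (18,4), (315,39), (71,45), (164,4)])

def t0_231 : Term := (1, 115, 8, [(251,0), (1087,7), (1307,0), (749,41), (355,0), (1082,0), (215,2), (1298,0), (431,0), (1101,0), (221,7), (767,0), (245,0), (743,54), (1294,2)])

def t0_232 : Term := (1, 622, 15, [(1089,28), (1753,49), (1368,45), (2815,60), (1322,41), (853,2), (2120,22), (1273,0), (835,29), (2671,52), (1621,29), (2577,37), (1813,31), (2017,29), (2364,29)])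

def t0_233 : Term := (1, 306, 3, [(1819,17), (2301,28), (642,17), (1598,28), (2304,17), (1427,17), (1485,17), (2639,28), (2177,17), (484,17), (2405,42), (1001,35), (1601,35), (1376,17), (1401,35)])

def t0_234 : Term := (1, 407, 13, [(242,43), (1520,36), (1696,43), (1441,43), (1701,58), (692,45), (1515,18), (859,2), (1509,25), (698,18), (1880,36), (1690,45), (704,2), (1661,20), (1884,7)])

def t0_235 : Term := (1, 521, 15, [(2219,25), (2287,10), (1858,45), (2089,23), (2611,13), (2411,45), (2697,4), (2459,45), (1907,39), (1730,7), (1161,25), (1098,7), (837,45), (532,25), (2579,29)])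

def t0_236 : Term := (1, 626, 15, [(1416,23), (803,10), (2541,7), (1815,23), (1677,2), (2132,45), (1943,31), (1086,4), (2022,31), (1326,1), (2033,7), (773,7), (1090,58), (2063,10), (2746,0)])

def t0_237 : Term := (1, 574, 13, [(217,43), (2673,56), (2651,45), (939,43), (2677,57), (1161,45), (2689,63), (1103,35), (2622,9), (1162,18), (2657,45), (2693,60), (1051,2), (999,20), (2629,22)])

def t0_238 : Term := (1, 632, 38, [(1453,51), (1784,42), (208,58), (1230,51), (1010,46), (314,45), (1194,23), (2434,52), (1404,34), (1628,57), (913,47), (556,40), (1935,17), (312,54), (1028,58)])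

def t0_239 : Term := (1, 486, 11, [(2045,45), (1557,41), (2669,45), (1443,48), (2464,2), (2543,31), (1563,63), (1968,43), (1770,45), (2040,63), (2782,5), (1913,0), (2398,0), (2684,2), (1545,16)])

def t0_240 : Term := (1, 636, 38, [(700,17), (2259,0), (1470,50), (1151,35), (1392,29), (244,0), (1645,7), (2046,2), (2137,44), (2684,19), (2833,22), (1215,0), (992,7), (2741,1), (2077,2)])

def t0_241 : Term := (1, 208, 11, [(1698,19), (2391,24), (2002,4), (1861,3), (1048,35), (1811,49), (1760,24), (1855,16), (2072,19), (1791,19), (2175,15), (846,42), (1849,16), (700,17), (2421,15)])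

def t0_242 : Term := (1, 217, 38, [(2730,17), (2712,7), (2001,0), (877,16), (2029,2), (2432,35), (1206,11), (1725,22), (2288,3), (1266,42), (985,7), (1515,19), (1167,35), (876,20), (1410,37)])

def t0_243 : Term := (1, 463, 5, [(2687,2), (2073,20), (1284,0), (1901,54), (1903,54), (499,0), (2388,18), (1964,1), (1965,2), (1059,0), (1910,54), (724,0), (2209,0), (1196,2), (907,0)])

def t0_244 : Term := (1, 420, 1, [(2,34), (128,16), (27,16), (123,34), (9,16), (127,49), (0,16), (133,49), (4,16), (26,49), (1,49), (25,34), (14,16), (122,16), (132,16)])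

def t0_245 : Term := (1, 637, 38, [(190,54), (103,7), (153,52), (105,22), (176,63), (61,39), (469,54), (6,22), (2,42), (191,43), (170,20), (35,22), (15,4), (325,22), (38,4)])

def t0_246 : Term := (1, 255, 9, [(1119,20), (1273,18), (2557,31), (2555,13), (1276,50), (2056,45), (2579,38), (1160,20), (351,48), (2237,57), (1140,20), (2578,59), (1182,20), (2333,16), (2058,58)])

def t0_247 : Term := (1, 641, 1, [(1278,43), (2520,20), (781,45), (2514,51), (1807,18), (1631,45), (2363,20), (1818,18), (2269,20), (350,20), (2263,51), (1158,38), (1389,58), (1159,20), (2358,20)])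

def t0_248 : Term := (1, 645, 15, [(949,43), (1002,43), (969,27), (1192,41), (2320,53), (1196,3), (1006,60), (573,41), (366,41), (943,43), (2420,19), (1979,34), (73,41), (553,37), (2475,18)])

def t0_249 : Term := (1, 313, 13, [(2029,50), (1593,4), (1310,63), (1755,19), (2165,31), (2019,45), (2193,57), (2801,13), (2282,25), (875,57), (2687,61), (2817,45), (2380,37), (2691,57), (2129,25)])

def t0_250 : Term := (1, 425, 14, [(1386,3), (423,28), (528,3), (347,17), (2067,27), (1411,39), (237,17), (2198,0), (1211,15), (1437,3), (2564,45), (1885,16), (926,60), (2035,16), (2757,40)])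

def t0_251 : Term := (1, 648, 8, [(417,43), (2066,18), (1326,57), (2713,28), (2509,49), (2068,23), (991,20), (2070,23), (2441,44), (1327,60), (986,20), (788,18), (1873,37), (2714,0), (2065,18)])

def t0_252 : Term := (1, 250, 2, [(2366,5), (388,20), (546,5), (264,47), (1252,31), (1227,21), (1703,5), (901,47), (1650,5), (552,14), (1978,21), (560,14), (897,23), (968,5), (585,5)])

def t0_253 : Term := (1, 225, 38, [(1866,0), (977,18), (1434,60), (2754,36), (412,52), (250,0), (342,0), (605,0), (2138,44), (1584,50), (2235,57), (808,0), (996,7), (517,1), (775,0)])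

def t0_254 : Term := (1, 649, 0, [(1491,43), (512,60), (650,50), (1431,50), (725,50), (492,60), (1454,57), (1428,29), (1534,53), (1062,62), (473,60), (118,57), (1009,48), (371,36), (1450,53)])

def t0_255 : Term := (1, 653, 37, [(174,14), (136,3), (43,24), (1487,14), (24,8), (471,53), (564,60), (577,29), (669,45), (665,44), (723,12), (506,43), (202,57), (510,12), (111,57)])

def t0_256 : Term := (1, 166, 37, [(1016,35), (900,16), (728,42), (1057,39), (1978,28), (1535,29), (499,29), (643,43), (570,20), (667,7), (972,35), (1673,18), (464,36), (12,35), (1823,18)])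

def t0_257 : Term := (1, 215, 12, [(1564,0), (1092,39), (2648,17), (756,22), (414,4), (1940,5), (1179,16), (2696,0), (1998,31), (1952,7), (2353,17), (338,4), (2524,0), (228,4), (2007,48)])

def t0_258 : Term := (1, 654, 38, [(1129,48), (1826,35), (2039,35), (1438,9), (2013,52), (1302,7), (2780,41), (611,30), (2391,21), (2390,55), (2798,59), (1551,1), (2455,62), (1358,1), (1614,1)])

def t0_259 : Term := (1, 655, 37, [(746,35), (1910,54), (1052,42), (2658,28), (2694,7), (1354,7), (940,57), (2125,57), (2190,54), (1187,46), (2745,29), (1609,1), (2584,28), (2681,47), (603,60)])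

def t0_260 : Term := (1, 414, 8, [(1659,3), (1683,3), (2649,3), (1173,4), (997,3), (2082,50), (1630,12), (2049,47), (1247,3), (2362,3), (1642,24), (1693,3), (624,3), (1361,4), (1679,3)])

def t0_261 : Term := (1, 370, 12, [(1998,45), (2573,4), (607,18), (1751,9), (2052,22), (2188,8), (2149,9), (1940,41), (832,41), (1857,28), (1419,8), (1930,32), (1136,12), (2084,32), (2481,12)])

def t0_262 : Term := (1, 626, 37, [(839,35), (1609,22), (1745,20), (876,35), (2658,1), (1125,38), (2478,38), (1266,28), (2125,28), (2818,49), (1922,13), (1167,20), (2721,46), (1094,22), (1946,61)])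

def t0_263 : Term := (1, 395, 37, [(1036,7), (923,28), (1295,42), (833,0), (831,35), (1798,2), (2548,31), (1723,16), (1319,21), (2591,0), (1752,17), (1513,22), (2358,37), (1775,17), (2481,17)])

def t0_264 : Term := (1, 663, 37, [(2185,60), (1036,52), (2280,24), (1157,62), (1295,24), (1501,14), (1905,2), (2550,22), (1798,45), (1605,56), (1952,8), (782,60), (1635,36), (2355,60), (2820,18)])

def t0_265 : Term := (1, 668, 15, [(2345,42), (2759,28), (2169,58), (1391,24), (1244,12), (1993,40), (789,15), (2038,15), (2463,56), (534,28), (2509,60), (2828,38), (1662,28), (1691,52), (429,35)])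

def t0_266 : Term := (1, 204, 0, [(635,35), (1002,42), (662,17), (2405,42), (643,17), (628,35), (1228,18), (1819,17), (1251,42), (1066,59), (1065,48), (1485,17), (324,48), (379,18), (1475,17)])

def t0_267 : Term := (1, 479, 11, [(1234,32), (1881,41), (2145,63), (1867,48), (918,0), (600,9), (1877,63), (1131,13), (1457,62), (978,46), (828,63), (518,1), (2236,13), (809,7), (1330,50)])

def t0_268 : Term := (1, 653, 15, [(1469,57), (1581,25), (699,53), (1556,57), (622,29), (243,12), (1437,18), (2638,16), (225,18), (1732,18), (610,18), (1685,36), (1971,18), (693,18), (1550,18)])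

def t0_269 : Term := (1, 673, 37, [(2193,14), (2165,3), (358,24), (2029,39), (1623,8), (1270,14), (1503,14), (2712,39), (2448,31), (1921,24), (2282,12), (2288,50), (1958,59), (2687,3), (2163,44)])

def t0_270 : Term := (1, 675, 37, [(2344,37), (2412,4), (2632,22), (340,35), (1859,63), (2388,49), (2000,36), (2334,36), (2164,42), (1745,49), (2418,39), (1240,19), (839,16), (1125,39), (2729,14)])

def t0_271 : Term := (1, 677, 38, [(1296,55), (1871,56), (854,29), (1467,17), (1182,57), (1185,39), (2510,32), (769,22), (217,17), (751,43), (1032,20), (241,22), (1279,4), (872,22), (433,13)])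

def t0_272 : Term := (1, 681, 37, [(2755,18), (2526,54), (608,7), (2119,13), (1352,1), (1219,43), (2118,43), (1970,43), (2318,32), (751,7), (1684,2), (2499,20), (872,0), (1279,2), (2379,38)])

def t0_273 : Term := (1, 331, 11, [(2591,48), (1364,0), (2363,7), (870,0), (2317,14), (1265,60), (1178,0), (2696,4), (1278,17), (1741,55), (2353,7), (2507,47), (2263,61), (1620,5), (2007,63)])

def t0_274 : Term := (1, 683, 15, [(2251,16), (1277,42), (2016,58), (1603,3), (749,63), (2182,40), (2676,17), (761,16), (2789,39), (1347,42), (2106,38), (1699,3), (2006,45), (866,38), (1827,42)])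

def t0_275 : Term := (1, 321, 12, [(661,3), (292,37), (1484,16), (149,19), (1381,2), (1262,42), (382,44), (1639,17), (1653,45), (1019,3), (1479,16), (1406,7), (1627,17), (1432,0), (1654,52)])

def t0_276 : Term := (1, 686, 3, [(2466,20), (2242,7), (1345,43), (2338,14), (1781,45), (1043,20), (1348,43), (1353,60), (310,20), (2472,20), (2083,50), (2079,36), (1783,58), (1038,20), (423,43)])

def t0_277 : Term := (1, 690, 37, [(948,32), (453,63), (78,34), (288,3), (124,34), (260,39), (57,58), (646,22), (497,3), (55,22), (390,49), (112,4), (92,22), (123,27), (945,61)])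

def t0_278 : Term := (1, 691, 11, [(2085,45), (1751,28), (2111,57), (2573,17), (1723,48), (1363,62), (2149,17), (1982,23), (2549,58), (2532,47), (1589,36), (871,62), (2707,34), (1665,41), (2633,15)])

def t0_279 : Term := (1, 694, 38, [(603,45), (1338,26), (2745,8), (2298,27), (801,32), (940,45), (2712,47), (2660,16), (2727,37), (2092,42), (2029,23), (2248,58), (2599,17), (1809,33), (2288,58)])

def t0_280 : Term := (1, 306, 4, [(1535,0), (1613,1), (507,2), (2644,0), (1616,0), (1379,0), (2475,2), (2311,1), (2314,2), (1053,0), (1959,0), (717,0), (2206,0), (1404,7), (1430,0)])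

def t0_281 : Term := (1, 412, 15, [(1252,10), (1844,10), (2226,46), (655,1), (1480,14), (269,12), (2328,9), (1289,28), (713,20), (629,14), (405,63), (1486,10), (711,20), (309,57), (907,18)])

def t0_282 : Term := (1, 480, 3, [(2725,3), (2575,46), (725,29), (2152,39), (1443,29), (505,57), (2184,24), (2719,22), (1563,53), (1534,57), (2591,12), (512,60), (1557,60), (113,53), (196,29)])

def t0_283 : Term := (1, 365, 12, [(1174,43), (2588,62), (2048,19), (2605,48), (2438,2), (2606,50), (1110,51), (337,23), (2590,3), (2050,50), (1213,44), (1132,62), (1153,29), (2506,17), (1216,46)])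

def t0_284 : Term := (1, 282, 37, [(305,41), (104,25), (16,23), (103,17), (5,63), (158,19), (466,55), (176,19), (42,42), (65,52), (203,55), (2,19), (186,34), (157,6), (31,30)])

def t0_285 : Term := (1, 695, 10, [(2258,20), (918,20), (2695,19), (542,44), (2314,54), (2005,44), (2236,20), (1603,17), (2304,45), (2275,44), (2808,5), (1618,31), (2679,6), (1903,49), (2807,3)])

def t0_286 : Term := (1, 176, 15, [(2429,16), (1315,42), (2567,3), (1506,3), (2381,42), (1587,40), (2692,19), (1444,3), (2538,48), (779,17), (1965,61), (618,16), (1174,23), (2569,28), (2105,42)])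

def t0_287 : Term := (1, 701, 15, [(2448,32), (2092,25), (1623,32), (2721,40), (2599,9), (2165,28), (1566,4), (2818,17), (1809,39), (2334,45), (692,4), (1094,39), (1240,45), (340,4), (1992,45)])

def t0_288 : Term := (1, 480, 1, [(2728,3), (2001,21), (1897,12), (2159,14), (821,29), (2562,59), (2190,24), (2528,21), (1566,53), (2462,24), (2596,12), (1549,60), (1561,60), (1123,55), (2060,52)])

def t0_289 : Term := (1, 238, 7, [(2120,5), (1591,5), (2027,51), (1753,55), (2577,0), (1368,11), (2556,14), (2221,45), (2720,0), (2017,31), (2710,21), (872,54), (2155,0), (2521,35), (2515,58)])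

def t0_290 : Term := (1, 704, 38, [(2469,7), (2299,32), (2765,18), (2529,49), (1304,1), (1214,11), (2811,9), (2757,23), (2752,8), (1455,18), (2397,7), (1241,6), (1869,17), (213,20), (1271,6)])

def t0_291 : Term := (1, 94, 12, [(702,3), (222,19), (678,23), (252,19), (426,16), (1278,42), (216,19), (1269,17), (1265,43), (1050,3), (684,29), (350,16), (1031,17), (240,16), (1036,11)])

def t0_292 : Term := (1, 238, 14, [(1163,23), (2010,0), (2516,26), (2162,0), (2009,4), (2600,38), (2581,0), (2508,2), (2522,7), (2599,40), (2810,0), (2559,4), (1167,35), (2126,4), (2826,63)])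

def t0_293 : Term := (1, 709, 15, [(2107,46), (2082,46), (2498,18), (2546,25), (1646,48), (1969,23), (2807,4), (1134,37), (2572,53), (810,46), (1996,29), (2048,46), (1135,36), (1234,54), (1792,57)])

def t0_294 : Term := (1, 714, 37, [(1093,22), (1592,19), (2087,63), (2737,13), (2805,33), (2460,17), (1766,17), (2482,31), (1648,20), (1103,28), (2121,15), (1894,12), (679,42), (1367,2), (2521,62)])

def t0_295 : Term := (1, 293, 1, [(2667,43), (1102,20), (216,45), (2656,43), (2672,43), (2650,43), (998,20), (2628,60), (938,20), (1137,20), (2670,43), (1138,20), (2688,43), (1050,20), (2621,43)])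

def t0_296 : Term := (1, 358, 7, [(2717,60), (811,36), (1588,43), (812,22), (810,50), (1035,31), (983,20), (251,43), (1602,60), (2732,43), (2718,60), (1087,20), (1617,43), (2724,32), (1587,57)])

def t0_297 : Term := (1, 597, 37, [(882,39), (162,63), (399,6), (135,3), (574,34), (52,39), (296,32), (164,22), (317,3), (444,39), (398,11), (23,4), (19,22), (133,16), (308,17)])

def t0_298 : Term := (1, 720, 38, [(1293,31), (1460,21), (793,53), (1470,16), (1874,56), (1796,34), (1902,44), (244,16), (220,24), (778,41), (676,45), (700,16), (348,37), (2505,19), (1100,19)])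

def t0_299 : Term := (1, 727, 37, [(830,54), (2732,37), (1867,58), (2429,50), (1601,44), (251,31), (1617,31), (1587,31), (2480,9), (2372,23), (2268,29), (2567,31), (2718,38), (1574,17), (2587,20)])

def t0_300 : Term := (1, 728, 7, [(548,45), (707,61), (631,58), (708,2), (440,58), (17,43), (549,54), (66,31), (54,38), (630,45), (58,20), (62,20), (439,45), (2257,13), (2274,51)])

def t0_301 : Term := (1, 145, 8, [(1556,0), (1147,15), (1382,2), (1148,0), (2492,16), (1034,31), (2479,39), (773,23), (2371,14), (1407,7), (2283,0), (1433,0), (1720,5), (2685,7), (2683,59)])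

def t0_302 : Term := (1, 479, 4, [(1763,12), (1653,24), (1842,3), (1627,24), (2666,12), (1011,12), (2183,24), (1484,43), (1759,12), (1673,8), (2394,24), (2419,24), (2390,3), (652,8), (574,24)])

def t0_303 : Term := (1, 729, 4, [(1933,16), (2748,48), (883,52), (2749,59), (2615,0), (884,63), (2599,35), (2138,47), (2241,41), (882,63), (2242,56), (437,59), (2027,19), (2228,56), (2232,56)])

def t0_304 : Term := (1, 734, 37, [(1121,5), (1296,31), (1743,33), (2408,5), (854,8), (836,60), (2816,50), (1793,61), (1185,29), (2651,25), (2719,48), (2018,29), (2117,44), (1622,14), (1041,59)])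

def t0_305 : Term := (1, 736, 10, [(1471,19), (1812,35), (2251,37), (749,44), (1792,42), (2347,4), (1155,3), (2207,17), (1699,17), (743,37), (849,3), (2108,31), (2205,17), (2106,48), (1347,3)])

def t0_306 : Term := (1, 741, 15, [(1420,25), (2622,46), (1754,38), (1883,0), (1542,25), (2821,5), (1322,22), (235,0), (2152,52), (2281,4), (835,58), (544,4), (2154,54), (1502,46), (1753,31)])

def t0_307 : Term := (1, 381, 37, [(2619,22), (2457,61), (2451,54), (1110,39), (2304,49), (2275,31), (1812,46), (343,39), (1097,10), (1734,6), (2803,36), (2236,51), (695,22), (1618,17), (2005,37)])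

def t0_308 : Term := (1, 375, 15, [(2762,36), (1899,18), (2032,49), (1326,43), (2167,37), (1785,20), (2811,61), (2063,18), (2602,45), (1581,18), (1271,19), (1090,49), (622,45), (225,44), (2397,48)])

def t0_309 : Term := (1, 745, 38, [(1312,55), (842,55), (2066,7), (1720,16), (1980,2), (1043,35), (2469,35), (2643,46), (1612,17), (1610,23), (2765,50), (1510,17), (2361,35), (1716,20), (1214,13)])

def t0_310 : Term := (1, 751, 38, [(533,33), (1370,18), (1661,0), (2561,58), (2462,35), (1731,2), (2030,2), (1306,2), (2308,0), (1853,0), (2558,58), (2801,5), (2161,2), (2674,46), (2483,4)])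

def t0_311 : Term := (1, 756, 38, [(1078,5), (1427,23), (86,24), (2325,57), (578,33), (310,21), (902,21), (1070,45), (1232,61), (1820,51), (1080,19), (709,48), (1071,58), (1484,11), (1201,40)])

def t0_312 : Term := (1, 593, 3, [(434,2), (354,7), (42,0), (430,0), (66,0), (353,0), (248,0), (244,7), (43,0), (39,7), (358,7), (38,2), (82,0), (429,2), (243,0)])

def t0_313 : Term := (1, 317, 12, [(468,4), (548,2), (2223,15), (564,0), (439,2), (949,16), (554,7), (1073,11), (2319,58), (887,4), (2321,38), (448,7), (1022,31), (459,0), (2225,57)])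

def t0_314 : Term := (1, 335, 6, [(2429,48), (2620,36), (2445,48), (2649,18), (1347,43), (425,29), (1792,41), (1049,48), (1413,29), (2451,62), (1642,53), (1797,41), (2415,20), (1045,38), (795,57)])

def t0_315 : Term := (1, 757, 37, [(320,29), (485,44), (879,4), (100,22), (167,62), (74,4), (97,31), (29,22), (404,21), (321,41), (446,3), (168,4), (327,35), (389,45), (25,4)])

def t0_316 : Term := (1, 762, 37, [(886,37), (654,44), (280,19), (27,3), (480,62), (77,4), (727,58), (177,22), (192,24), (950,22), (496,31), (3,4), (63,39), (377,16), (154,4)])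

def t0_317 : Term := (1, 764, 38, [(1309,17), (2287,30), (1181,2), (2453,7), (1907,52), (685,0), (2576,0), (1767,0), (2611,59), (2809,50), (1184,7), (2122,0), (1578,36), (1636,53), (2056,0)])

def t0_318 : Term := (1, 308, 10, [(2199,0), (2765,49), (1869,35), (2767,47), (2779,49), (2171,17), (1237,47), (2752,18), (2750,16), (1241,0), (2397,18), (2781,37), (341,0), (1244,47), (2389,50)])

def t0_319 : Term := (1, 767, 15, [(229,7), (1366,40), (1879,45), (939,7), (1875,41), (626,26), (1209,0), (602,26), (223,2), (1409,21), (345,14), (2744,21), (1205,7), (984,10), (2237,10)])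

def t0_320 : Term := (1, 306, 5, [(455,17), (517,17), (97,35), (917,28), (809,17), (270,17), (445,17), (1203,17), (918,35), (92,35), (436,17), (87,17), (518,17), (367,42), (117,17)])

def t0_321 : Term := (1, 768, 15, [(2450,0), (936,4), (1749,31), (1438,22), (1748,55), (2103,11), (1417,4), (611,22), (599,48), (1914,25), (2834,0), (1551,22), (826,45), (1545,25), (2078,45)])

def t0_322 : Term := (1, 209, 15, [(804,57), (1848,18), (1924,43), (822,43), (1597,50), (1712,35), (841,60), (2012,12), (861,43), (1455,18), (1963,60), (1492,18), (213,43), (1869,36), (1769,43)])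

def t0_323 : Term := (1, 770, 12, [(1765,3), (989,37), (1763,23), (613,19), (1333,16), (2667,42), (1243,44), (2592,35), (2183,45), (2395,3), (1764,29), (1137,16), (2394,17), (833,16), (2185,52)])

def t0_324 : Term := (1, 776, 15, [(604,17), (516,8), (1107,42), (1865,45), (824,35), (1737,38), (1207,8), (1433,38), (2772,8), (788,28), (341,42), (249,42), (2239,17), (411,8), (2097,17)])

def t0_325 : Term := (1, 780, 15, [(1847,1), (460,30), (1199,27), (1482,10), (658,2), (588,28), (2273,19), (1488,54), (146,45), (631,7), (2351,7), (2624,27), (1702,45), (1959,44), (901,19)])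

def t0_326 : Term := (1, 336, 9, [(510,53), (116,53), (487,43), (460,32), (506,53), (101,29), (471,53), (24,53), (198,29), (490,22), (468,57), (459,29), (165,18), (111,43), (106,60)])

def t0_327 : Term := (1, 574, 7, [(626,45), (1730,20), (856,58), (1554,39), (1974,51), (703,45), (1991,20), (769,45), (1840,38), (855,45), (1863,20), (253,20), (544,45), (1508,13), (1695,20)])

def t0_328 : Term := (1, 400, 1, [(2557,42), (1735,6), (2796,32), (1666,23), (2578,46), (2120,27), (1622,1), (1724,26), (1932,32), (2526,6), (1983,23), (2385,33), (2156,46), (2556,34), (2710,27)])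

def t0_329 : Term := (1, 707, 15, [(2589,0), (847,50), (1216,45), (2207,17), (1362,41), (2793,34), (1772,53), (2305,35), (1904,2), (983,16), (2625,52), (1856,16), (1332,58), (809,29), (1413,38)])

def t0_330 : Term := (1, 593, 7, [(241,17), (1367,17), (1185,35), (873,41), (357,0), (1366,42), (351,35), (1182,35), (433,0), (1368,42), (427,42), (874,17), (247,0), (872,54), (1181,17)])

def t0_331 : Term := (1, 781, 15, [(2452,0), (938,4), (1349,31), (1440,22), (1318,55), (1177,17), (1419,4), (613,22), (601,48), (2263,4), (2552,51), (1553,22), (2214,45), (1547,25), (2086,45)])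

def t0_332 : Term := (1, 539, 10, [(530,0), (1388,0), (1213,0), (2047,31), (1413,0), (928,0), (349,0), (2079,62), (1439,0), (2080,48), (239,0), (1915,2), (2048,51), (1916,7), (425,0)])

def t0_333 : Term := (1, 556, 15, [(1400,40), (1800,33), (1802,26), (1490,3), (1402,40), (383,42), (953,25), (1406,24), (409,23), (1077,0), (67,61), (1708,0), (407,23), (69,61), (381,23)])

def t0_334 : Term := (1, 418, 10, [(1263,42), (2078,36), (676,35), (2301,43), (1493,42), (1029,17), (2490,62), (2639,15), (1750,43), (2455,29), (2140,18), (1598,42), (1888,58), (1645,60), (2814,43)])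

def t0_335 : Term := (1, 196, 11, [(979,23), (2823,28), (2353,17), (2332,20), (1765,59), (2402,47), (2824,0), (1905,35), (2696,23), (2394,6), (2368,1), (1776,62), (2007,2), (625,41), (2680,23)])

def t0_336 : Term := (1, 116, 14, [(1867,22), (431,4), (2785,52), (245,4), (425,0), (1817,7), (355,4), (1457,19), (2789,4), (1797,22), (2783,45), (349,0), (1461,19), (239,0), (2787,4)])

def t0_337 : Term := (1, 336, 0, [(1972,29), (1443,36), (1838,50), (535,57), (1557,53), (541,60), (1470,60), (226,29), (1563,53), (1511,53), (1464,60), (529,57), (1517,43), (1438,36), (1434,29)])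

def t0_338 : Term := (1, 573, 10, [(358,0), (1125,0), (248,2), (785,31), (821,7), (434,2), (1122,0), (801,62), (1325,2), (1123,45), (819,0), (539,2), (1324,63), (820,2), (1323,0)])

def t0_339 : Term := (1, 783, 38, [(932,7), (1091,28), (2686,46), (1599,22), (2666,32), (2751,34), (1081,57), (2792,16), (2814,7), (917,34), (424,22), (2782,19), (2102,16), (418,61), (2204,2)])

def t0_340 : Term := (1, 567, 38, [(1511,37), (1470,0), (2312,10), (529,14), (244,10), (1721,33), (232,11), (1658,15), (700,31), (688,24), (541,14), (1727,47), (1989,15), (1563,23), (1740,37)])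

def t0_341 : Term := (1, 784, 15, [(1781,19), (1284,44), (1373,16), (649,19), (2326,38), (293,17), (367,19), (1262,13), (716,43), (2501,16), (450,50), (1483,50), (974,48), (550,61), (291,48)])

def t0_342 : Term := (1, 791, 37, [(509,37), (35,3), (144,21), (145,13), (105,9), (110,53), (28,60), (172,60), (6,38), (4,44), (201,13), (40,36), (178,50), (20,37), (99,36)])

def t0_343 : Term := (1, 169, 0, [(7,0), (96,0), (12,0), (445,0), (91,0), (17,0), (73,0), (436,0), (101,0), (438,0), (24,0), (455,0), (447,0), (458,0), (54,0)])

def t0_344 : Term := (1, 414, 10, [(1862,3), (1277,12), (2676,3), (867,25), (1049,24), (2424,3), (1812,24), (2016,4), (701,3), (866,13), (1699,3), (1850,12), (2015,4), (1856,24), (1792,12)])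

def t0_345 : Term := (1, 794, 4, [(2494,3), (2455,15), (2496,12), (1721,37), (2492,3), (970,3), (1723,37), (2289,23), (2371,37), (1725,19), (2373,19), (2375,19), (1720,19), (589,3), (1066,19)])

def t0_346 : Term := (1, 284, 3, [(2667,43), (1104,20), (2,43), (2658,43), (2641,43), (2651,43), (998,20), (2630,60), (937,20), (911,51), (2670,43), (899,38), (2646,43), (1051,20), (2622,43)])

def t0_347 : Term := (1, 364, 38, [(2008,13), (1541,31), (869,38), (1751,13), (2621,8), (1350,6), (2648,6), (2547,13), (2212,32), (2316,36), (2368,26), (2416,45), (1083,3), (426,11), (2446,58)])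

def t0_348 : Term := (1, 796, 38, [(2669,33), (1545,7), (2813,60), (2045,46), (1914,52), (1039,7), (1686,7), (1245,22), (826,42), (2399,48), (1557,5), (1150,7), (1964,38), (1913,7), (2302,1)])

def t0_349 : Term := (1, 250, 11, [(2716,46), (1500,62), (2048,25), (2382,0), (1574,2), (2142,4), (1833,63), (849,43), (2590,21), (2568,22), (1439,4), (2106,0), (1153,31), (2292,0), (1512,5)])

def ts0_0 : List Term := [t0_0, t0_1, t0_2, t0_3, t0_4, t0_5, t0_6, t0_7, t0_8, t0_9, t0_10, t0_11, t0_12, t0_13, t0_14, t0_15, t0_16, t0_17, t0_18, t0_19, t0_20, t0_21, t0_22, t0_23, t0_24, t0_25, t0_26, t0_27, t0_28, t0_29, t0_30, t0_31, t0_32, t0_33, t0_34, t0_35, t0_36, t0_37, t0_38, t0_39, t0_40, t0_41, t0_42, t0_43, t0_44, t0_45, t0_46, t0_47, t0_48, t0_49]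

def ts0_1 : List Term := [t0_50, t0_51, t0_52, t0_53, t0_54, t0_55, t0_56, t0_57, t0_58, t0_59, t0_60, t0_61, t0_62, t0_63, t0_64, t0_65, t0_66, t0_67, t0_68, t0_69, t0_70, t0_71, t0_72, t0_73, t0_74, t0_75, t0_76, t0_77, t0_78, t0_79, t0_80, t0_81, t0_82, t0_83, t0_84, t0_85, t0_86, t0_87, t0_88, t0_89, t0_90, t0_91, t0_92, t0_93, t0_94, t0_95, t0_96, t0_97, t0_98, t0_99]

def ts0_2 : List Term := [t0_100, t0_101, t0_102, t0_103, t0_104, t0_105, t0_106, t0_107, t0_108, t0_109, t0_110, t0_111, t0_112, t0_113, t0_114, t0_115, t0_116, t0_117, t0_118, t0_119, t0_120, t0_121, t0_122, t0_123, t0_124, t0_125, t0_126, t0_127, t0_128, t0_129, t0_130, t0_131, t0_132, t0_133, t0_134, t0_135, t0_136, t0_137, t0_138, t0_139, t0_140, t0_141, t0_142, t0_143, t0_144, t0_145, t0_146, t0_147, t0_148, t0_149]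

def ts0_3 : List Term := [t0_150, t0_151, t0_152, t0_153, t0_154, t0_155, t0_156, t0_157, t0_158, t0_159, t0_160, t0_161, t0_162, t0_163, t0_164, t0_165, t0_166, t0_167, t0_168, t0_169, t0_170, t0_171, t0_172, t0_173, t0_174, t0_175, t0_176, t0_177, t0_178, t0_179, t0_180, t0_181, t0_182, t0_183, t0_184, t0_185, t0_186, t0_187, t0_188, t0_189, t0_190, t0_191, t0_192, t0_193, t0_194, t0_195, t0_196, t0_197, t0_198, t0_199]

def ts0_4 : List Term := [t0_200, t0_201, t0_202, t0_203, t0_204, t0_205, t0_206, t0_207, t0_208, t0_209, t0_210, t0_211, t0_212, t0_213, t0_214, t0_215, t0_216, t0_217, t0_218, t0_219, t0_220, t0_221, t0_222, t0_223, t0_224, t0_225, t0_226, t0_227, t0_228, t0_229, t0_230, t0_231, t0_232, t0_233, t0_234, t0_235, t0_236, t0_237, t0_238, t0_239, t0_240, t0_241, t0_242, t0_243, t0_244, t0_245, t0_246, t0_247, t0_248, t0_249]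

def ts0_5 : List Term := [t0_250, t0_251, t0_252, t0_253, t0_254, t0_255, t0_256, t0_257, t0_258, t0_259, t0_260, t0_261, t0_262, t0_263, t0_264, t0_265, t0_266, t0_267, t0_268, t0_269, t0_270, t0_271, t0_272, t0_273, t0_274, t0_275, t0_276, t0_277, t0_278, t0_279, t0_280, t0_281, t0_282, t0_283, t0_284, t0_285, t0_286, t0_287, t0_288, t0_289, t0_290, t0_291, t0_292, t0_293, t0_294, t0_295, t0_296, t0_297, t0_298, t0_299]

def ts0_6 : List Term := [t0_300, t0_301, t0_302, t0_303, t0_304, t0_305, t0_306, t0_307, t0_308, t0_309, t0_310, t0_311, t0_312, t0_313, t0_314, t0_315, t0_316, t0_317, t0_318, t0_319, t0_320, t0_321, t0_322, t0_323, t0_324, t0_325, t0_326, t0_327, t0_328, t0_329, t0_330, t0_331, t0_332, t0_333, t0_334, t0_335, t0_336, t0_337, t0_338, t0_339, t0_340, t0_341, t0_342, t0_343, t0_344, t0_345, t0_346, t0_347, t0_348, t0_349]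

def ts0 : List Term := ts0_0 ++ ts0_1 ++ ts0_2 ++ ts0_3 ++ ts0_4 ++ ts0_5 ++ ts0_6

theorem ts0_ok : tab.okTerms elts bases ts0 = true := by
  decide +kernel

end Cfsg.Lib.AltSection.Two
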