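import Cfsg.Agent.AltSection.Two.Orbits

/-! Translates of orbit sums. -/

set_option maxHeartbeats 0
set_option maxRecDepth 100000

namespace Cfsg.Lib.AltSection.Two


def t1_0 : Term := (1, 92, 10, [(1558,19), (1817,35), (2285,37), (2717,42), (1797,42), (2480,0), (2268,16), (983,37), (1867,17), (2567,35), (1512,16), (2718,54), (1234,44), (2568,41), (2415,35)])

def t1_1 : Term := (1, 802, 15, [(2762,3), (1912,62), (1785,38), (1034,56), (823,3), (2032,15), (1043,56), (774,15), (1538,8), (2095,27), (1312,28), (1795,38), (2564,28), (1583,28), (2066,42)])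

def t1_2 : Term := (1, 803, 37, [(1360,54), (1891,62), (2715,44), (1862,17), (848,63), (795,19), (2145,31), (755,16), (1176,0), (1361,23), (1238,17), (849,19), (2513,37), (1152,18), (337,19)])

def t1_3 : Term := (1, 370, 1, [(2590,34), (1734,6), (2523,6), (1664,23), (2589,42), (2208,1), (1714,6), (1722,26), (2724,28), (2382,47), (1928,39), (2794,46), (2180,42), (2605,2), (1617,1)])

def t1_4 : Term := (1, 686, 0, [(152,45), (359,60), (569,20), (35,51), (562,2), (477,38), (372,57), (164,45), (295,20), (305,38), (300,20), (168,45), (883,14), (945,7), (457,21)])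

def t1_5 : Term := (1, 203, 2, [(453,17), (81,20), (260,17), (57,23), (477,17), (97,17), (403,20), (287,33), (895,17), (107,17), (286,23), (359,28), (646,35), (87,17), (92,35)])

def t1_6 : Term := (1, 807, 38, [(2780,12), (808,5), (2798,21), (2778,34), (605,10), (1614,33), (1771,11), (846,47), (2754,28), (1682,44), (1968,2), (748,47), (2024,15), (806,15), (844,15)])

def t1_7 : Term := (1, 808, 37, [(1619,29), (2083,6), (2653,42), (1553,22), (2384,35), (1643,17), (1930,42), (613,17), (929,4), (2507,0), (2216,17), (1440,3), (350,35), (1299,17), (2342,17)])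

def t1_8 : Term := (1, 809, 15, [(1971,58), (1304,37), (1732,49), (2747,38), (2299,63), (693,20), (2098,61), (1790,20), (2752,20), (2335,18), (1738,44), (2034,49), (787,23), (417,19), (2517,16)])

def t1_9 : Term := (1, 331, 8, [(118,0), (1224,18), (1285,0), (1017,42), (1949,7), (1020,48), (368,0), (1400,0), (1820,41), (1060,0), (271,0), (725,0), (1478,62), (633,42), (556,53)])

def t1_10 : Term := (1, 186, 9, [(1376,47), (330,15), (270,6), (310,17), (1937,23), (1379,47), (45,61), (1783,33), (1938,23), (1627,28), (1378,15), (1781,33), (290,6), (1628,47), (1381,6)])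

def t1_11 : Term := (1, 813, 37, [(1363,33), (543,24), (797,11), (1999,55), (1882,59), (2705,47), (1906,44), (870,16), (234,7), (782,48), (850,41), (1159,49), (1157,37), (2550,35), (1365,37)])

def t1_12 : Term := (1, 815, 15, [(2434,4), (271,4), (556,31), (650,22), (441,29), (1230,28), (1060,25), (1019,39), (380,45), (1802,25), (2229,43), (1478,36), (383,45), (1400,25), (710,43)])

def t1_13 : Term := (1, 819, 37, [(1615,17), (1417,7), (1985,23), (1212,16), (2834,63), (845,16), (2421,16), (2044,34), (2078,42), (1203,22), (1786,34), (1172,37), (792,16), (1408,22), (2200,2)])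

def t1_14 : Term := (1, 250, 7, [(2736,21), (818,36), (1895,12), (1514,3), (1835,50), (2056,52), (2218,14), (1519,43), (1502,60), (2151,3), (2612,5), (2460,3), (2526,5), (2557,46), (1119,59)])

def t1_15 : Term := (1, 770, 5, [(7,17), (250,17), (1,35), (220,42), (44,17), (219,35), (12,35), (214,42), (45,17), (2,42), (17,42), (0,17), (50,17), (213,17), (249,17)])

def t1_16 : Term := (1, 825, 15, [(1804,31), (2435,52), (1638,42), (475,24), (903,29), (370,38), (1781,48), (49,15), (443,8), (2502,36), (1373,35), (184,38), (557,42), (1224,23), (293,28)])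

def t1_17 : Term := (1, 413, 38, [(1748,29), (2544,29), (936,21), (2537,46), (2645,21), (599,33), (2399,53), (1678,33), (2565,13), (1048,21), (1964,14), (1598,29), (2004,24), (742,23), (1913,50)])

def t1_18 : Term := (1, 587, 3, [(2634,63), (2543,53), (1675,19), (2045,47), (2697,48), (1425,63), (2760,59), (2040,36), (2815,3), (1400,59), (2696,62), (1947,56), (2635,52), (1528,59), (1526,48)])

def t1_19 : Term := (1, 113, 3, [(1325,2), (1443,0), (116,0), (1417,0), (1418,7), (1391,0), (821,0), (1392,1), (1444,0), (269,0), (1125,7), (366,0), (1393,2), (1442,0), (1416,7)])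

def t1_20 : Term := (1, 830, 38, [(2418,37), (1124,4), (2729,57), (1942,34), (2664,63), (2000,11), (1122,11), (2491,39), (2583,28), (609,43), (2350,14), (1934,4), (2756,56), (1220,20), (1339,13)])

def t1_21 : Term := (1, 832, 37, [(1816,17), (1806,7), (1263,1), (1914,19), (2072,52), (794,17), (2042,17), (826,17), (2749,19), (2100,11), (1275,0), (1545,17), (2369,35), (1572,36), (1109,17)])

def t1_22 : Term := (1, 836, 38, [(97,6), (497,62), (25,17), (283,17), (124,35), (446,23), (278,61), (895,4), (453,0), (81,42), (281,17), (971,41), (951,45), (265,4), (359,46)])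

def t1_23 : Term := (1, 645, 38, [(2203,52), (2834,63), (1901,41), (1855,43), (1417,14), (2340,57), (1344,19), (864,49), (2078,3), (776,20), (2311,5), (1600,48), (2331,57), (336,43), (2414,57)])

def t1_24 : Term := (1, 837, 15, [(534,58), (2376,9), (1662,46), (2095,20), (1595,63), (1691,45), (1568,61), (1583,3), (1681,46), (2772,20), (2134,25), (2564,46), (516,45), (824,25), (2511,0)])

def t1_25 : Term := (1, 736, 4, [(1660,16), (1572,38), (375,16), (1641,49), (1142,16), (1657,16), (1631,34), (1658,16), (1337,16), (284,16), (1643,49), (141,16), (837,16), (1629,16), (1583,59)])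

def t1_26 : Term := (1, 271, 37, [(445,18), (1522,61), (547,1), (499,18), (548,7), (279,20), (2322,51), (1823,37), (1421,28), (896,11), (1258,2), (972,20), (2324,51), (392,2), (289,38)])

def t1_27 : Term := (1, 248, 38, [(2421,7), (2748,27), (1786,45), (2814,16), (2071,59), (2200,22), (1272,25), (1091,39), (1951,42), (226,43), (1130,7), (2666,41), (1570,36), (623,20), (2040,4)])

def t1_28 : Term := (1, 841, 15, [(331,28), (2503,53), (641,31), (1947,17), (442,18), (393,0), (1431,17), (395,0), (914,17), (1254,52), (594,17), (1640,17), (640,31), (2330,3), (966,29)])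

def t1_29 : Term := (1, 486, 9, [(1418,18), (1097,38), (1362,43), (2519,42), (796,18), (2480,31), (1944,61), (1817,18), (431,43), (2627,22), (1646,18), (2513,31), (1101,20), (2655,60), (2493,51)])

def t1_30 : Term := (1, 691, 1, [(589,11), (585,6), (1650,23), (728,23), (2420,22), (1536,0), (146,6), (1482,27), (1671,46), (1489,17), (202,23), (1702,6), (1847,39), (2273,0), (1960,2)])

def t1_31 : Term := (1, 848, 38, [(2475,51), (705,54), (2420,28), (718,26), (62,42), (1006,45), (1287,35), (1710,35), (1022,18), (2227,53), (1013,17), (1005,58), (1190,26), (304,54), (1023,45)])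

def t1_32 : Term := (1, 850, 37, [(2591,18), (2466,48), (1775,23), (1564,17), (2294,14), (2358,35), (1541,38), (690,17), (1334,42), (2593,52), (2212,54), (1776,19), (1246,16), (2760,22), (2621,12)])

def t1_33 : Term := (1, 855, 38, [(878,31), (2728,57), (1690,38), (2623,51), (1323,1), (1561,31), (2060,53), (2159,34), (802,12), (2500,18), (1166,23), (1543,51), (1897,19), (2192,34), (2581,37)])

def t1_34 : Term := (1, 93, 6, [(1507,17), (2742,38), (2430,37), (2524,38), (2403,37), (2634,63), (2263,35), (2294,61), (2670,44), (2358,3), (2621,42), (1688,3), (1776,19), (2696,20), (2760,59)])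

def t1_35 : Term := (1, 654, 37, [(2569,41), (2005,20), (779,7), (1388,37), (1812,21), (1174,28), (2362,43), (1773,28), (2803,58), (1817,32), (1718,56), (2277,42), (1264,61), (1087,56), (2208,28)])

def t1_36 : Term := (1, 452, 15, [(2676,44), (780,5), (2106,0), (612,19), (1153,15), (1827,4), (1316,5), (1439,4), (2570,5), (2493,16), (2472,51), (1552,0), (2568,5), (1588,21), (2382,21)])

def t1_37 : Term := (1, 856, 37, [(879,36), (587,24), (320,3), (42,22), (561,55), (74,3), (497,31), (104,3), (94,25), (882,63), (453,38), (5,3), (52,35), (399,17), (124,3)])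

def t1_38 : Term := (1, 857, 15, [(2268,16), (2493,0), (1617,45), (1558,19), (1588,41), (2587,0), (1797,42), (811,17), (2568,52), (1332,46), (1294,11), (1687,22), (983,36), (809,31), (1035,36)])

def t1_39 : Term := (1, 862, 15, [(1182,35), (2629,63), (1871,29), (2693,45), (1496,18), (217,2), (1622,28), (2116,2), (2151,29), (2673,52), (2117,57), (1966,43), (1852,29), (2217,43), (2651,52)])

def t1_40 : Term := (1, 866, 38, [(621,45), (2528,51), (1509,58), (2500,23), (2091,32), (821,45), (2562,29), (1897,37), (1042,27), (2360,36), (1188,23), (2192,34), (2596,19), (2010,37), (2682,16)])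

def t1_41 : Term := (1, 868, 38, [(2474,7), (1853,54), (1789,58), (2127,16), (2161,7), (2059,31), (1814,42), (2426,35), (2674,49), (1474,18), (2094,0), (1836,3), (704,17), (248,20), (2600,61)])

def t1_42 : Term := (1, 872, 15, [(1739,35), (1106,35), (2449,52), (2064,12), (2413,58), (2099,57), (2095,27), (1038,10), (2685,52), (741,35), (2564,28), (1327,35), (843,52), (2776,12), (1583,28)])

def t1_43 : Term := (1, 876, 37, [(2547,36), (2293,48), (1751,47), (1665,16), (2532,12), (2416,39), (1982,54), (537,22), (1333,44), (2549,63), (2147,58), (1694,17), (781,12), (1178,24), (2688,13)])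

def t1_44 : Term := (1, 880, 15, [(2031,58), (1963,28), (2761,32), (1886,31), (1769,35), (1939,58), (693,31), (2243,31), (841,61), (1170,42), (1732,42), (2198,42), (1887,31), (681,38), (1971,17)])

def t1_45 : Term := (1, 882, 37, [(1979,2), (1536,19), (573,7), (1824,13), (1259,1), (1192,43), (645,43), (503,29), (730,54), (668,42), (1674,2), (1229,53), (465,50), (17,2), (1283,53)])

def t1_46 : Term := (1, 284, 14, [(249,23), (1837,15), (1691,23), (540,23), (1860,58), (2638,43), (1971,26), (765,2), (1504,44), (2643,51), (1726,23), (1988,61), (699,35), (622,20), (1550,49)])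

def t1_47 : Term := (1, 491, 6, [(2518,49), (1811,19), (2644,52), (1791,19), (1733,19), (1108,43), (1740,57), (1698,19), (1955,44), (917,45), (2450,30), (2639,41), (1888,18), (775,43), (1109,57)])

def t1_48 : Term := (1, 245, 38, [(2004,0), (2072,7), (742,1), (863,22), (1806,52), (1048,7), (1698,7), (1760,0), (2749,17), (2346,20), (760,0), (1832,0), (2175,0), (2003,20), (1838,2)])

def t1_49 : Term := (1, 418, 8, [(2369,23), (1571,17), (1826,35), (2289,53), (1913,28), (917,17), (2203,20), (1955,45), (2684,42), (2003,61), (2739,17), (2074,20), (2464,42), (1203,6), (517,17)])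

def t1_50 : Term := (1, 313, 11, [(2702,50), (2100,17), (766,4), (2136,3), (2075,17), (2700,43), (2505,51), (2044,46), (1551,19), (1081,40), (1901,40), (2043,17), (1727,26), (1900,17), (2076,59)])

def t1_51 : Term := (1, 414, 9, [(627,19), (2365,19), (1000,37), (1624,44), (2652,19), (1250,44), (1632,19), (820,58), (1696,19), (1623,37), (1661,19), (1609,51), (819,56), (1608,62), (1644,19)])

def t1_52 : Term := (1, 84, 9, [(1380,6), (580,16), (271,23), (595,51), (1020,21), (1377,11), (666,5), (975,19), (965,16), (1404,22), (641,14), (1071,12), (367,18), (1401,43), (634,14)])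

def t1_53 : Term := (1, 887, 37, [(495,14), (461,17), (210,24), (119,14), (50,8), (661,60), (150,29), (566,60), (666,31), (183,25), (463,12), (596,60), (597,36), (726,12), (493,57)])

def t1_54 : Term := (1, 407, 7, [(1632,45), (2516,38), (1165,31), (2522,35), (2271,20), (1280,43), (2360,38), (1167,31), (1809,36), (1166,38), (1814,18), (352,20), (1390,45), (2265,13), (2365,20)])

def t1_55 : Term := (1, 369, 3, [(1480,28), (2602,6), (296,42), (2135,23), (1153,42), (1607,28), (1287,20), (2812,26), (1346,28), (163,28), (968,23), (386,42), (848,42), (2056,35), (2088,28)])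

def t1_56 : Term := (1, 313, 5, [(2215,51), (2209,38), (203,31), (2625,57), (2221,51), (1726,51), (2758,3), (2799,51), (1591,3), (721,45), (2653,57), (731,58), (1753,17), (1550,20), (765,58)])

def t1_57 : Term := (1, 770, 3, [(2257,17), (2640,17), (486,17), (2302,35), (1378,17), (2638,42), (1487,17), (1599,42), (1429,17), (1191,42), (2617,17), (899,35), (1403,17), (2300,17), (1596,17)])

def t1_58 : Term := (1, 388, 37, [(2648,0), (2240,3), (2368,17), (1765,0), (979,35), (2446,39), (2824,42), (756,22), (414,21), (2696,23), (1892,20), (1518,22), (1158,37), (2609,35), (1940,4)])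

def t1_59 : Term := (1, 770, 13, [(770,19), (434,16), (875,19), (248,16), (224,17), (1104,0), (358,16), (1186,20), (746,31), (1310,44), (876,19), (218,17), (1085,33), (254,17), (752,48)])

def t1_60 : Term := (1, 414, 2, [(60,17), (265,15), (173,17), (571,17), (14,42), (568,17), (34,17), (398,59), (4,17), (155,17), (78,17), (160,17), (9,35), (364,57), (316,20)])

def t1_61 : Term := (1, 238, 9, [(608,0), (2337,5), (1239,0), (1883,7), (2241,7), (984,0), (1209,21), (874,54), (1366,11), (2744,33), (526,5), (1879,45), (1871,54), (2773,21), (924,14)])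

def t1_62 : Term := (1, 756, 15, [(423,14), (1726,61), (2441,53), (2197,41), (528,10), (790,21), (2036,5), (2339,62), (1657,5), (2757,5), (1386,5), (1885,14), (1241,5), (2529,63), (2832,40)])

def t1_63 : Term := (1, 358, 6, [(2503,4), (272,38), (1017,13), (273,51), (271,48), (1290,46), (1375,45), (83,43), (1377,52), (659,4), (2435,22), (1260,13), (1380,41), (734,4), (1069,22)])

def t1_64 : Term := (1, 695, 6, [(2172,17), (1901,19), (2311,52), (2076,44), (2046,44), (1600,48), (2331,36), (2044,44), (2003,44), (1203,45), (2200,7), (2301,41), (2078,19), (808,45), (1615,59)])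

def t1_65 : Term := (1, 649, 10, [(2713,12), (1544,6), (1831,23), (1610,19), (1967,33), (1498,11), (1995,5), (1595,2), (2714,21), (2484,37), (1459,15), (522,11), (2409,0), (1107,48), (1887,12)])

def t1_66 : Term := (1, 888, 38, [(1194,3), (954,0), (913,5), (651,3), (270,14), (1028,39), (2229,51), (211,22), (84,42), (1948,43), (1060,14), (582,22), (396,4), (1405,45), (710,4)])

def t1_67 : Term := (1, 102, 38, [(163,34), (505,4), (575,49), (98,34), (899,46), (400,11), (204,11), (435,39), (498,28), (657,49), (467,39), (26,47), (143,15), (365,6), (32,33)])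

def t1_68 : Term := (1, 894, 37, [(869,53), (1348,47), (2008,23), (543,22), (2706,3), (1350,16), (851,49), (234,16), (798,7), (1178,45), (1893,20), (1882,16), (781,34), (2549,39), (1180,19)])

def t1_69 : Term := (1, 358, 0, [(910,48), (137,46), (88,63), (142,25), (372,46), (898,62), (437,45), (285,4), (280,22), (90,56), (882,51), (376,13), (8,48), (89,56), (883,51)])

def t1_70 : Term := (1, 895, 11, [(1208,63), (2633,23), (2439,57), (2758,26), (2634,11), (2549,50), (2680,11), (338,50), (2507,51), (2550,57), (1115,0), (2696,23), (1114,50), (2760,40), (1116,4)])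

def t1_71 : Term := (1, 106, 6, [(664,17), (499,38), (1014,35), (718,58), (555,19), (1532,48), (637,17), (1531,31), (549,19), (962,16), (630,17), (577,16), (565,19), (720,45), (503,59)])

def t1_72 : Term := (1, 898, 38, [(865,7), (808,28), (682,35), (1599,25), (605,17), (2777,43), (807,57), (2782,57), (2754,5), (863,34), (1926,42), (2792,57), (1832,60), (1760,53), (1717,60)])

def t1_73 : Term := (1, 485, 3, [(2280,38), (194,18), (16,43), (1289,43), (2377,51), (2379,31), (2378,20), (1283,60), (2279,20), (192,50), (1308,43), (193,18), (1307,43), (1309,53), (2281,31)])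

def t1_74 : Term := (1, 901, 15, [(952,0), (82,21), (959,47), (565,0), (636,56), (1189,13), (440,21), (648,4), (1021,59), (379,21), (1668,51), (116,0), (2224,0), (1012,51), (1650,21)])

def t1_75 : Term := (1, 154, 12, [(1470,0), (2391,7), (2201,17), (1861,0), (2303,7), (2346,0), (1760,7), (2778,5), (2200,22), (2250,0), (2764,18), (1600,7), (2004,29), (1838,0), (2749,18)])

def t1_76 : Term := (1, 902, 38, [(2176,0), (2174,42), (1029,17), (1505,4), (2002,52), (430,0), (2046,1), (617,0), (2250,4), (2101,60), (1151,35), (1443,0), (1571,47), (2354,33), (1215,2)])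

def t1_77 : Term := (1, 203, 4, [(1705,43), (2042,41), (1490,2), (2565,55), (2793,22), (2698,43), (1652,18), (2046,45), (2662,18), (1638,60), (1488,17), (1948,18), (2695,43), (2663,36), (2795,22)])

def t1_78 : Term := (1, 239, 0, [(1193,43), (1781,61), (1638,7), (493,51), (1783,45), (1007,38), (1400,5), (184,45), (310,20), (2435,31), (1224,43), (581,20), (1025,31), (2433,38), (1017,20)])

def t1_79 : Term := (1, 316, 10, [(748,28), (2276,42), (794,42), (2072,48), (2104,35), (778,35), (1314,28), (2040,38), (1545,28), (1811,42), (807,28), (1586,42), (2290,57), (1572,35), (1109,28)])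

def t1_80 : Term := (1, 316, 9, [(738,1), (1282,1), (706,1), (958,0), (1055,1), (712,1), (2273,2), (1526,1), (720,1), (392,7), (1536,1), (1257,51), (962,33), (284,47), (1960,7)])

def t1_81 : Term := (1, 906, 15, [(1923,1), (804,30), (2484,49), (1720,58), (1924,2), (1984,17), (2309,19), (1510,61), (1712,45), (1342,1), (1274,1), (2643,27), (2070,23), (931,44), (2750,0)])

def t1_82 : Term := (1, 686, 5, [(850,20), (1921,61), (1927,58), (857,51), (1707,7), (687,45), (1929,58), (1933,58), (1529,5), (1915,45), (1917,45), (847,20), (180,45), (237,20), (693,45)])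

def t1_83 : Term := (1, 335, 8, [(2701,10), (2541,56), (1237,10), (2765,10), (1785,63), (1885,52), (2021,21), (2169,48), (1411,60), (604,5), (2535,21), (982,5), (2413,48), (1984,31), (2031,59)])

def t1_84 : Term := (1, 331, 9, [(873,17), (2151,36), (1182,35), (2677,7), (602,57), (1367,42), (2557,0), (2693,54), (2152,50), (1852,0), (1622,17), (999,50), (2697,17), (1680,60), (1983,50)])

def t1_85 : Term := (1, 491, 1, [(306,27), (498,38), (642,45), (454,61), (453,45), (90,51), (326,37), (496,38), (476,20), (717,58), (176,16), (87,38), (478,38), (89,20), (8,45)])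

def t1_86 : Term := (1, 266, 38, [(308,1), (298,35), (398,59), (154,30), (1015,42), (296,45), (320,35), (727,28), (1053,34), (466,33), (74,35), (496,8), (203,28), (31,55), (879,46)])

def t1_87 : Term := (1, 407, 0, [(1420,29), (1093,38), (2482,51), (2629,57), (1098,31), (1941,61), (2495,20), (1103,31), (433,53), (2521,31), (1648,29), (2657,53), (1368,43), (2515,38), (1945,54)])

def t1_88 : Term := (1, 608, 38, [(2834,17), (2751,17), (1417,50), (1150,37), (2686,35), (2078,0), (1571,23), (1245,0), (932,30), (1470,50), (2354,35), (2045,21), (244,0), (700,54), (2101,2)])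

def t1_89 : Term := (1, 728, 11, [(424,43), (412,56), (1614,32), (927,43), (418,58), (1039,48), (932,57), (430,29), (1599,30), (1044,20), (1091,39), (992,36), (220,43), (987,18), (1096,35)])

def t1_90 : Term := (1, 555, 38, [(1782,44), (1377,9), (1530,50), (1432,16), (1845,63), (1020,35), (367,11), (595,22), (916,3), (393,42), (291,7), (494,19), (641,17), (331,18), (450,37)])

def t1_91 : Term := (1, 107, 6, [(1524,62), (724,56), (1935,52), (511,59), (1640,19), (514,62), (1802,17), (1533,48), (1525,31), (1373,48), (1782,17), (1676,16), (1656,19), (463,45), (515,59)])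

def t1_92 : Term := (1, 910, 37, [(951,39), (719,46), (265,22), (20,0), (586,59), (81,16), (642,61), (178,16), (160,7), (885,19), (568,20), (4,16), (60,37), (360,4), (188,16)])

def t1_93 : Term := (1, 420, 12, [(837,3), (999,37), (1592,16), (626,19), (2651,16), (1337,42), (1249,44), (1684,17), (2157,45), (1142,3), (1578,16), (2364,16), (1680,17), (1695,16), (2158,52)])

def t1_94 : Term := (1, 143, 3, [(1746,11), (720,0), (512,0), (1055,7), (2626,7), (1738,11), (2130,0), (1282,7), (2277,7), (914,0), (1549,0), (1201,0), (1546,0), (1544,1), (2036,47)])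

def t1_95 : Term := (1, 913, 15, [(1912,19), (1391,19), (1538,16), (1437,19), (2828,42), (823,17), (1107,44), (610,4), (2038,48), (2517,0), (1737,61), (1550,16), (2098,19), (1738,61), (604,45)])

def t1_96 : Term := (1, 475, 38, [(1078,35), (1255,42), (310,17), (493,4), (1017,35), (86,0), (1638,7), (150,0), (894,4), (2433,19), (1804,17), (463,0), (551,2), (964,33), (370,2)])

def t1_97 : Term := (1, 302, 15, [(181,7), (2435,18), (410,45), (1402,0), (443,18), (1450,47), (973,29), (409,4), (903,1), (1479,29), (1225,0), (1800,0), (975,36), (1822,21), (1027,36)])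

def t1_98 : Term := (1, 919, 37, [(2219,37), (526,5), (1858,7), (2155,37), (1249,1), (2411,20), (1181,1), (1548,36), (2770,28), (2318,15), (685,2), (2264,38), (2526,0), (1352,2), (1309,60)])

def t1_99 : Term := (1, 923, 38, [(484,18), (967,6), (166,28), (498,36), (267,26), (323,7), (206,7), (899,25), (898,0), (94,29), (34,17), (505,22), (587,0), (561,54), (109,39)])

def t1_100 : Term := (1, 251, 11, [(2572,34), (1506,62), (1268,9), (1693,59), (2081,7), (1761,8), (701,63), (2182,43), (2589,44), (2392,42), (2260,25), (2015,1), (2545,31), (2049,7), (2794,5)])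

def t1_101 : Term := (1, 925, 37, [(2783,58), (2732,19), (677,51), (2082,39), (2480,44), (1101,31), (2626,29), (2572,34), (1601,9), (2716,20), (2258,36), (1646,50), (1345,42), (796,35), (2519,51)])

def t1_102 : Term := (1, 649, 14, [(2068,37), (2038,37), (922,63), (2070,37), (2167,39), (2036,3), (1994,19), (1597,0), (2642,30), (1886,19), (805,61), (2195,4), (2637,1), (2239,36), (1612,19)])

def t1_103 : Term := (1, 926, 37, [(2365,39), (1167,0), (1719,26), (1390,34), (876,52), (2126,17), (2581,3), (2826,3), (1266,26), (2094,26), (1166,14), (1746,57), (2600,29), (1814,22), (2060,28)])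

def t1_104 : Term := (1, 257, 4, [(627,19), (2140,19), (2378,37), (1717,44), (551,19), (2564,19), (1000,37), (2369,37), (557,19), (2656,44), (1250,44), (1729,19), (567,19), (1712,19), (2135,19)])

def t1_105 : Term := (1, 930, 38, [(171,28), (64,41), (470,47), (656,17), (364,11), (39,1), (286,2), (142,0), (888,4), (172,19), (277,45), (268,0), (145,2), (40,0), (363,2)])

def t1_106 : Term := (1, 934, 37, [(2775,43), (2198,41), (675,0), (687,19), (1886,2), (862,35), (1984,42), (1988,17), (2243,3), (2168,17), (1923,1), (1562,17), (1898,62), (2601,36), (2484,17)])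

def t1_107 : Term := (1, 141, 5, [(1805,35), (1786,35), (165,35), (1517,17), (849,17), (1808,35), (1785,35), (1806,35), (1347,28), (299,17), (1516,17), (388,42), (1155,17), (1788,17), (1519,17)])

def t1_108 : Term := (1, 306, 13, [(1910,29), (2534,34), (819,19), (2124,16), (921,35), (2388,36), (2019,16), (2360,19), (1122,31), (2687,44), (1632,45), (1206,42), (1323,55), (521,17), (1814,7)])

def t1_109 : Term := (1, 418, 6, [(2378,23), (1635,6), (1179,23), (2373,47), (1952,41), (2452,23), (1308,20), (1180,23), (1394,47), (356,47), (2280,47), (782,6), (2286,6), (1798,47), (2446,47)])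

def t1_110 : Term := (1, 109, 2, [(267,9), (21,5), (157,45), (55,7), (287,30), (1015,48), (318,14), (51,10), (322,7), (957,6), (114,4), (895,15), (144,19), (153,41), (1004,48)])

def t1_111 : Term := (1, 895, 13, [(1865,19), (862,37), (2171,19), (765,19), (843,35), (1815,7), (1170,19), (1873,18), (2199,45), (1795,19), (2509,49), (1149,17), (1869,33), (699,17), (2441,43)])

def t1_112 : Term := (1, 392, 14, [(774,23), (1681,42), (2168,23), (1569,23), (1498,46), (1169,61), (2037,26), (353,2), (2167,44), (1168,26), (1304,48), (2038,61), (1887,35), (1739,20), (1301,27)])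

def t1_113 : Term := (1, 939, 15, [(2227,45), (1821,45), (1190,41), (436,20), (714,27), (304,20), (510,20), (58,20), (1670,16), (1076,49), (665,44), (946,43), (1251,6), (1055,50), (202,19)])

def t1_114 : Term := (1, 199, 6, [(2754,62), (1203,56), (2421,37), (2311,58), (2490,37), (1212,52), (2834,19), (2301,45), (2203,44), (2175,44), (2830,19), (1855,19), (1985,19), (1215,45), (336,57)])

def t1_115 : Term := (1, 261, 3, [(1466,28), (1463,17), (1464,28), (2339,24), (1465,28), (949,42), (2342,12), (2243,28), (2245,42), (2340,12), (2246,17), (2244,28), (2341,3), (468,8), (887,12)])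

def t1_116 : Term := (1, 942, 37, [(729,17), (889,10), (500,23), (27,17), (285,2), (159,19), (947,31), (177,19), (80,42), (652,0), (373,17), (3,19), (187,34), (476,18), (59,19)])

def t1_117 : Term := (1, 948, 15, [(616,36), (1516,43), (1504,18), (528,18), (1860,60), (1442,12), (693,50), (1726,35), (753,18), (1433,18), (1732,50), (1657,43), (249,18), (1865,57), (1971,18)])

def t1_118 : Term := (1, 953, 37, [(1354,8), (1841,29), (746,10), (2350,6), (1701,18), (1052,21), (1809,10), (1339,48), (764,47), (2127,5), (2599,5), (1122,48), (1836,14), (2426,51), (2092,58)])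

def t1_119 : Term := (1, 111, 13, [(1894,43), (1118,36), (1120,57), (2055,43), (1743,58), (1205,43), (1987,44), (1858,18), (339,25), (2553,43), (2631,56), (2755,23), (783,2), (2821,45), (2422,43)])

def t1_120 : Term := (1, 957, 15, [(1906,5), (2430,60), (850,18), (2252,36), (1774,29), (1365,3), (2608,12), (2025,12), (2726,10), (1248,41), (2758,9), (2187,18), (813,18), (525,9), (1243,63)])

def t1_121 : Term := (1, 111, 4, [(2654,19), (1580,38), (594,19), (2166,44), (730,44), (2035,45), (1575,38), (1719,19), (1288,19), (974,30), (2370,30), (1231,19), (1065,37), (1568,20), (1716,37)])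

def t1_122 : Term := (1, 962, 15, [(2310,36), (2335,25), (2704,56), (429,56), (787,31), (2713,4), (1038,43), (2509,60), (417,41), (1357,45), (1327,61), (789,38), (926,60), (2068,48), (2064,48)])

def t1_123 : Term := (1, 294, 0, [(1319,43), (934,20), (2246,20), (2269,51), (929,20), (2252,20), (2688,43), (1807,18), (414,43), (2286,38), (938,20), (1389,45), (1952,18), (1394,45), (2672,43)])

def t1_124 : Term := (1, 313, 0, [(2503,51), (1937,61), (1077,51), (513,51), (330,51), (2501,38), (1399,3), (596,51), (1938,58), (1200,60), (1069,51), (212,58), (1637,17), (1059,38), (1230,57)])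

def t1_125 : Term := (1, 284, 12, [(220,48), (1600,36), (1926,7), (808,43), (1760,57), (1599,45), (1615,50), (865,45), (1914,25), (1614,63), (2024,42), (1771,60), (846,45), (827,18), (2014,46)])

def t1_126 : Term := (1, 199, 1, [(466,31), (484,20), (504,31), (97,61), (107,31), (18,51), (102,38), (507,38), (488,20), (195,58), (469,51), (112,38), (162,45), (262,54), (268,45)])

def t1_127 : Term := (1, 261, 11, [(745,43), (1700,42), (2349,45), (1793,35), (1519,42), (2217,43), (1813,28), (751,23), (2253,6), (2218,18), (2219,9), (1808,28), (1473,10), (1788,35), (2220,1)])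

def t1_128 : Term := (1, 255, 0, [(360,43), (297,62), (583,7), (1004,51), (303,48), (296,38), (496,5), (153,45), (31,41), (879,27), (373,43), (1015,20), (306,31), (941,39), (301,20)])

def t1_129 : Term := (1, 963, 37, [(1127,53), (2791,41), (2683,63), (1562,22), (2781,35), (2427,37), (2069,29), (1988,16), (1596,4), (1768,43), (1341,15), (687,3), (2261,35), (1544,17), (991,19)])

def t1_130 : Term := (1, 964, 15, [(1082,59), (530,42), (2400,34), (1388,12), (1728,55), (425,40), (2341,35), (2277,24), (1659,35), (2048,17), (2209,62), (1773,16), (2546,23), (1134,30), (1915,35)])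

def t1_131 : Term := (1, 970, 38, [(897,5), (2366,51), (1221,6), (546,23), (909,21), (890,45), (1846,30), (884,45), (2256,23), (1282,24), (585,23), (54,45), (2225,58), (264,45), (912,58)])

def t1_132 : Term := (1, 285, 6, [(844,17), (1964,56), (2813,17), (1539,59), (1130,37), (1557,62), (1150,35), (2566,37), (1329,44), (2741,48), (1343,42), (2792,3), (826,19), (1443,45), (1563,59)])

def t1_133 : Term := (1, 128, 38, [(2317,19), (1905,22), (2051,20), (1851,23), (1952,30), (1389,38), (831,30), (2148,37), (2820,8), (2383,18), (923,19), (2672,6), (2085,37), (934,58), (1319,6)])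

def t1_134 : Term := (1, 141, 4, [(2266,22), (2414,2), (490,2), (1511,22), (1512,22), (2270,22), (2413,2), (2267,22), (2415,2), (1006,22), (1510,22), (901,0), (2268,22), (2417,0), (1514,22)])

def t1_135 : Term := (1, 971, 15, [(970,16), (2624,21), (2272,0), (564,16), (1482,55), (2352,54), (707,21), (111,22), (1488,59), (1223,44), (1475,20), (723,0), (483,51), (1962,21), (1842,44)])

def t1_136 : Term := (1, 154, 0, [(133,0), (276,7), (128,7), (178,45), (256,5), (123,2), (93,5), (36,45), (103,5), (437,10), (98,5), (177,58), (175,45), (446,5), (88,5)])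

def t1_137 : Term := (1, 170, 12, [(1440,19), (426,0), (2370,7), (240,0), (929,14), (1414,49), (350,0), (2758,16), (2216,17), (1389,19), (2653,2), (1116,16), (2740,16), (531,5), (2215,17)])

def t1_138 : Term := (1, 546, 4, [(1620,4), (2321,35), (886,35), (2225,3), (2506,51), (2199,31), (2507,20), (1073,31), (2401,37), (948,3), (2317,4), (467,17), (1773,19), (2832,36), (2831,50)])

def t1_139 : Term := (1, 110, 2, [(558,45), (103,5), (152,45), (276,7), (453,45), (155,45), (568,20), (256,10), (476,20), (569,20), (505,4), (477,38), (478,38), (10,20), (154,45)])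

def t1_140 : Term := (1, 185, 12, [(2085,23), (2316,6), (2466,13), (2306,15), (989,26), (1363,47), (1317,62), (979,48), (1348,28), (2532,61), (2402,35), (420,62), (2083,11), (994,6), (2394,35)])

def t1_141 : Term := (1, 868, 15, [(1222,42), (900,28), (2323,42), (483,3), (570,35), (299,58), (2324,24), (1962,3), (1978,45), (174,42), (392,17), (1223,17), (43,45), (471,25), (896,17)])

def t1_142 : Term := (1, 215, 8, [(24,0), (1257,20), (401,0), (958,17), (713,7), (1521,0), (73,0), (1526,0), (707,2), (319,0), (54,0), (198,0), (739,0), (1222,17), (1013,55)])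

def t1_143 : Term := (1, 978, 38, [(285,31), (137,51), (889,0), (88,16), (262,46), (80,11), (399,11), (127,27), (731,8), (559,18), (882,27), (51,61), (569,16), (90,20), (52,54)])

def t1_144 : Term := (1, 926, 38, [(2769,56), (1866,42), (827,50), (599,59), (250,52), (523,0), (776,5), (1748,0), (1434,25), (418,50), (2331,56), (936,7), (2102,5), (917,7), (336,1)])

def t1_145 : Term := (1, 506, 6, [(1152,3), (1646,18), (1494,12), (2493,20), (677,35), (2304,3), (847,12), (1944,45), (1030,17), (2618,12), (1345,12), (2258,3), (1264,42), (1601,17), (2177,3)])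

def t1_146 : Term := (1, 979, 15, [(1734,43), (1506,50), (1618,43), (1659,36), (1444,18), (695,39), (1862,36), (530,35), (618,53), (1867,29), (755,29), (1728,60), (830,36), (251,29), (849,36)])

def t1_147 : Term := (1, 515, 12, [(1453,4), (1628,2), (2434,30), (1655,0), (1379,2), (2329,16), (1530,50), (634,11), (2436,28), (2233,4), (1027,16), (1404,7), (1026,23), (1430,0), (1028,0)])

def t1_148 : Term := (1, 898, 37, [(862,35), (805,0), (675,7), (1596,37), (598,1), (2775,43), (804,57), (2781,57), (2743,8), (860,46), (1924,2), (2791,57), (1825,60), (1758,2), (1712,60)])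

def t1_149 : Term := (1, 170, 3, [(415,2), (2039,2), (22,0), (1585,0), (795,7), (1568,0), (229,0), (2071,7), (689,0), (52,0), (339,7), (71,0), (779,2), (2063,7), (2031,0)])

def t1_150 : Term := (1, 983, 38, [(2100,4), (806,44), (2369,48), (226,0), (1682,63), (1572,56), (1613,56), (1570,56), (2024,7), (2833,57), (1713,54), (623,4), (1645,22), (2077,51), (2471,9)])

def t1_151 : Term := (1, 985, 15, [(1309,42), (2247,4), (685,31), (1974,17), (1321,55), (1181,17), (1941,42), (697,22), (1139,48), (2693,42), (2055,45), (1735,17), (1966,17), (2116,45), (2539,23)])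

def t1_152 : Term := (1, 218, 37, [(880,53), (568,41), (75,42), (317,22), (188,35), (300,35), (63,31), (574,17), (642,4), (65,0), (377,35), (162,3), (157,17), (186,28), (950,19)])

def t1_153 : Term := (1, 691, 8, [(1645,43), (2075,28), (1832,35), (2043,55), (844,17), (791,35), (1888,35), (1900,35), (1343,28), (2407,17), (2455,17), (2174,42), (1150,17), (775,20), (523,17)])

def t1_154 : Term := (1, 989, 38, [(218,33), (704,56), (1164,11), (686,53), (1474,2), (1872,13), (2442,25), (1310,46), (248,17), (876,23), (428,53), (857,22), (1167,13), (1266,46), (1085,4)])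

def t1_155 : Term := (1, 991, 37, [(2539,7), (1983,20), (1941,51), (2119,4), (2153,7), (2055,45), (1957,42), (2499,35), (2689,25), (1467,33), (2090,0), (1970,3), (769,17), (241,0), (2616,38)])

def t1_156 : Term := (1, 479, 1, [(2534,37), (1836,18), (2580,13), (1503,60), (1441,29), (2817,37), (2019,44), (2396,24), (1515,60), (2721,9), (2124,37), (2160,25), (1520,43), (2636,18), (2681,43)])

def t1_157 : Term := (1, 833, 14, [(388,13), (1023,13), (198,22), (1075,22), (1844,50), (299,17), (669,4), (546,0), (319,45), (165,4), (1976,45), (553,60), (401,41), (1977,18), (1842,0)])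

def t1_158 : Term := (1, 357, 10, [(2642,6), (2701,15), (922,43), (2685,1), (2699,6), (2637,11), (982,60), (1034,2), (1086,43), (2643,16), (2668,6), (2683,11), (249,0), (2638,23), (2665,26)])

def t1_159 : Term := (1, 545, 14, [(624,17), (419,3), (1234,42), (233,3), (221,22), (997,16), (343,3), (1238,47), (600,58), (1247,42), (983,35), (215,22), (978,50), (251,22), (606,56)])

def t1_160 : Term := (1, 995, 15, [(1962,46), (552,20), (1223,45), (1197,22), (259,60), (483,23), (1425,22), (324,39), (438,32), (2223,43), (1481,4), (2231,57), (375,45), (1064,36), (555,31)])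

def t1_161 : Term := (1, 996, 15, [(1799,7), (1450,21), (408,45), (1377,2), (410,41), (1639,26), (1194,0), (916,37), (181,2), (2433,29), (913,29), (1845,0), (551,57), (964,10), (1028,18)])

def t1_162 : Term := (1, 1000, 37, [(802,35), (2810,5), (1323,48), (985,17), (1580,40), (2728,42), (1921,19), (1410,36), (1632,53), (2678,7), (2687,55), (1206,30), (2124,49), (1830,6), (1958,60)])

def t1_163 : Term := (1, 113, 11, [(1564,16), (1365,0), (684,0), (871,0), (2246,37), (1940,19), (1180,0), (2184,43), (2149,17), (1952,49), (678,0), (2342,4), (2186,11), (1466,19), (2147,17)])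

def t1_164 : Term := (1, 1001, 12, [(1742,43), (2547,51), (2591,0), (2548,20), (833,63), (1295,61), (1204,60), (831,43), (1265,42), (2607,53), (1774,28), (252,62), (1741,29), (834,41), (1763,28)])

def t1_165 : Term := (1, 988, 15, [(2415,4), (1112,4), (1616,22), (695,17), (2662,52), (2724,11), (933,25), (1734,17), (2590,17), (2362,3), (2794,17), (1618,22), (1718,20), (2208,25), (2723,9)])

def t1_166 : Term := (1, 308, 8, [(1768,43), (616,6), (1492,2), (610,0), (2743,51), (2099,17), (604,6), (231,23), (2828,37), (2541,0), (1757,53), (2098,0), (2832,37), (2542,20), (1538,17)])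

def t1_167 : Term := (1, 1005, 38, [(2379,6), (1666,62), (1684,52), (1606,17), (538,34), (2118,62), (520,61), (2515,0), (1695,17), (1577,4), (999,20), (2157,22), (1142,13), (817,59), (2773,59)])

def t1_168 : Term := (1, 544, 6, [(1013,48), (2223,30), (2420,59), (2319,13), (1702,1), (156,45), (1521,1), (1022,48), (1190,43), (2406,48), (1222,18), (629,41), (1003,20), (1005,48), (1016,20)])

def t1_169 : Term := (1, 1010, 9, [(1337,50), (1205,49), (1813,43), (1336,8), (920,16), (2359,55), (2631,37), (1966,49), (520,34), (2736,29), (1578,44), (2090,29), (2218,7), (2612,1), (2295,19)])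

def t1_170 : Term := (1, 1014, 15, [(1237,42), (805,28), (2133,42), (522,3), (598,35), (335,58), (2335,24), (1567,58), (2743,3), (249,42), (417,17), (1128,42), (1865,45), (1433,42), (787,35)])

def t1_171 : Term := (1, 1017, 37, [(328,35), (77,21), (316,61), (283,35), (280,1), (385,41), (191,42), (971,35), (886,28), (508,47), (15,0), (895,36), (200,17), (391,0), (325,60)])

def t1_172 : Term := (1, 1021, 38, [(838,31), (2386,58), (1755,7), (925,27), (930,46), (1325,11), (2092,11), (1236,16), (2540,8), (1909,7), (2599,47), (1385,51), (2189,0), (2690,6), (1809,33)])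

def t1_173 : Term := (1, 0, 5, [(510,0), (1972,0), (1286,0), (2313,0), (2315,0), (1612,0), (1199,0), (1615,0), (2646,0), (1062,0), (912,0), (726,0), (1618,0), (2484,0), (1971,0)])

def t1_174 : Term := (1, 896, 15, [(469,18), (437,22), (38,43), (502,4), (18,18), (170,2), (199,29), (1191,0), (132,29), (107,29), (507,29), (504,29), (282,29), (721,29), (303,29)])

def t1_175 : Term := (1, 208, 13, [(2558,60), (2632,61), (785,50), (2491,37), (2822,54), (1206,43), (1896,50), (1859,18), (340,25), (2000,57), (1122,60), (2756,23), (1124,35), (1745,58), (2059,25)])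

def t1_176 : Term := (1, 141, 1, [(488,0), (559,18), (263,17), (583,43), (303,22), (115,0), (586,6), (489,1), (391,46), (110,17), (562,23), (298,34), (168,39), (268,0), (365,2)])

def t1_177 : Term := (1, 1022, 15, [(2266,16), (2492,0), (2642,23), (1556,19), (2699,6), (1148,16), (1795,42), (2638,42), (1126,56), (1407,49), (774,31), (1685,22), (982,36), (771,31), (1034,36)])

def t1_178 : Term := (1, 1026, 37, [(530,12), (233,16), (1728,49), (245,14), (1881,27), (1659,57), (1722,18), (1471,60), (542,45), (868,24), (812,14), (701,43), (1990,53), (689,12), (1512,18)])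

def t1_179 : Term := (1, 313, 7, [(1909,16), (1910,22), (746,31), (1543,13), (1872,58), (2658,26), (2681,16), (2682,22), (2774,5), (2124,45), (1715,58), (2161,58), (2745,21), (2630,4), (1104,58)])

def t1_180 : Term := (1, 1030, 15, [(997,4), (2445,3), (1331,61), (1659,4), (1346,56), (518,4), (2362,25), (530,4), (1173,63), (1646,25), (1718,4), (1728,4), (2082,51), (2572,45), (2208,51)])

def t1_181 : Term := (1, 539, 2, [(428,2), (1164,35), (859,17), (858,17), (434,42), (857,17), (242,0), (1354,42), (248,17), (1355,42), (352,7), (1167,35), (358,35), (1353,42), (1163,17)])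

def t1_182 : Term := (1, 856, 38, [(2468,49), (2164,21), (2061,5), (248,16), (1859,41), (1794,12), (2124,31), (1474,16), (2412,16), (2599,0), (1830,61), (704,3), (1809,17), (2092,20), (2678,12)])

def t1_183 : Term := (1, 284, 10, [(1107,20), (2300,20), (2484,45), (2261,44), (2310,20), (2409,45), (2497,61), (1149,17), (219,23), (2278,49), (1128,20), (2361,58), (1170,1), (2376,61), (2423,58)])

def t1_184 : Term := (1, 1035, 15, [(2423,29), (922,9), (2011,39), (2564,36), (1382,53), (1831,31), (2759,25), (2095,34), (772,18), (1943,43), (1244,61), (1583,39), (2746,50), (2033,43), (2463,13)])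

def t1_185 : Term := (1, 574, 11, [(793,45), (2407,38), (2471,17), (2103,43), (2421,59), (1343,48), (2766,18), (2204,48), (2465,19), (1344,20), (2829,32), (2813,43), (1048,43), (2139,18), (2830,28)])

def t1_186 : Term := (1, 652, 37, [(859,14), (840,3), (254,24), (764,39), (539,8), (1436,29), (615,36), (1701,29), (1696,38), (692,24), (1555,12), (1841,29), (1992,57), (1566,12), (1441,50)])

def t1_187 : Term := (1, 143, 6, [(1999,11), (1156,6), (1741,26), (2051,33), (1575,47), (1158,26), (2790,5), (1547,0), (2654,7), (1265,62), (2819,6), (2591,6), (2370,7), (350,47), (781,33)])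

def t1_188 : Term := (1, 250, 14, [(1326,44), (1498,62), (2757,51), (2713,44), (1168,13), (822,3), (1831,63), (1516,0), (2797,61), (1126,19), (1437,61), (860,4), (2812,57), (1356,13), (1510,5)])

def t1_189 : Term := (1, 249, 13, [(1852,4), (2088,60), (924,51), (1983,4), (2825,61), (2675,21), (1321,50), (799,35), (2710,24), (2297,51), (415,60), (1753,61), (1907,35), (2744,57), (935,4)])

def t1_190 : Term := (1, 996, 37, [(1187,35), (1104,0), (2584,63), (2674,16), (858,48), (2681,0), (1543,57), (2161,57), (680,51), (521,46), (2623,16), (1853,50), (2774,22), (1000,39), (2159,50)])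

def t1_191 : Term := (1, 393, 11, [(354,48), (2284,6), (2444,46), (1392,23), (2289,35), (1305,60), (1951,63), (865,43), (2450,42), (1302,50), (2024,0), (1955,61), (1796,45), (1571,17), (2014,16)])

def t1_192 : Term := (1, 238, 11, [(2778,22), (1329,0), (2512,25), (826,0), (1314,0), (2764,25), (1130,0), (2505,45), (2518,7), (2749,22), (2100,11), (1109,0), (1816,23), (807,0), (2136,55)])

def t1_193 : Term := (1, 357, 9, [(1405,18), (1950,36), (368,43), (1804,28), (1949,18), (1402,29), (381,60), (394,53), (407,43), (1406,22), (1640,18), (1802,29), (44,41), (1403,43), (1639,50)])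

def t1_194 : Term := (1, 202, 9, [(1077,17), (381,36), (1025,2), (1637,1), (1639,57), (671,0), (1638,60), (1533,17), (1640,43), (382,0), (1948,18), (1800,50), (383,18), (68,62), (1490,2)])

def t1_195 : Term := (1, 369, 8, [(1585,28), (2140,18), (1517,42), (2814,32), (688,28), (336,42), (2071,42), (2490,48), (1272,42), (1806,28), (2039,35), (1786,35), (1039,42), (412,41), (226,28)])

def t1_196 : Term := (1, 407, 10, [(604,28), (2239,42), (982,28), (2743,18), (2335,8), (1237,28), (922,12), (1869,17), (1459,28), (1747,52), (522,8), (2772,24), (1865,28), (1581,24), (1207,24)])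

def t1_197 : Term := (1, 1038, 38, [(1563,1), (1539,35), (1989,23), (2792,59), (2465,52), (688,1), (2290,59), (2782,59), (1770,7), (2045,34), (1329,33), (1599,7), (1245,39), (1150,7), (2464,1)])

def t1_198 : Term := (1, 1040, 4, [(519,16), (1570,27), (435,34), (1740,39), (1234,46), (672,43), (1204,16), (1866,29), (978,39), (444,49), (919,16), (176,53), (600,22), (1397,49), (1423,16)])

def t1_199 : Term := (1, 425, 6, [(1231,43), (557,18), (491,12), (1071,20), (180,35), (1376,3), (1070,20), (710,45), (310,17), (1193,12), (1779,3), (902,3), (393,42), (1401,35), (1427,3)])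

def t1_200 : Term := (1, 493, 2, [(1979,2), (553,0), (1228,0), (547,2), (1189,43), (1006,20), (2489,7), (563,7), (1002,20), (588,7), (1706,0), (969,7), (1652,0), (299,20), (362,43)])

def t1_201 : Term := (1, 1044, 38, [(1041,58), (2264,20), (2719,26), (855,40), (2155,29), (2816,14), (2693,39), (1689,14), (1548,33), (1141,43), (2116,40), (1560,54), (2635,59), (2555,10), (1966,31)])

def t1_202 : Term := (1, 506, 14, [(2261,3), (1341,28), (1596,3), (1147,17), (1038,34), (1504,22), (841,17), (1911,63), (2638,15), (1912,3), (2463,12), (687,16), (2300,60), (1271,34), (2683,40)])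

def t1_203 : Term := (1, 545, 9, [(621,16), (2694,34), (786,34), (2159,58), (2500,49), (802,49), (1188,16), (2528,16), (1992,16), (2162,56), (878,16), (2001,34), (2581,49), (2010,49), (1370,16)])

def t1_204 : Term := (1, 293, 11, [(776,45), (2749,18), (2139,28), (2138,41), (1861,58), (1130,62), (2748,18), (2490,48), (2813,9), (1129,20), (2140,0), (1989,61), (2421,48), (623,20), (2814,22)])

def t1_205 : Term := (1, 649, 9, [(1489,53), (720,18), (483,43), (1536,9), (503,53), (645,29), (1448,60), (1486,53), (1532,43), (1199,4), (465,57), (458,29), (1192,18), (96,43), (1452,53)])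

def t1_206 : Term := (1, 249, 0, [(583,5), (590,21), (360,50), (199,21), (1063,5), (296,62), (203,14), (402,21), (727,5), (298,55), (185,5), (320,5), (59,48), (71,36), (190,14)])

def t1_207 : Term := (1, 1051, 37, [(2013,54), (2340,49), (1826,48), (2464,18), (2203,8), (2391,38), (1571,30), (2290,34), (1901,45), (917,48), (2101,12), (1329,60), (418,36), (2102,12), (2354,20)])

def t1_208 : Term := (1, 1054, 38, [(1613,33), (2470,55), (1713,1), (2798,16), (2267,6), (2471,35), (694,42), (1614,22), (1314,42), (1215,43), (1733,0), (2780,3), (1151,35), (2046,6), (1972,13)])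

def t1_209 : Term := (1, 833, 11, [(2269,17), (1798,35), (1559,18), (1818,35), (1764,63), (2416,22), (1868,17), (831,43), (2481,61), (1513,17), (1774,0), (832,62), (2286,5), (1775,41), (1763,0)])

def t1_210 : Term := (1, 910, 15, [(1634,22), (2362,4), (2393,29), (624,22), (2208,62), (2049,22), (2655,22), (227,22), (1718,39), (1642,25), (2177,20), (1877,17), (2080,51), (2571,45), (1679,25)])

def t1_211 : Term := (1, 925, 38, [(1909,34), (2712,5), (2189,51), (1324,34), (2288,21), (2690,11), (1746,27), (1143,34), (2029,8), (981,18), (2826,2), (2254,61), (2242,56), (416,6), (1390,20)])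

def t1_212 : Term := (1, 691, 0, [(636,35), (1003,42), (663,17), (1821,17), (645,17), (629,35), (405,20), (2256,17), (1252,42), (1480,28), (289,23), (1486,17), (968,23), (1287,20), (970,33)])

def t1_213 : Term := (1, 196, 0, [(472,23), (1655,23), (1449,23), (1675,11), (1653,23), (1453,23), (1292,20), (659,23), (147,6), (1708,11), (294,23), (578,6), (734,23), (593,6), (1262,20)])

def t1_214 : Term := (1, 1055, 11, [(146,16), (66,14), (1252,5), (43,5), (549,2), (379,44), (82,21), (1652,19), (897,24), (289,16), (1002,5), (555,7), (1650,19), (565,0), (1189,12)])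

def t1_215 : Term := (1, 442, 15, [(2761,48), (1411,48), (2031,18), (2409,18), (2131,60), (1939,12), (2765,62), (1854,20), (2542,18), (1407,48), (2469,19), (2021,34), (771,18), (982,44), (1214,41)])

def t1_216 : Term := (1, 1056, 38, [(1985,0), (2686,41), (1615,18), (2042,2), (2751,29), (845,0), (2471,0), (1275,0), (932,10), (1511,50), (1613,29), (1109,37), (2312,49), (1721,61), (1713,61)])

def t1_217 : Term := (1, 1060, 15, [(2590,32), (2177,50), (1112,29), (2787,29), (2655,56), (2662,33), (600,57), (1049,35), (1679,57), (1965,29), (829,16), (743,29), (2692,54), (2105,29), (937,36)])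

def t1_218 : Term := (1, 0, 37, [(686,0), (2298,0), (857,0), (698,0), (2660,0), (1310,0), (2491,0), (1736,0), (2248,0), (2190,0), (1934,0), (1975,0), (2694,0), (1910,0), (1942,0)])

def t1_219 : Term := (1, 1064, 15, [(2432,3), (2483,0), (2730,54), (859,3), (2030,52), (2001,3), (2375,25), (254,3), (2558,41), (2271,16), (2019,61), (1436,16), (2009,45), (2595,61), (2722,45)])

def t1_220 : Term := (1, 255, 3, [(1349,43), (1354,53), (424,43), (2474,31), (1346,43), (1784,45), (2084,18), (2468,38), (2080,18), (1044,20), (1541,0), (1039,38), (1714,5), (311,20), (1782,45)])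

def t1_221 : Term := (1, 649, 7, [(946,62), (101,36), (1197,29), (510,4), (1190,50), (1821,29), (2324,48), (487,43), (1003,62), (1055,48), (2328,59), (1667,3), (1702,5), (1960,9), (447,57)])

def t1_222 : Term := (1, 594, 37, [(163,0), (456,42), (575,11), (110,19), (501,48), (400,0), (476,51), (144,16), (129,7), (107,4), (652,20), (509,0), (282,37), (721,60), (187,0)])

def t1_223 : Term := (1, 1065, 10, [(2800,19), (2716,45), (2381,50), (988,3), (2715,58), (2457,60), (2382,18), (419,4), (978,50), (2400,30), (2794,16), (993,29), (1330,30), (2392,50), (2523,53)])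

def t1_224 : Term := (1, 1066, 15, [(642,60), (256,32), (188,43), (477,60), (8,43), (568,2), (185,29), (125,13), (122,29), (478,29), (306,7), (454,60), (911,36), (489,7), (10,29)])

def t1_225 : Term := (1, 1065, 13, [(1866,19), (1100,37), (2437,19), (766,19), (1048,35), (1816,7), (865,44), (1874,18), (2505,45), (1796,19), (2176,19), (846,42), (1870,33), (700,17), (2204,52)])

def t1_226 : Term := (1, 756, 37, [(1876,14), (1608,43), (224,21), (2191,12), (2128,32), (1353,8), (2162,60), (1896,24), (2380,47), (2127,21), (2265,5), (2487,48), (2426,51), (1836,14), (1549,57)])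

def t1_227 : Term := (1, 308, 3, [(1654,29), (232,18), (1778,43), (617,43), (1762,53), (1542,0), (1656,18), (611,53), (1773,43), (1497,17), (148,43), (839,18), (829,18), (1767,53), (836,36)])

def t1_228 : Term := (1, 691, 5, [(1582,28), (1230,18), (456,35), (1399,17), (2107,17), (924,17), (1943,41), (1069,48), (1587,28), (320,62), (2492,55), (376,18), (2545,17), (1209,42), (526,17)])

def t1_229 : Term := (1, 1068, 15, [(1885,51), (1971,28), (2339,44), (1967,8), (1732,35), (2197,58), (2167,61), (1911,5), (693,31), (862,42), (2602,42), (2497,42), (675,31), (2775,46), (1899,31)])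

def t1_230 : Term := (1, 1069, 38, [(742,55), (1464,49), (1048,48), (1263,18), (238,59), (2004,4), (777,9), (794,22), (766,42), (220,43), (2437,55), (1816,4), (1874,22), (1460,45), (354,9)])

def t1_231 : Term := (1, 574, 2, [(1848,45), (1869,54), (675,45), (2772,5), (1825,45), (1924,45), (1677,20), (2743,5), (1492,20), (842,20), (2791,51), (841,38), (2779,58), (843,20), (1912,45)])

def t1_232 : Term := (1, 762, 15, [(1389,19), (2280,16), (2317,18), (543,19), (2185,59), (2051,19), (2621,19), (234,19), (1501,37), (1419,49), (2212,31), (1882,3), (2086,38), (2552,54), (1541,49)])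

def t1_233 : Term := (1, 308, 1, [(654,29), (27,18), (321,48), (145,43), (889,62), (496,0), (729,18), (139,53), (886,62), (476,17), (128,43), (377,18), (256,48), (301,55), (373,36)])

def t1_234 : Term := (1, 1070, 38, [(1053,54), (656,54), (298,38), (478,47), (142,7), (1015,35), (160,42), (911,39), (268,28), (100,43), (586,0), (489,22), (168,17), (29,20), (719,13)])

def t1_235 : Term := (1, 1072, 38, [(2401,7), (2179,44), (2047,19), (227,0), (1683,63), (1630,13), (2206,38), (1877,17), (2377,0), (2572,16), (1714,54), (624,4), (1646,22), (2082,51), (2649,13)])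

def t1_236 : Term := (1, 365, 14, [(2586,19), (2637,61), (2198,16), (2642,45), (2828,14), (1848,3), (922,63), (411,2), (1980,20), (2170,19), (926,61), (2743,26), (2602,43), (2832,14), (931,16)])

def t1_237 : Term := (1, 1077, 37, [(1675,51), (407,19), (1533,51), (891,29), (69,44), (1403,29), (1804,57), (368,29), (1077,9), (1799,42), (1638,34), (68,31), (1639,53), (408,2), (370,53)])

def t1_238 : Term := (1, 648, 13, [(252,43), (531,36), (696,43), (228,43), (613,58), (834,61), (537,50), (246,35), (690,25), (833,18), (762,43), (619,61), (240,2), (234,20), (756,46)])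

def t1_239 : Term := (1, 392, 7, [(422,43), (1099,20), (1369,43), (1094,39), (801,50), (428,43), (802,18), (434,43), (930,38), (1370,60), (990,20), (224,18), (416,43), (1042,13), (1047,20)])

def t1_240 : Term := (1, 654, 15, [(2333,50), (2631,58), (1239,30), (1743,60), (2387,19), (339,2), (2156,34), (1121,2), (2349,36), (1894,29), (2486,43), (836,30), (2737,28), (2482,43), (1987,37)])

def t1_241 : Term := (1, 288, 12, [(1729,3), (2514,35), (1605,3), (1878,0), (2363,37), (2656,42), (2446,0), (1619,33), (814,5), (2378,3), (1604,3), (2650,44), (1620,18), (1694,19), (813,5)])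

def t1_242 : Term := (1, 895, 3, [(2745,51), (1748,15), (1375,51), (2137,47), (2744,51), (2226,63), (1755,15), (2136,23), (1753,15), (2435,16), (2826,26), (2503,37), (2825,26), (1374,59), (2225,63)])

def t1_243 : Term := (1, 515, 0, [(1766,17), (2737,60), (2057,17), (2821,24), (2738,43), (2089,17), (2055,12), (2510,31), (1089,20), (2629,36), (1606,3), (2805,17), (1103,48), (2657,18), (2087,24)])

def t1_244 : Term := (1, 1079, 38, [(2136,16), (1493,63), (2276,20), (617,5), (1759,46), (1387,34), (2103,49), (1505,16), (2531,10), (2754,49), (1749,22), (1443,19), (808,16), (605,61), (2450,17)])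

def t1_245 : Term := (1, 219, 4, [(781,45), (1165,38), (396,57), (1166,20), (1154,20), (79,43), (1158,38), (352,31), (349,38), (395,43), (350,20), (69,20), (779,45), (637,18), (638,18)])

def t1_246 : Term := (1, 420, 0, [(135,16), (288,49), (130,49), (590,49), (378,34), (125,34), (1191,3), (727,16), (145,16), (591,34), (486,3), (1063,16), (729,16), (971,49), (899,3)])

def t1_247 : Term := (1, 335, 7, [(1409,60), (1219,36), (1941,52), (2486,25), (1788,63), (783,52), (2349,59), (2411,48), (1121,62), (1420,43), (2343,55), (2482,55), (2417,48), (1120,46), (339,59)])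

def t1_248 : Term := (1, 94, 14, [(1693,17), (1316,4), (2178,22), (812,4), (1045,39), (2362,16), (1112,4), (2589,54), (2587,45), (2649,42), (2180,22), (1154,16), (2723,41), (695,22), (2724,52)])

def t1_249 : Term := (1, 1080, 37, [(185,53), (470,24), (306,52), (105,22), (171,63), (10,37), (102,31), (6,16), (39,7), (186,48), (175,20), (35,19), (65,37), (157,20), (1,19)])

def t1_250 : Term := (1, 348, 13, [(876,43), (2802,18), (1579,16), (2130,43), (2818,45), (2030,61), (2478,51), (1104,17), (1745,20), (2020,50), (2658,43), (2491,47), (2194,2), (2166,20), (2630,46)])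

def t1_251 : Term := (1, 170, 10, [(242,17), (1415,35), (352,35), (2632,11), (1390,42), (428,42), (1124,0), (2296,60), (1441,17), (2298,43), (533,17), (1580,2), (2636,26), (1594,7), (930,35)])

def t1_252 : Term := (1, 300, 15, [(1956,7), (2646,21), (1903,54), (1465,16), (1928,52), (2804,4), (1362,5), (239,22), (2178,59), (2498,0), (847,20), (767,0), (2107,51), (1969,21), (1904,58)])

def t1_253 : Term := (1, 931, 15, [(161,7), (890,16), (738,45), (487,0), (1221,1), (1448,47), (299,7), (740,4), (897,1), (961,0), (1222,0), (169,0), (479,0), (1961,31), (2323,7)])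

def t1_254 : Term := (1, 1083, 15, [(225,58), (2022,30), (622,49), (2095,54), (1677,37), (1581,8), (1716,44), (1583,8), (803,61), (2827,7), (1610,62), (2564,49), (2037,45), (1633,44), (2361,16)])

def t1_255 : Term := (1, 1070, 37, [(2823,17), (2187,54), (1787,38), (1828,60), (2025,42), (1998,31), (1278,7), (2667,0), (2252,10), (1839,15), (750,17), (2211,54), (852,0), (762,17), (2790,37)])

def t1_256 : Term := (1, 306, 7, [(2125,19), (1661,18), (2801,13), (1701,0), (2029,4), (2308,17), (2558,37), (1690,60), (2540,13), (2664,36), (2711,44), (2682,53), (2161,4), (1859,1), (1608,17)])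

def t1_257 : Term := (1, 794, 11, [(2341,3), (683,61), (1944,60), (2180,31), (1176,2), (1465,3), (2107,51), (2105,43), (1734,61), (2245,17), (677,4), (868,0), (1956,25), (1362,2), (2178,19)])

def t1_258 : Term := (1, 365, 5, [(2317,18), (927,36), (1324,45), (932,50), (271,50), (2088,31), (1318,45), (412,45), (1377,60), (1853,3), (2307,29), (2092,20), (1380,43), (1983,5), (1321,58)])

def t1_259 : Term := (1, 833, 5, [(2668,23), (2398,18), (1515,34), (2390,18), (1867,17), (2287,19), (982,18), (1233,23), (1797,35), (2418,17), (2665,33), (2271,16), (1817,35), (2482,0), (1560,19)])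

def t1_260 : Term := (1, 109, 1, [(80,37), (104,17), (170,43), (277,24), (81,25), (657,23), (63,37), (257,28), (64,25), (656,18), (40,19), (646,36), (41,4), (171,6), (647,23)])

def t1_261 : Term := (1, 112, 13, [(1840,19), (2379,35), (2579,11), (1730,17), (2287,37), (2411,0), (2657,42), (2089,35), (1140,35), (2673,44), (2404,31), (2482,0), (2058,42), (1560,19), (1335,42)])

def t1_262 : Term := (1, 1087, 15, [(2105,31), (2315,10), (1965,7), (1891,45), (2180,62), (2692,26), (1890,45), (848,22), (1927,45), (1465,44), (1944,21), (1176,7), (239,51), (767,21), (2808,58)])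

def t1_263 : Term := (1, 574, 0, [(2541,45), (1341,60), (2765,18), (1504,51), (1342,43), (2169,38), (2759,5), (699,45), (789,18), (2828,45), (2563,45), (1691,20), (2171,31), (2827,61), (2170,20)])

def t1_264 : Term := (1, 167, 38, [(2139,0), (2749,5), (1585,18), (2814,22), (1806,56), (2444,49), (688,44), (1091,49), (2072,24), (336,20), (1989,0), (2666,20), (2331,38), (776,6), (1563,37)])

def t1_265 : Term := (1, 357, 8, [(2397,45), (1596,15), (2529,45), (1611,16), (1207,63), (1267,52), (1237,41), (213,23), (2299,61), (2535,61), (2389,54), (1297,41), (2309,45), (2469,2), (2463,58)])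

def t1_266 : Term := (1, 365, 13, [(958,4), (2256,62), (1227,46), (2273,48), (2226,23), (570,5), (438,63), (54,17), (585,20), (1221,13), (439,61), (1374,26), (968,23), (2225,40), (440,22)])

def t1_267 : Term := (1, 830, 37, [(2398,54), (2543,16), (1343,26), (1563,22), (2566,26), (2428,37), (2741,31), (1989,16), (2640,25), (826,23), (2684,56), (688,3), (1914,17), (1545,17), (992,19)])

def t1_268 : Term := (1, 493, 14, [(1152,23), (2005,0), (2268,6), (2258,23), (749,4), (2047,45), (2695,7), (2569,41), (1388,44), (1718,7), (2717,4), (1298,25), (1155,35), (1087,25), (2143,48)])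

def t1_269 : Term := (1, 896, 37, [(66,35), (54,0), (628,7), (2257,37), (546,1), (1074,35), (1959,57), (1523,36), (884,3), (1522,46), (631,2), (1532,17), (1421,60), (548,2), (1702,60)])

def t1_270 : Term := (1, 425, 8, [(1568,3), (2135,6), (1516,12), (2812,22), (687,3), (411,12), (2031,12), (2602,23), (1038,12), (1785,3), (2063,24), (1805,24), (1271,12), (335,45), (225,3)])

def t1_271 : Term := (1, 546, 8, [(1428,22), (2433,38), (2230,39), (2435,2), (1639,49), (634,45), (1402,22), (1025,31), (1479,38), (2326,16), (1377,22), (1450,22), (1654,16), (1028,35), (1027,51)])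

def t1_272 : Term := (1, 491, 11, [(2301,45), (2289,36), (1314,4), (2455,43), (1796,42), (1203,45), (1721,25), (1686,17), (791,19), (2311,58), (2290,13), (1866,42), (1313,23), (1816,17), (2428,15)])

def t1_273 : Term := (1, 121, 37, [(2480,35), (1413,7), (1601,7), (337,37), (1772,9), (2732,17), (1927,18), (1238,19), (2625,57), (2015,25), (2315,37), (2145,36), (2181,60), (2347,37), (2180,2)])

def t1_274 : Term := (1, 485, 10, [(2542,20), (1357,15), (2197,45), (2832,28), (1356,6), (2767,47), (2198,61), (2199,0), (790,23), (1550,49), (2564,20), (2831,23), (765,1), (1726,61), (2757,21)])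

def t1_275 : Term := (1, 171, 38, [(472,40), (380,18), (671,0), (673,22), (271,11), (44,2), (148,7), (151,0), (441,19), (954,51), (1397,36), (46,0), (84,0), (270,0), (371,2)])

def t1_276 : Term := (1, 369, 10, [(424,28), (1387,35), (238,42), (927,43), (1438,35), (348,42), (1900,28), (1212,15), (1412,28), (2739,29), (2075,28), (529,42), (2203,1), (2369,47), (2043,17)])

def t1_277 : Term := (1, 293, 7, [(384,43), (557,18), (382,57), (1071,35), (893,20), (633,45), (1072,20), (710,45), (894,20), (383,60), (1019,20), (68,20), (441,45), (1020,2), (556,18)])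

def t1_278 : Term := (1, 1091, 37, [(175,18), (190,15), (102,4), (104,17), (153,50), (1,37), (204,44), (42,19), (61,0), (326,45), (467,17), (5,19), (11,37), (152,18), (32,37)])

def t1_279 : Term := (1, 251, 14, [(1241,30), (1492,62), (2371,2), (2779,56), (1090,4), (610,8), (1825,63), (1831,1), (1720,63), (986,44), (1498,62), (753,9), (2492,52), (1301,9), (2713,18)])

def t1_280 : Term := (1, 714, 15, [(788,28), (522,17), (2239,17), (771,24), (1128,17), (411,59), (1747,12), (1407,56), (1567,28), (213,28), (231,35), (982,17), (1455,28), (1869,62), (540,28)])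

def t1_281 : Term := (1, 1096, 9, [(1495,20), (2740,20), (2610,7), (1440,25), (2293,61), (1828,45), (2608,30), (1518,20), (2458,20), (2185,56), (2734,19), (1513,38), (2592,49), (1764,49), (2213,19)])

def t1_282 : Term := (1, 93, 8, [(1506,17), (2260,35), (1413,17), (2619,55), (1217,42), (1494,17), (2262,35), (1500,17), (937,35), (1388,17), (2620,42), (1439,17), (542,17), (2258,20), (2618,42)])

def t1_283 : Term := (1, 548, 10, [(1850,40), (2142,23), (2606,37), (2676,24), (2141,40), (1679,26), (2590,16), (997,25), (600,26), (2787,4), (1928,22), (2692,31), (1457,44), (2783,47), (1714,11)])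

def t1_284 : Term := (1, 780, 38, [(2485,31), (1694,20), (1986,1), (2610,46), (1665,7), (2149,7), (1741,1), (1137,2), (537,8), (2705,63), (2269,15), (2633,10), (797,7), (1363,6), (2707,10)])

def t1_285 : Term := (1, 555, 15, [(1014,4), (909,0), (2406,50), (490,3), (2256,57), (2488,17), (279,25), (1537,3), (2366,48), (329,0), (445,47), (589,0), (706,43), (635,47), (547,43)])

def t1_286 : Term := (1, 545, 4, [(252,16), (792,16), (14,16), (605,49), (68,16), (788,49), (216,34), (776,34), (84,16), (9,16), (222,49), (4,16), (47,16), (598,16), (772,16)])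

def t1_287 : Term := (1, 655, 15, [(311,2), (2326,2), (406,45), (1428,1), (1284,41), (634,35), (903,1), (976,13), (716,31), (1639,1), (443,29), (579,1), (1799,1), (408,52), (2435,29)])

def t1_288 : Term := (1, 1099, 15, [(1854,17), (2776,30), (2409,24), (753,58), (843,35), (2021,28), (2196,31), (1516,58), (741,45), (2170,42), (1810,28), (1860,42), (1994,45), (2249,44), (2585,3)])

def t1_289 : Term := (1, 1100, 38, [(1452,22), (1073,56), (663,29), (106,17), (712,59), (194,22), (1074,4), (179,4), (79,42), (1447,4), (628,20), (7,22), (156,13), (737,22), (66,22)])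

def t1_290 : Term := (1, 548, 11, [(519,62), (1495,6), (2688,19), (1828,47), (1541,33), (2110,45), (2610,4), (1458,51), (2672,17), (2109,52), (2784,7), (2594,4), (938,61), (1918,19), (2788,25)])

def t1_291 : Term := (1, 338, 9, [(2323,40), (1396,58), (2327,23), (1979,62), (2320,23), (943,47), (1847,32), (1706,9), (2319,47), (952,32), (2420,46), (2489,4), (949,40), (279,47), (1671,46)])

def t1_292 : Term := (1, 115, 13, [(769,19), (433,16), (1296,44), (247,16), (223,17), (1103,0), (357,16), (1300,18), (745,31), (1309,44), (1089,37), (217,17), (1084,33), (253,17), (751,48)])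

def t1_293 : Term := (1, 587, 14, [(2732,43), (2783,35), (2082,50), (1904,29), (1494,39), (1087,43), (2808,50), (1097,4), (1361,37), (1588,57), (431,60), (2258,22), (1679,60), (2618,46), (796,37)])

def t1_294 : Term := (1, 252, 10, [(2701,10), (1596,32), (2021,21), (2022,55), (2300,22), (2535,21), (861,10), (1726,63), (2638,32), (1095,41), (1169,21), (2376,5), (759,62), (1304,14), (1357,21)])

def t1_295 : Term := (1, 1055, 4, [(236,19), (1750,19), (57,37), (2074,44), (782,19), (2066,37), (346,37), (2042,44), (798,19), (75,44), (422,44), (29,19), (762,19), (2034,19), (1739,19)])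

def t1_296 : Term := (1, 729, 7, [(1529,51), (955,18), (2433,35), (956,19), (1822,54), (954,50), (1801,17), (450,51), (1937,2), (2501,0), (1781,17), (1426,58), (1483,51), (2330,9), (2326,29)])

def t1_297 : Term := (1, 392, 12, [(778,23), (2543,38), (2235,6), (2040,45), (2565,59), (1172,47), (2045,63), (354,23), (2331,45), (1171,26), (1305,42), (2046,61), (1456,3), (2042,41), (1302,46)])

def t1_298 : Term := (1, 370, 13, [(2806,23), (2598,3), (2127,27), (2730,8), (2238,41), (1579,63), (2192,8), (2248,46), (2020,48), (2771,26), (2254,6), (1922,28), (2560,20), (2468,42), (1385,39)])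

def t1_299 : Term := (1, 686, 9, [(679,20), (1118,20), (2153,58), (241,25), (1987,17), (2116,45), (1139,20), (691,20), (2055,45), (1181,25), (2057,45), (697,38), (2615,20), (2616,51), (1970,3)])

def t1_300 : Term := (1, 1104, 37, [(2213,56), (2113,17), (1834,55), (1604,14), (344,8), (2395,60), (1774,29), (2647,61), (1208,5), (1929,25), (2726,47), (1647,62), (2215,36), (2246,13), (2430,53)])

def t1_301 : Term := (1, 897, 15, [(1451,18), (1374,22), (189,43), (1528,4), (91,18), (662,2), (728,29), (2617,0), (560,29), (479,29), (1535,29), (1531,29), (961,29), (1961,29), (1016,29)])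

def t1_302 : Term := (1, 116, 2, [(85,2), (472,40), (666,17), (1449,23), (86,42), (1450,29), (48,0), (1453,40), (49,17), (634,17), (69,7), (641,17), (70,35), (473,36), (1454,18)])

def t1_303 : Term := (1, 1109, 38, [(646,16), (257,50), (112,57), (171,27), (376,41), (288,3), (950,3), (470,28), (266,34), (173,32), (63,60), (39,8), (115,42), (41,8), (377,8)])

def t1_304 : Term := (1, 1065, 7, [(1505,17), (2834,19), (2450,37), (2830,36), (2014,7), (1748,26), (1914,17), (2754,62), (2531,7), (2518,16), (2465,28), (1740,57), (1551,0), (2136,5), (2137,40)])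

def t1_305 : Term := (1, 148, 9, [(67,20), (1403,18), (370,43), (395,9), (1406,18), (369,43), (383,60), (69,20), (44,45), (408,22), (68,20), (396,57), (70,20), (409,60), (382,57)])

def t1_306 : Term := (1, 1114, 38, [(1784,0), (973,54), (1404,40), (2233,26), (1027,46), (1010,45), (1655,28), (1008,45), (1225,20), (1026,28), (511,47), (633,20), (330,17), (85,6), (1195,6)])

def t1_307 : Term := (1, 335, 4, [(1513,60), (462,36), (1520,43), (494,43), (165,50), (33,29), (1518,43), (495,43), (111,60), (1441,29), (1440,29), (1515,60), (490,43), (110,53), (22,57)])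

def t1_308 : Term := (1, 111, 9, [(1606,20), (520,20), (1621,31), (229,25), (2117,61), (816,45), (2770,45), (532,20), (2115,45), (2158,56), (2805,20), (538,31), (1684,16), (1578,31), (1577,38)])

def t1_309 : Term := (1, 95, 12, [(1839,19), (1278,0), (1828,15), (702,0), (1807,5), (2410,16), (1050,0), (869,11), (2026,0), (2672,44), (1834,57), (1787,5), (870,43), (1518,5), (2025,0)])

def t1_310 : Term := (1, 472, 10, [(1698,42), (742,56), (1811,35), (1470,47), (2013,45), (1791,28), (748,61), (2250,6), (2023,45), (1517,33), (864,20), (2346,9), (1806,56), (1786,3), (863,20)])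

def t1_311 : Term := (1, 133, 15, [(9,0), (18,5), (87,0), (21,0), (132,7), (276,61), (13,5), (36,4), (437,0), (26,7), (128,0), (0,0), (435,0), (98,21), (275,21)])

def t1_312 : Term := (1, 649, 1, [(2326,55), (651,18), (1780,3), (121,60), (1194,29), (368,50), (954,59), (726,36), (1936,5), (1060,59), (2330,62), (1201,36), (1008,48), (1402,53), (1405,43)])

def t1_313 : Term := (1, 1118, 38, [(579,28), (333,41), (1428,11), (659,17), (1780,2), (976,2), (1950,1), (1672,62), (1376,17), (580,19), (369,6), (1256,46), (1429,13), (514,5), (1637,38)])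

def t1_314 : Term := (1, 547, 2, [(2030,2), (1144,7), (1896,45), (1339,0), (985,0), (1789,58), (2164,0), (839,7), (609,0), (2491,0), (2583,7), (2632,15), (1240,0), (2418,20), (1415,29)])

def t1_315 : Term := (1, 257, 5, [(1992,0), (2490,7), (1308,0), (1985,7), (716,7), (2198,0), (2694,0), (2203,0), (710,2), (1102,0), (2500,0), (768,0), (597,0), (1980,0), (2602,0)])

def t1_316 : Term := (1, 143, 2, [(88,0), (457,0), (113,0), (300,48), (1056,0), (74,29), (98,0), (372,18), (722,0), (266,0), (93,0), (364,0), (501,0), (302,59), (60,62)])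

def t1_317 : Term := (1, 92, 2, [(31,0), (176,17), (36,0), (326,7), (38,17), (305,17), (35,0), (306,28), (42,17), (61,0), (32,0), (65,35), (39,17), (175,17), (325,0)])

def t1_318 : Term := (1, 132, 7, [(2418,44), (2030,6), (2019,43), (2020,32), (2360,21), (1436,1), (2271,0), (876,23), (1690,21), (2029,60), (1515,1), (875,18), (2432,13), (1385,18), (1410,1)])

def t1_319 : Term := (1, 802, 37, [(1788,16), (2152,26), (2422,32), (1296,60), (1542,6), (2028,36), (2709,34), (1185,38), (2622,61), (1142,32), (2796,39), (854,60), (1577,49), (817,34), (1046,55)])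

def t1_320 : Term := (1, 321, 7, [(248,19), (1339,19), (1146,37), (839,56), (786,19), (1338,44), (358,37), (1144,37), (802,19), (1340,44), (434,44), (840,19), (621,19), (838,58), (1143,19)])

def t1_321 : Term := (1, 358, 14, [(1810,25), (2299,62), (1943,22), (2309,48), (2449,2), (1697,17), (1207,51), (787,7), (1732,45), (1790,4), (1311,60), (1747,62), (1898,7), (2517,17), (1312,34)])

def t1_322 : Term := (1, 293, 5, [(136,45), (627,20), (134,58), (1864,54), (1990,61), (1863,45), (592,20), (1992,45), (1862,58), (135,61), (576,20), (4,20), (624,20), (1991,61), (626,20)])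

def t1_323 : Term := (1, 641, 14, [(1738,23), (747,0), (1629,23), (1086,7), (2586,58), (1544,25), (1297,7), (2309,57), (2356,25), (2036,6), (1610,10), (2811,45), (1810,17), (2134,20), (2642,26)])

def t1_324 : Term := (1, 596, 15, [(905,16), (1071,0), (1380,43), (514,19), (1820,49), (1803,49), (634,42), (1429,17), (1484,35), (450,49), (406,11), (580,22), (291,36), (367,11), (311,36)])

def t1_325 : Term := (1, 1123, 15, [(2646,46), (1154,3), (2178,4), (536,22), (2695,62), (1928,15), (1316,22), (1664,16), (2605,22), (2415,4), (2382,58), (1693,3), (1616,22), (2724,46), (2472,24)])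

def t1_326 : Term := (1, 535, 14, [(2668,45), (2335,45), (2037,22), (2196,0), (2067,1), (982,47), (2168,17), (1769,0), (1993,45), (2665,54), (824,45), (1885,0), (2069,20), (2035,0), (1758,17)])

def t1_327 : Term := (1, 546, 0, [(839,0), (2728,43), (1144,0), (1509,51), (2727,57), (1339,0), (1123,14), (704,45), (1033,20), (1755,2), (820,5), (1696,20), (2193,31), (1593,5), (1324,21)])

def t1_328 : Term := (1, 316, 14, [(1968,9), (1171,32), (2077,9), (863,32), (775,1), (2202,28), (1358,32), (2428,42), (2002,52), (2477,13), (1641,48), (791,1), (2045,55), (523,1), (1791,35)])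

def t1_329 : Term := (1, 95, 14, [(1975,22), (2365,35), (2584,43), (1696,17), (2271,39), (2487,0), (2652,42), (2093,35), (1144,35), (2690,46), (2396,45), (2418,0), (2062,42), (1515,22), (1338,42)])

def t1_330 : Term := (1, 596, 37, [(910,35), (1056,0), (957,16), (486,16), (1011,34), (263,35), (190,40), (140,3), (322,3), (92,39), (153,34), (114,0), (55,39), (123,34), (61,17)])

def t1_331 : Term := (1, 89, 37, [(365,28), (315,0), (143,43), (1001,34), (941,32), (657,27), (281,34), (318,57), (71,26), (13,22), (359,16), (1067,30), (128,34), (275,39), (278,50)])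

def t1_332 : Term := (1, 170, 2, [(273,17), (1708,6), (494,16), (593,11), (313,16), (594,43), (120,17), (734,33), (183,16), (905,16), (370,17), (1010,35), (396,16), (1709,53), (735,36)])

def t1_333 : Term := (1, 493, 4, [(1088,37), (2010,19), (586,19), (2162,44), (1948,44), (1805,23), (1299,19), (2581,37), (1254,15), (260,45), (750,44), (385,6), (902,45), (1386,20), (2266,45)])

def t1_334 : Term := (1, 106, 9, [(236,19), (1814,37), (346,37), (2130,25), (1794,44), (422,44), (1165,3), (2802,38), (1701,19), (2129,13), (698,19), (2478,29), (2801,59), (2687,23), (1047,37)])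

def t1_335 : Term := (1, 544, 10, [(2038,1), (2463,20), (2070,2), (1504,37), (2469,51), (1994,2), (2069,5), (699,28), (1267,48), (2132,20), (2037,10), (1691,59), (2509,7), (2096,2), (1993,10)])

def t1_336 : Term := (1, 641, 11, [(2041,45), (2023,0), (1658,28), (2536,7), (1855,58), (2566,62), (2702,7), (2639,17), (1686,9), (2044,41), (1598,23), (2792,20), (1698,43), (1682,20), (2301,43)])

def t1_337 : Term := (1, 313, 1, [(973,51), (1800,22), (1845,16), (1284,60), (2433,31), (410,26), (1290,57), (913,38), (2435,51), (406,57), (1799,16), (1822,22), (1025,31), (976,58), (915,45)])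

def t1_338 : Term := (1, 535, 12, [(2214,48), (1462,18), (1576,23), (2790,18), (2293,37), (607,61), (2786,29), (2403,23), (1857,7), (2185,55), (1248,42), (1986,60), (2294,17), (1575,19), (2395,0)])

def t1_339 : Term := (1, 204, 9, [(1266,42), (839,36), (680,35), (2558,51), (1497,42), (1033,17), (2491,62), (2711,44), (1778,43), (2496,35), (2166,18), (2125,37), (1946,41), (1146,62), (2818,43)])

def t1_340 : Term := (1, 308, 9, [(1073,0), (1652,36), (667,35), (1651,28), (1488,42), (1021,17), (553,60), (1670,53), (1705,43), (554,17), (1977,18), (1531,2), (76,18), (555,60), (1844,50)])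

def t1_341 : Term := (1, 1126, 37, [(1079,35), (904,0), (1231,47), (69,37), (512,52), (963,18), (1803,20), (1077,18), (1656,44), (2330,63), (905,14), (407,17), (1254,61), (640,5), (1380,28)])

def t1_342 : Term := (1, 116, 1, [(312,17), (953,36), (673,0), (2325,18), (332,0), (2230,52), (182,17), (2329,36), (210,0), (1027,0), (395,17), (1079,35), (408,0), (892,56), (2234,41)])

def t1_343 : Term := (1, 283, 2, [(169,45), (179,54), (37,45), (669,61), (165,45), (658,45), (141,20), (670,54), (111,20), (665,20), (577,31), (664,38), (490,31), (174,20), (648,45)])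

def t1_344 : Term := (1, 284, 7, [(126,45), (1068,20), (2624,43), (1057,39), (912,51), (156,45), (972,20), (189,45), (900,38), (2617,43), (961,20), (12,20), (91,45), (1005,13), (1016,20)])

def t1_345 : Term := (1, 255, 13, [(427,43), (1607,36), (1932,43), (817,43), (1767,58), (1041,23), (1622,50), (873,35), (1920,25), (1046,20), (2028,43), (1542,49), (854,2), (836,20), (2018,46)])

def t1_346 : Term := (1, 485, 8, [(2135,45), (2376,20), (1168,45), (2278,34), (2601,51), (2171,45), (2602,20), (1170,45), (2752,20), (1169,61), (2812,51), (774,20), (2099,45), (2828,35), (2827,51)])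

def t1_347 : Term := (1, 472, 3, [(1168,15), (1742,6), (2366,23), (1295,48), (1294,62), (2612,11), (1169,6), (2607,6), (2603,15), (2272,47), (774,23), (711,41), (1574,6), (2611,15), (1296,62)])

def t1_348 : Term := (1, 251, 6, [(1173,2), (2619,36), (2400,0), (2523,7), (1049,48), (1587,29), (866,7), (1996,2), (2620,29), (1772,1), (1360,1), (2571,44), (2649,50), (2724,43), (1035,59)])

def t1_349 : Term := (1, 979, 38, [(2313,0), (1392,35), (1981,23), (927,32), (2137,3), (1925,22), (2072,57), (2753,58), (2259,26), (791,34), (1806,46), (2702,4), (1233,39), (1383,63), (2749,63)])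

def ts1_0 : List Term := [t1_0, t1_1, t1_2, t1_3, t1_4, t1_5, t1_6, t1_7, t1_8, t1_9, t1_10, t1_11, t1_12, t1_13, t1_14, t1_15, t1_16, t1_17, t1_18, t1_19, t1_20, t1_21, t1_22, t1_23, t1_24, t1_25, t1_26, t1_27, t1_28, t1_29, t1_30, t1_31, t1_32, t1_33, t1_34, t1_35, t1_36, t1_37, t1_38, t1_39, t1_40, t1_41, t1_42, t1_43, t1_44, t1_45, t1_46, t1_47, t1_48, t1_49]

def ts1_1 : List Term := [t1_50, t1_51, t1_52, t1_53, t1_54, t1_55, t1_56, t1_57, t1_58, t1_59, t1_60, t1_61, t1_62, t1_63, t1_64, t1_65, t1_66, t1_67, t1_68, t1_69, t1_70, t1_71, t1_72, t1_73, t1_74, t1_75, t1_76, t1_77, t1_78, t1_79, t1_80, t1_81, t1_82, t1_83, t1_84, t1_85, t1_86, t1_87, t1_88, t1_89, t1_90, t1_91, t1_92, t1_93, t1_94, t1_95, t1_96, t1_97, t1_98, t1_99]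

def ts1_2 : List Term := [t1_100, t1_101, t1_102, t1_103, t1_104, t1_105, t1_106, t1_107, t1_108, t1_109, t1_110, t1_111, t1_112, t1_113, t1_114, t1_115, t1_116, t1_117, t1_118, t1_119, t1_120, t1_121, t1_122, t1_123, t1_124, t1_125, t1_126, t1_127, t1_128, t1_129, t1_130, t1_131, t1_132, t1_133, t1_134, t1_135, t1_136, t1_137, t1_138, t1_139, t1_140, t1_141, t1_142, t1_143, t1_144, t1_145, t1_146, t1_147, t1_148, t1_149]

def ts1_3 : List Term := [t1_150, t1_151, t1_152, t1_153, t1_154, t1_155, t1_156, t1_157, t1_158, t1_159, t1_160, t1_161, t1_162, t1_163, t1_164, t1_165, t1_166, t1_167, t1_168, t1_169, t1_170, t1_171, t1_172, t1_173, t1_174, t1_175, t1_176, t1_177, t1_178, t1_179, t1_180, t1_181, t1_182, t1_183, t1_184, t1_185, t1_186, t1_187, t1_188, t1_189, t1_190, t1_191, t1_192, t1_193, t1_194, t1_195, t1_196, t1_197, t1_198, t1_199]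

def ts1_4 : List Term := [t1_200, t1_201, t1_202, t1_203, t1_204, t1_205, t1_206, t1_207, t1_208, t1_209, t1_210, t1_211, t1_212, t1_213, t1_214, t1_215, t1_216, t1_217, t1_218, t1_219, t1_220, t1_221, t1_222, t1_223, t1_224, t1_225, t1_226, t1_227, t1_228, t1_229, t1_230, t1_231, t1_232, t1_233, t1_234, t1_235, t1_236, t1_237, t1_238, t1_239, t1_240, t1_241, t1_242, t1_243, t1_244, t1_245, t1_246, t1_247, t1_248, t1_249]

def ts1_5 : List Term := [t1_250, t1_251, t1_252, t1_253, t1_254, t1_255, t1_256, t1_257, t1_258, t1_259, t1_260, t1_261, t1_262, t1_263, t1_264, t1_265, t1_266, t1_267, t1_268, t1_269, t1_270, t1_271, t1_272, t1_273, t1_274, t1_275, t1_276, t1_277, t1_278, t1_279, t1_280, t1_281, t1_282, t1_283, t1_284, t1_285, t1_286, t1_287, t1_288, t1_289, t1_290, t1_291, t1_292, t1_293, t1_294, t1_295, t1_296, t1_297, t1_298, t1_299]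

def ts1_6 : List Term := [t1_300, t1_301, t1_302, t1_303, t1_304, t1_305, t1_306, t1_307, t1_308, t1_309, t1_310, t1_311, t1_312, t1_313, t1_314, t1_315, t1_316, t1_317, t1_318, t1_319, t1_320, t1_321, t1_322, t1_323, t1_324, t1_325, t1_326, t1_327, t1_328, t1_329, t1_330, t1_331, t1_332, t1_333, t1_334, t1_335, t1_336, t1_337, t1_338, t1_339, t1_340, t1_341, t1_342, t1_343, t1_344, t1_345, t1_346, t1_347, t1_348, t1_349]

def ts1 : List Term := ts1_0 ++ ts1_1 ++ ts1_2 ++ ts1_3 ++ ts1_4 ++ ts1_5 ++ ts1_6

theorem ts1_ok : tab.okTerms elts bases ts1 = true := by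
  decide +kernel

end Cfsg.Lib.AltSection.Two
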