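import Cfsg.Agent.AltSection.Gens
import Cfsg.Agent.AltSection.Two.Terms0
import Cfsg.Agent.AltSection.Two.Terms1
import Cfsg.Agent.AltSection.Two.Terms2
import Cfsg.Agent.AltSection.Two.Terms3

/-!
# Every `F₂[A₉]`-module has a vector fixed by a nonsolvable subgroup
-/

set_option maxHeartbeats 0
set_option maxRecDepth 100000

namespace Cfsg.Lib.AltSection.Two

/-- All translation terms. -/
def terms : List Term := ts0 ++ ts1 ++ ts2 ++ ts3

theorem terms_ok : tab.okTerms elts bases terms = true := by
  simp only [terms, Tab.okTerms_append, ts0_ok, ts1_ok, ts2_ok, ts3_ok, Bool.and_self]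

theorem sum_ok : tab.okZero 2 ([(0, 1)] ++ combV bases terms) = true := by
  decide +kernel

theorem reps_ok : tab.okReps gensA repsP = true := by decide +kernel

theorem elts_ok : elts.okReps gensA eltsP = true := by decide +kernel

theorem hs_ok : hsTab.okReps gensP hsP = true := by decide +kernel

theorem hs_eq : tab.hs = (List.range 64).map hsTab.rep := by decide +kernel

theorem gensA_ok : (gensA.all fun x => (g3Codes 9 0 1).contains x) = true := by decide +kernel

theorem plist_ok : okPList 9 (2 ^ 3) gensP tab.hs = true := by decide +kernel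

theorem gensP_ok : (gensP.all fun x => (((List.range elts.N).map elts.rep).contains x ||
    ((List.range tab.N).map tab.rep).contains x)) = true := by decide +kernel

theorem seedIx_ok : (seedIx.all fun s => decide (s.1 < elts.N) && decide (s.2 < elts.N)) = true := by
  decide +kernel

theorem seeds_ok : seeds.all (okTriangle 9) = true := by decide +kernel

theorem false_of_noFix {W : Type*} [AddCommGroup W] [Finite W] [Nontrivial W]
    (ρ : alternatingGroup (Fin 9) →* AddMonoid.End W) (hchar : ∀ x : W, 2 • x = 0) (h : NoFix ρ) :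
    False := by
  have hA : ∀ x ∈ gensA, Mem 9 x := mem_g3 9 0 1 (by decide) gensA_ok
  have hR : ∀ i, i < tab.N → Mem 9 (tab.rep i) := mem_of_tab rfl (by norm_num) hA reps_ok
  have hE : ∀ i, i < elts.N → Mem 9 (elts.rep i) := mem_of_tab rfl (by norm_num) hA elts_ok
  have hP : ∀ x ∈ gensP, Mem 9 x := by
    intro x hx
    have h1 := List.all_eq_true.1 gensP_ok x hx
    simp only [Bool.or_eq_true, List.contains_iff_mem, List.mem_map, List.mem_range] at h1
    rcases h1 with ⟨i, hi, rfl⟩ | ⟨i, hi, rfl⟩
    · exact hE i hi
    · exact hR i hi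
  haveI : Fact (Nat.Prime 2) := ⟨Nat.prime_two⟩
  obtain ⟨w, -, hw, hfix⟩ := exists_fixed_list (ρ := ρ) hchar (by norm_num) hP plist_ok (T := hsTab) rfl hs_ok ⊤
    (by simp) (fun _ _ _ _ => AddSubgroup.mem_top _)
  have hH : ∀ i, i < hsTab.N → Mem 9 (hsTab.rep i) := mem_of_tab rfl (by norm_num) hP hs_ok
  have hlen : tab.hs.length = 64 := by rw [hs_eq, List.length_map, List.length_range]
  have hget : ∀ k, k < tab.hs.length → tab.hs.getD k 0 = hsTab.rep k := by
    intro k hk
    rw [List.getD_eq_getElem _ _ hk]
    simp only [hs_eq, List.getElem_map, List.getElem_range]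
  have G : Good tab 2 ρ w := by
    refine ⟨by decide, hR, ?_, ?_, hchar⟩
    · intro k hk
      rw [hget k hk]
      exact hH k (by rw [hlen] at hk; exact hk)
    · intro k hk
      rw [hget k hk]
      exact hfix k (by rw [hlen] at hk; exact hk)
  have hs : SeedsKill ρ seeds := seedsKill_of_noFix (by norm_num) h (mem_seeds hE seedIx seedIx_ok) seeds_ok
  have hb := G.val_fixd_all (elts := elts) (bases := []) (by norm_num) hs hE (by simp) orbs orbs_ok
  have hc : val tab ρ w (combV bases terms) = 0 := G.val_comb hE hb terms terms_ok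
  exact hw (G.eq_zero_of_sum hc (by decide +kernel) sum_ok)

end Cfsg.Lib.AltSection.Two
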