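import Cfsg.Agent.AltSection.Module

/-! Generated certificate data for modules of `A₉` in characteristic two. -/

set_option maxHeartbeats 0
set_option maxRecDepth 100000

namespace Cfsg.Lib.AltSection.Two


def repsT0 : BT := (.node (.node (.node (.node (.node (.node (.node (.leaf 0x876543210) (.leaf 0x876543021)) (.node (.leaf 0x876540231) (.leaf 0x876503241))) (.node (.node (.leaf 0x876043251) (.leaf 0x870543261)) (.node (.leaf 0x806543271) (.leaf 0x76543281)))) (.node (.node (.node (.leaf 0x876503124) (.leaf 0x876043125)) (.node (.leaf 0x870543126) (.leaf 0x806543127))) (.node (.node (.leaf 0x76543128) (.leaf 0x876501234)) (.node (.leaf 0x876041235) (.leaf 0x870541236))))) (.node (.node (.node (.node (.leaf 0x806541237) (.leaf 0x76541238)) (.node (.leaf 0x876513042) (.leaf 0x876510243))) (.node (.node (.leaf 0x876513204) (.leaf 0x876013245)) (.node (.leaf 0x870513246) (.leaf 0x806513247)))) (.node (.node (.node (.leaf 0x76513248) (.leaf 0x876143052)) (.node (.leaf 0x876140253) (.leaf 0x876143205)))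 (.node (.node (.leaf 0x870143256) (.leaf 0x806143257)) (.node (.leaf 0x76143258) (.leaf 0x871543062)))))) (.node (.node (.node (.node (.node (.leaf 0x871540263) (.leaf 0x871503264)) (.node (.leaf 0x871043265) (.leaf 0x871543206))) (.node (.node (.leaf 0x801543267) (.leaf 0x71543268)) (.node (.leaf 0x816543072) (.leaf 0x816540273)))) (.node (.node (.node (.leaf 0x816503274) (.leaf 0x816043275)) (.node (.leaf 0x816543207) (.leaf 0x16543278))) (.node (.node (.leaf 0x176543082) (.leaf 0x176540283)) (.node (.leaf 0x176503284) (.leaf 0x176043285))))) (.node (.node (.node (.node (.leaf 0x170543286) (.leaf 0x106543287)) (.node (.leaf 0x176543208) (.leaf 0x876013524))) (.node (.node (.leaf 0x870513624) (.leaf 0x806513724)) (.node (.leaf 0x76513824) (.leaf 0x876103425)))) (.node (.node (.node (.leaf 0x870143625) (.leaf 0x806143725)) (.node (.leaf 0x76143825) (.leaf 0x871503426))) (.node (.node (.leaf 0x871043526) (.leaf 0x801543726)) (.node (.leaf 0x71543826) (.leaf 0x816503427))))))) (.node (.node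 (.node (.node (.node (.node (.leaf 0x816043527) (.leaf 0x810543627)) (.node (.leaf 0x16543827) (.leaf 0x176503428))) (.node (.node (.leaf 0x176043528) (.leaf 0x170543628)) (.node (.leaf 0x106543728) (.leaf 0x870516234)))) (.node (.node (.node (.leaf 0x806517234) (.leaf 0x76518234)) (.node (.leaf 0x870146235) (.leaf 0x806147235))) (.node (.node (.leaf 0x76148235) (.leaf 0x871504236)) (.node (.leaf 0x871045236) (.leaf 0x71548236))))) (.node (.node (.node (.node (.leaf 0x816504237) (.leaf 0x816045237)) (.node (.leaf 0x16548237) (.leaf 0x176504238))) (.node (.node (.leaf 0x176045238) (.leaf 0x170546238)) (.node (.leaf 0x106547238) (.leaf 0x876523140)))) (.node (.node (.node (.leaf 0x876530142) (.leaf 0x870563142)) (.node (.leaf 0x806573142) (.leaf 0x76583142))) (.node (.node (.leaf 0x876521043) (.leaf 0x876531240)) (.node (.leaf 0x870561243) (.leaf 0x806571243)))))) (.node (.node (.node (.node (.node (.leaf 0x76581243) (.leaf 0x876523014)) (.node (.leaf 0x876530214) (.leaf 0x870563214))) (.node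 (.node (.leaf 0x806573214) (.leaf 0x76583214)) (.node (.leaf 0x876123045) (.leaf 0x876130245)))) (.node (.node (.node (.leaf 0x870163245) (.leaf 0x806173245)) (.node (.leaf 0x76183245) (.leaf 0x871523046))) (.node (.node (.leaf 0x871530246) (.leaf 0x871563240)) (.node (.leaf 0x801573246) (.leaf 0x71583246))))) (.node (.node (.node (.node (.leaf 0x816523047) (.leaf 0x816530247)) (.node (.leaf 0x810563247) (.leaf 0x816573240))) (.node (.node (.leaf 0x16583247) (.leaf 0x176523048)) (.node (.leaf 0x176530248) (.leaf 0x170563248)))) (.node (.node (.node (.leaf 0x106573248) (.leaf 0x176583240)) (.node (.leaf 0x876243150) (.leaf 0x876340152))) (.node (.node (.leaf 0x870643152) (.leaf 0x806743152)) (.node (.leaf 0x76843152) (.leaf 0x876241053))))))))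

def repsT1 : BT := (.node (.node (.node (.node (.node (.node (.node (.leaf 0x876341250) (.leaf 0x870641253)) (.node (.leaf 0x806741253) (.leaf 0x76841253))) (.node (.node (.leaf 0x876243015) (.leaf 0x876340215)) (.node (.leaf 0x870643215) (.leaf 0x806743215)))) (.node (.node (.node (.leaf 0x76843215) (.leaf 0x871243056)) (.node (.leaf 0x871340256) (.leaf 0x871643250))) (.node (.node (.leaf 0x801743256) (.leaf 0x71843256)) (.node (.leaf 0x816243057) (.leaf 0x816340257))))) (.node (.node (.node (.node (.leaf 0x810643257) (.leaf 0x816743250)) (.node (.leaf 0x16843257) (.leaf 0x176243058))) (.node (.node (.leaf 0x176340258) (.leaf 0x170643258)) (.node (.leaf 0x106743258) (.leaf 0x176843250)))) (.node (.node (.node (.leaf 0x872543160) (.leaf 0x873540162)) (.node (.leaf 0x874503162) (.leaf 0x875043162))) (.node (.node (.leaf 0x78543162) (.leaf 0x872541063)) (.node (.leaf 0x873541260) (.leaf 0x874501263)))))) (.node (.node (.node (.node (.node (.leaf 0x875041263) (.leaf 0x78541263)) (.node (.leaf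 0x872513064) (.leaf 0x873510264))) (.node (.node (.leaf 0x874513260) (.leaf 0x78513264)) (.node (.leaf 0x872143065) (.leaf 0x873140265)))) (.node (.node (.node (.leaf 0x875143260) (.leaf 0x78143265)) (.node (.leaf 0x872543016) (.leaf 0x873540216))) (.node (.node (.leaf 0x874503216) (.leaf 0x875043216)) (.node (.leaf 0x78543216) (.leaf 0x812543067))))) (.node (.node (.node (.node (.leaf 0x813540267) (.leaf 0x814503267)) (.node (.leaf 0x815043267) (.leaf 0x18543267))) (.node (.node (.leaf 0x172543068) (.leaf 0x173540268)) (.node (.leaf 0x174503268) (.leaf 0x175043268)))) (.node (.node (.node (.leaf 0x178543260) (.leaf 0x826543170)) (.node (.leaf 0x836540172) (.leaf 0x846503172))) (.node (.node (.leaf 0x856043172) (.leaf 0x86543172)) (.node (.leaf 0x826541073) (.leaf 0x836541270))))))) (.node (.node (.node (.node (.node (.node (.leaf 0x846501273) (.leaf 0x856041273)) (.node (.leaf 0x86541273) (.leaf 0x826513074))) (.node (.node (.leaf 0x836510274) (.leaf 0x846513270)) (.node (.leaf 0x86513274)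 (.leaf 0x826143075)))) (.node (.node (.node (.leaf 0x836140275) (.leaf 0x856143270)) (.node (.leaf 0x86143275) (.leaf 0x826543017))) (.node (.node (.leaf 0x836540217) (.leaf 0x846503217)) (.node (.leaf 0x856043217) (.leaf 0x86543217))))) (.node (.node (.node (.node (.leaf 0x126543078) (.leaf 0x136540278)) (.node (.leaf 0x146503278) (.leaf 0x156043278))) (.node (.node (.leaf 0x186543270) (.leaf 0x276543180)) (.node (.leaf 0x376540182) (.leaf 0x476503182)))) (.node (.node (.node (.leaf 0x576043182) (.leaf 0x670543182)) (.node (.leaf 0x706543182) (.leaf 0x276541083))) (.node (.node (.leaf 0x376541280) (.leaf 0x476501283)) (.node (.leaf 0x576041283) (.leaf 0x670541283)))))) (.node (.node (.node (.node (.node (.leaf 0x706541283) (.leaf 0x276513084)) (.node (.leaf 0x376510284) (.leaf 0x476513280))) (.node (.node (.leaf 0x576013284) (.leaf 0x670513284)) (.node (.leaf 0x706513284) (.leaf 0x276143085)))) (.node (.node (.node (.leaf 0x376140285) (.leaf 0x476103285)) (.node (.leaf 0x576143280) (.leaf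 0x670143285))) (.node (.node (.leaf 0x706143285) (.leaf 0x271543086)) (.node (.leaf 0x371540286) (.leaf 0x471503286))))) (.node (.node (.node (.node (.leaf 0x571043286) (.leaf 0x671543280)) (.node (.leaf 0x701543286) (.leaf 0x216543087))) (.node (.node (.leaf 0x316540287) (.leaf 0x416503287)) (.node (.leaf 0x516043287) (.leaf 0x610543287)))) (.node (.node (.node (.leaf 0x716543280) (.leaf 0x276543018)) (.node (.leaf 0x376540218) (.leaf 0x476503218))) (.node (.node (.leaf 0x576043218) (.leaf 0x670543218)) (.node (.leaf 0x706543218) (.leaf 0x876123504))))))))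

def repsT2 : BT := (.node (.node (.node (.node (.node (.node (.node (.leaf 0x876130524) (.leaf 0x870163524)) (.node (.leaf 0x806173524) (.leaf 0x76183524))) (.node (.node (.leaf 0x871523604) (.leaf 0x871530624)) (.node (.leaf 0x871563024) (.leaf 0x801573624)))) (.node (.node (.node (.leaf 0x71583624) (.leaf 0x816523704)) (.node (.leaf 0x816530724) (.leaf 0x810563724))) (.node (.node (.leaf 0x816573024) (.leaf 0x16583724)) (.node (.leaf 0x176523804) (.leaf 0x176530824))))) (.node (.node (.node (.node (.leaf 0x170563824) (.leaf 0x106573824)) (.node (.leaf 0x176583024) (.leaf 0x876213405))) (.node (.node (.leaf 0x876310425) (.leaf 0x870613425)) (.node (.leaf 0x806713425) (.leaf 0x76813425)))) (.node (.node (.node (.leaf 0x871243605) (.leaf 0x871340625)) (.node (.leaf 0x871643025) (.leaf 0x801743625))) (.node (.node (.leaf 0x71843625) (.leaf 0x816243705)) (.node (.leaf 0x816340725) (.leaf 0x810643725)))))) (.node (.node (.node (.node (.node (.leaf 0x816743025) (.leaf 0x16843725)) (.node (.leaf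 0x176243805) (.leaf 0x176340825))) (.node (.node (.leaf 0x170643825) (.leaf 0x106743825)) (.node (.leaf 0x176843025) (.leaf 0x872513406)))) (.node (.node (.node (.leaf 0x873510426) (.leaf 0x874513026)) (.node (.leaf 0x875013426) (.leaf 0x78513426))) (.node (.node (.leaf 0x872143506) (.leaf 0x873140526)) (.node (.leaf 0x874103526) (.leaf 0x875143026))))) (.node (.node (.node (.node (.leaf 0x78143526) (.leaf 0x812543706)) (.node (.leaf 0x813540726) (.leaf 0x814503726))) (.node (.node (.leaf 0x815043726) (.leaf 0x18543726)) (.node (.leaf 0x172543806) (.leaf 0x173540826)))) (.node (.node (.node (.leaf 0x174503826) (.leaf 0x175043826)) (.node (.leaf 0x178543026) (.leaf 0x826513407))) (.node (.node (.leaf 0x836510427) (.leaf 0x846513027)) (.node (.leaf 0x856013427) (.leaf 0x86513427))))))) (.node (.node (.node (.node (.node (.node (.leaf 0x826143507) (.leaf 0x836140527)) (.node (.leaf 0x846103527) (.leaf 0x856143027))) (.node (.node (.leaf 0x86143527) (.leaf 0x821543607)) (.node (.leaf 0x831540627)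 (.leaf 0x841503627)))) (.node (.node (.node (.leaf 0x851043627) (.leaf 0x81543627)) (.node (.leaf 0x126543807) (.leaf 0x136540827))) (.node (.node (.leaf 0x146503827) (.leaf 0x156043827)) (.node (.leaf 0x186543027) (.leaf 0x276513408))))) (.node (.node (.node (.node (.leaf 0x376510428) (.leaf 0x476513028)) (.node (.leaf 0x576013428) (.leaf 0x670513428))) (.node (.node (.leaf 0x706513428) (.leaf 0x276143508)) (.node (.leaf 0x376140528) (.leaf 0x476103528)))) (.node (.node (.node (.leaf 0x576143028) (.leaf 0x670143528)) (.node (.leaf 0x706143528) (.leaf 0x271543608))) (.node (.node (.leaf 0x371540628) (.leaf 0x471503628)) (.node (.leaf 0x571043628) (.leaf 0x671543028)))))) (.node (.node (.node (.node (.node (.leaf 0x701543628) (.leaf 0x216543708)) (.node (.leaf 0x316540728) (.leaf 0x416503728))) (.node (.node (.leaf 0x516043728) (.leaf 0x610543728)) (.node (.leaf 0x716543028) (.leaf 0x871526034)))) (.node (.node (.node (.leaf 0x871536204) (.leaf 0x871560234)) (.node (.leaf 0x71586234) (.leaf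 0x816527034))) (.node (.node (.leaf 0x816537204) (.leaf 0x816570234)) (.node (.leaf 0x16587234) (.leaf 0x176528034))))) (.node (.node (.node (.node (.leaf 0x176538204) (.leaf 0x170568234)) (.node (.leaf 0x106578234) (.leaf 0x176580234))) (.node (.node (.leaf 0x871246035) (.leaf 0x871346205)) (.node (.leaf 0x871640235) (.leaf 0x71846235)))) (.node (.node (.node (.leaf 0x816247035) (.leaf 0x816347205)) (.node (.leaf 0x816740235) (.leaf 0x16847235))) (.node (.node (.leaf 0x176248035) (.leaf 0x176348205)) (.node (.leaf 0x170648235) (.leaf 0x106748235))))))))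

def repsT3 : BT := (.node (.node (.node (.node (.node (.node (.node (.leaf 0x176840235) (.leaf 0x872514036)) (.node (.leaf 0x873514206) (.leaf 0x874510236))) (.node (.node (.leaf 0x78514236) (.leaf 0x872145036)) (.node (.leaf 0x873145206) (.leaf 0x875140236)))) (.node (.node (.node (.leaf 0x78145236) (.leaf 0x172548036)) (.node (.leaf 0x173548206) (.leaf 0x174508236))) (.node (.node (.leaf 0x175048236) (.leaf 0x178540236)) (.node (.leaf 0x826514037) (.leaf 0x836514207))))) (.node (.node (.node (.node (.leaf 0x846510237) (.leaf 0x86514237)) (.node (.leaf 0x826145037) (.leaf 0x836145207))) (.node (.node (.leaf 0x856140237) (.leaf 0x86145237)) (.node (.leaf 0x126548037) (.leaf 0x136548207)))) (.node (.node (.node (.leaf 0x146508237) (.leaf 0x156048237)) (.node (.leaf 0x186540237) (.leaf 0x276514038))) (.node (.node (.leaf 0x376514208) (.leaf 0x476510238)) (.node (.leaf 0x576014238) (.leaf 0x670514238)))))) (.node (.node (.node (.node (.node (.leaf 0x706514238) (.leaf 0x276145038)) (.node (.leaf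 0x376145208) (.leaf 0x476105238))) (.node (.node (.leaf 0x576140238) (.leaf 0x670145238)) (.node (.leaf 0x706145238) (.leaf 0x271546038)))) (.node (.node (.node (.leaf 0x371546208) (.leaf 0x471506238)) (.node (.leaf 0x571046238) (.leaf 0x671540238))) (.node (.node (.leaf 0x701546238) (.leaf 0x216547038)) (.node (.leaf 0x316547208) (.leaf 0x416507238))))) (.node (.node (.node (.node (.leaf 0x516047238) (.leaf 0x610547238)) (.node (.leaf 0x716540238) (.leaf 0x876023541))) (.node (.node (.leaf 0x76523841) (.leaf 0x876031542)) (.node (.leaf 0x76531842) (.leaf 0x71563842)))) (.node (.node (.node (.leaf 0x16573842) (.leaf 0x176083542)) (.node (.leaf 0x170583642) (.leaf 0x106583742))) (.node (.node (.leaf 0x876025143) (.leaf 0x76528143)) (.node (.leaf 0x876035241) (.leaf 0x76538241))))))) (.node (.node (.node (.node (.node (.node (.leaf 0x71568243) (.leaf 0x16578243)) (.node (.leaf 0x176085243) (.leaf 0x170586243))) (.node (.node (.leaf 0x106587243) (.leaf 0x870523164)) (.node (.leaf 0x806523174)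 (.leaf 0x76523184)))) (.node (.node (.node (.leaf 0x870531264) (.leaf 0x806531274)) (.node (.leaf 0x76531284) (.leaf 0x71563284))) (.node (.node (.leaf 0x16573284) (.leaf 0x176083254)) (.node (.leaf 0x170583264) (.leaf 0x106583274))))) (.node (.node (.node (.node (.leaf 0x76823145) (.leaf 0x76831245)) (.node (.leaf 0x871263045) (.leaf 0x871360245))) (.node (.node (.leaf 0x71863245) (.leaf 0x816273045)) (.node (.leaf 0x816370245) (.leaf 0x16873245)))) (.node (.node (.node (.leaf 0x176283045) (.leaf 0x176380245)) (.node (.leaf 0x170683245) (.leaf 0x106783245))) (.node (.node (.leaf 0x872503146) (.leaf 0x874523106)) (.node (.leaf 0x875023146) (.leaf 0x78523146)))))) (.node (.node (.node (.node (.node (.leaf 0x873501246) (.leaf 0x874531206)) (.node (.leaf 0x875031246) (.leaf 0x78531246))) (.node (.node (.leaf 0x872563041) (.leaf 0x873560241)) (.node (.leaf 0x874563201) (.leaf 0x78563241)))) (.node (.node (.node (.leaf 0x812573046) (.leaf 0x813570246)) (.node (.leaf 0x18573246) (.leaf 0x172583046)))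 (.node (.node (.leaf 0x173580246) (.leaf 0x174583206)) (.node (.leaf 0x175083246) (.leaf 0x178503246))))) (.node (.node (.node (.node (.leaf 0x826503147) (.leaf 0x846523107)) (.node (.leaf 0x856023147) (.leaf 0x86523147))) (.node (.node (.leaf 0x836501247) (.leaf 0x846531207)) (.node (.leaf 0x856031247) (.leaf 0x86531247)))) (.node (.node (.node (.leaf 0x821563047) (.leaf 0x831560247)) (.node (.leaf 0x81563247) (.leaf 0x826573041))) (.node (.node (.leaf 0x836570241) (.leaf 0x846573201)) (.node (.leaf 0x86573241) (.leaf 0x126583047))))))))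

def repsT4 : BT := (.node (.node (.node (.node (.node (.node (.node (.leaf 0x136580247) (.leaf 0x146583207)) (.node (.leaf 0x156083247) (.leaf 0x186503247))) (.node (.node (.leaf 0x276503148) (.leaf 0x376520148)) (.node (.leaf 0x476523108) (.leaf 0x576023148)))) (.node (.node (.node (.leaf 0x670523148) (.leaf 0x706523148)) (.node (.leaf 0x276531048) (.leaf 0x376501248))) (.node (.node (.leaf 0x476531208) (.leaf 0x576031248)) (.node (.leaf 0x670531248) (.leaf 0x706531248))))) (.node (.node (.node (.node (.leaf 0x271563048) (.leaf 0x371560248)) (.node (.leaf 0x471563208) (.leaf 0x571063248))) (.node (.node (.leaf 0x671503248) (.leaf 0x701563248)) (.node (.leaf 0x216573048) (.leaf 0x316570248)))) (.node (.node (.node (.leaf 0x416573208) (.leaf 0x516073248)) (.node (.leaf 0x610573248) (.leaf 0x716503248))) (.node (.node (.leaf 0x276583041) (.leaf 0x376580241)) (.node (.leaf 0x476583201) (.leaf 0x576083241)))))) (.node (.node (.node (.node (.node (.leaf 0x670583241) (.leaf 0x706583241)) (.node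 (.leaf 0x76243851) (.leaf 0x76341852))) (.node (.node (.leaf 0x71643852) (.leaf 0x16743852)) (.node (.leaf 0x170843652) (.leaf 0x106843752)))) (.node (.node (.node (.leaf 0x76248153) (.leaf 0x76348251)) (.node (.leaf 0x71648253) (.leaf 0x16748253))) (.node (.node (.leaf 0x170846253) (.leaf 0x106847253)) (.node (.leaf 0x870243165) (.leaf 0x806243175))))) (.node (.node (.node (.node (.leaf 0x76243185) (.leaf 0x870341265)) (.node (.leaf 0x806341275) (.leaf 0x76341285))) (.node (.node (.leaf 0x71643285) (.leaf 0x16743285)) (.node (.leaf 0x170843265) (.leaf 0x106843275)))) (.node (.node (.node (.leaf 0x872043156) (.leaf 0x875243106)) (.node (.leaf 0x78243156) (.leaf 0x873041256))) (.node (.node (.leaf 0x875341206) (.leaf 0x78341256)) (.node (.leaf 0x872643051) (.leaf 0x873640251))))))) (.node (.node (.node (.node (.node (.node (.leaf 0x78643251) (.leaf 0x18743256)) (.node (.leaf 0x172843056) (.leaf 0x173840256))) (.node (.node (.leaf 0x174803256) (.leaf 0x175843206)) (.node (.leaf 0x178043256)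 (.leaf 0x826043157)))) (.node (.node (.node (.leaf 0x856243107) (.leaf 0x86243157)) (.node (.leaf 0x836041257) (.leaf 0x856341207))) (.node (.node (.leaf 0x86341257) (.leaf 0x81643257)) (.node (.leaf 0x826743051) (.leaf 0x836740251))))) (.node (.node (.node (.node (.leaf 0x86743251) (.leaf 0x126843057)) (.node (.leaf 0x136840257) (.leaf 0x146803257))) (.node (.node (.leaf 0x156843207) (.leaf 0x186043257)) (.node (.leaf 0x276043158) (.leaf 0x376240158)))) (.node (.node (.node (.leaf 0x476203158) (.leaf 0x576243108)) (.node (.leaf 0x670243158) (.leaf 0x706243158))) (.node (.node (.leaf 0x276341058) (.leaf 0x376041258)) (.node (.leaf 0x476301258) (.leaf 0x576341208)))))) (.node (.node (.node (.node (.node (.leaf 0x670341258) (.leaf 0x706341258)) (.node (.leaf 0x271643058) (.leaf 0x371640258))) (.node (.node (.leaf 0x471603258) (.leaf 0x571643208)) (.node (.leaf 0x671043258) (.leaf 0x701643258)))) (.node (.node (.node (.leaf 0x216743058) (.leaf 0x316740258)) (.node (.leaf 0x416703258) (.leaf 0x516743208)))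 (.node (.node (.leaf 0x610743258) (.leaf 0x716043258)) (.node (.leaf 0x276843051) (.leaf 0x376840251))))) (.node (.node (.node (.node (.leaf 0x476803251) (.leaf 0x576843201)) (.node (.leaf 0x670843251) (.leaf 0x706843251))) (.node (.node (.leaf 0x72543861) (.leaf 0x73541862)) (.node (.leaf 0x74513862) (.leaf 0x75143862)))) (.node (.node (.node (.leaf 0x178503462) (.leaf 0x178043562)) (.node (.leaf 0x108543762) (.leaf 0x72548163))) (.node (.node (.leaf 0x73548261) (.leaf 0x74518263)) (.node (.leaf 0x75148263) (.leaf 0x178504263))))))))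

def repsT5 : BT := (.node (.node (.node (.node (.node (.node (.node (.leaf 0x178045263) (.leaf 0x108547263)) (.node (.leaf 0x872563104) (.leaf 0x72583164))) (.node (.node (.leaf 0x873561204) (.leaf 0x73581264)) (.node (.leaf 0x874523061) (.leaf 0x874530261)))) (.node (.node (.node (.leaf 0x74583261) (.leaf 0x178523064)) (.node (.leaf 0x178530264) (.leaf 0x178563204))) (.node (.node (.leaf 0x872643105) (.leaf 0x72843165)) (.node (.leaf 0x873641205) (.leaf 0x73841265))))) (.node (.node (.node (.node (.leaf 0x875243061) (.leaf 0x875340261)) (.node (.leaf 0x75843261) (.leaf 0x178243065))) (.node (.node (.leaf 0x178340265) (.leaf 0x178643205)) (.node (.leaf 0x72543186) (.leaf 0x73541286)))) (.node (.node (.node (.leaf 0x74513286) (.leaf 0x75143286)) (.node (.leaf 0x108543276) (.leaf 0x82543167))) (.node (.node (.leaf 0x83541267) (.leaf 0x84513267)) (.node (.leaf 0x85143267) (.leaf 0x128543067)))))) (.node (.node (.node (.node (.node (.leaf 0x138540267) (.leaf 0x148503267)) (.node (.leaf 0x158043267)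 (.leaf 0x270543168))) (.node (.node (.leaf 0x372540168) (.leaf 0x472503168)) (.node (.leaf 0x572043168) (.leaf 0x672543108)))) (.node (.node (.node (.leaf 0x702543168) (.leaf 0x273541068)) (.node (.leaf 0x370541268) (.leaf 0x473501268))) (.node (.node (.leaf 0x573041268) (.leaf 0x673541208)) (.node (.leaf 0x703541268) (.leaf 0x274513068))))) (.node (.node (.node (.node (.leaf 0x374510268) (.leaf 0x470513268)) (.node (.leaf 0x574013268) (.leaf 0x674513208))) (.node (.node (.leaf 0x704513268) (.leaf 0x275143068)) (.node (.leaf 0x375140268) (.leaf 0x475103268)))) (.node (.node (.node (.leaf 0x570143268) (.leaf 0x675143208)) (.node (.leaf 0x705143268) (.leaf 0x278543061))) (.node (.node (.leaf 0x378540261) (.leaf 0x478503261)) (.node (.leaf 0x578043261) (.leaf 0x678543201))))))) (.node (.node (.node (.node (.node (.node (.leaf 0x708543261) (.leaf 0x26543871)) (.node (.leaf 0x36541872) (.leaf 0x46513872))) (.node (.node (.leaf 0x56143872) (.leaf 0x186503472)) (.node (.leaf 0x186043572) (.leaf 0x26548173))))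 (.node (.node (.node (.leaf 0x36548271) (.leaf 0x46518273)) (.node (.leaf 0x56148273) (.leaf 0x186504273))) (.node (.node (.leaf 0x186045273) (.leaf 0x826573104)) (.node (.leaf 0x26583174) (.leaf 0x836571204))))) (.node (.node (.node (.node (.leaf 0x36581274) (.leaf 0x846523071)) (.node (.leaf 0x846530271) (.leaf 0x46583271))) (.node (.node (.leaf 0x186523074) (.leaf 0x186530274)) (.node (.leaf 0x186573204) (.leaf 0x826743105)))) (.node (.node (.node (.leaf 0x26843175) (.leaf 0x836741205)) (.node (.leaf 0x36841275) (.leaf 0x856243071))) (.node (.node (.leaf 0x856340271) (.leaf 0x56843271)) (.node (.leaf 0x186243075) (.leaf 0x186340275)))))) (.node (.node (.node (.node (.node (.leaf 0x186743205) (.leaf 0x26543187)) (.node (.leaf 0x36541287) (.leaf 0x46513287))) (.node (.node (.leaf 0x56143287) (.leaf 0x206543178)) (.node (.leaf 0x326540178) (.leaf 0x426503178)))) (.node (.node (.node (.leaf 0x526043178) (.leaf 0x620543178)) (.node (.leaf 0x726543108) (.leaf 0x236541078))) (.node (.node (.leaf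 0x306541278) (.leaf 0x436501278)) (.node (.leaf 0x536041278) (.leaf 0x630541278))))) (.node (.node (.node (.node (.leaf 0x736541208) (.leaf 0x246513078)) (.node (.leaf 0x346510278) (.leaf 0x406513278))) (.node (.node (.leaf 0x546013278) (.leaf 0x640513278)) (.node (.leaf 0x746513208) (.leaf 0x256143078)))) (.node (.node (.node (.leaf 0x356140278) (.leaf 0x456103278)) (.node (.leaf 0x506143278) (.leaf 0x650143278))) (.node (.node (.leaf 0x756143208) (.leaf 0x286543071)) (.node (.leaf 0x386540271) (.leaf 0x486503271))))))))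

def repsT6 : BT := (.node (.node (.node (.node (.node (.node (.node (.leaf 0x586043271) (.leaf 0x680543271)) (.node (.leaf 0x786543201) (.leaf 0x276503481))) (.node (.node (.leaf 0x276043581) (.leaf 0x270543681)) (.node (.leaf 0x206543781) (.leaf 0x376501482)))) (.node (.node (.node (.leaf 0x376041582) (.leaf 0x370541682)) (.node (.leaf 0x306541782) (.leaf 0x470513682))) (.node (.node (.leaf 0x406513782) (.leaf 0x570143682)) (.node (.leaf 0x506143782) (.leaf 0x671503482))))) (.node (.node (.node (.node (.leaf 0x671043582) (.leaf 0x716503482)) (.node (.leaf 0x716043582) (.leaf 0x276504183))) (.node (.node (.leaf 0x276045183) (.leaf 0x270546183)) (.node (.leaf 0x206547183) (.leaf 0x376504281)))) (.node (.node (.node (.leaf 0x376045281) (.leaf 0x370546281)) (.node (.leaf 0x306547281) (.leaf 0x470516283))) (.node (.node (.leaf 0x406517283) (.leaf 0x570146283)) (.node (.leaf 0x506147283) (.leaf 0x671504283)))))) (.node (.node (.node (.node (.node (.leaf 0x671045283) (.leaf 0x716504283)) (.node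 (.leaf 0x716045283) (.leaf 0x270563184))) (.node (.node (.leaf 0x206573184) (.leaf 0x276583104)) (.node (.leaf 0x370561284) (.leaf 0x306571284)))) (.node (.node (.node (.leaf 0x376581204) (.leaf 0x476523081)) (.node (.leaf 0x476530281) (.leaf 0x470563281))) (.node (.node (.leaf 0x406573281) (.leaf 0x576123084)) (.node (.leaf 0x576130284) (.leaf 0x576183204))))) (.node (.node (.node (.node (.leaf 0x671523084) (.leaf 0x671530284)) (.node (.leaf 0x671583204) (.leaf 0x716523084))) (.node (.node (.leaf 0x716530284) (.leaf 0x716583204)) (.node (.leaf 0x270643185) (.leaf 0x206743185)))) (.node (.node (.node (.leaf 0x276843105) (.leaf 0x370641285)) (.node (.leaf 0x306741285) (.leaf 0x376841205))) (.node (.node (.leaf 0x476213085) (.leaf 0x476310285)) (.node (.leaf 0x476813205) (.leaf 0x576243081))))))) (.node (.node (.node (.node (.node (.node (.leaf 0x576340281) (.leaf 0x570643281)) (.node (.leaf 0x506743281) (.leaf 0x671243085))) (.node (.node (.leaf 0x671340285) (.leaf 0x671843205)) (.node (.leaf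 0x716243085) (.leaf 0x716340285)))) (.node (.node (.node (.leaf 0x716843205) (.leaf 0x274503186)) (.node (.leaf 0x275043186) (.leaf 0x278543106))) (.node (.node (.leaf 0x374501286) (.leaf 0x375041286)) (.node (.leaf 0x378541206) (.leaf 0x472513086))))) (.node (.node (.node (.node (.leaf 0x473510286) (.leaf 0x478513206)) (.node (.leaf 0x572143086) (.leaf 0x573140286))) (.node (.node (.leaf 0x578143206) (.leaf 0x672543081)) (.node (.leaf 0x673540281) (.leaf 0x674503281)))) (.node (.node (.node (.leaf 0x675043281) (.leaf 0x712543086)) (.node (.leaf 0x713540286) (.leaf 0x718543206))) (.node (.node (.leaf 0x246503187) (.leaf 0x256043187)) (.node (.leaf 0x286543107) (.leaf 0x346501287)))))) (.node (.node (.node (.node (.node (.leaf 0x356041287) (.leaf 0x386541207)) (.node (.leaf 0x426513087) (.leaf 0x436510287))) (.node (.node (.leaf 0x486513207) (.leaf 0x526143087)) (.node (.leaf 0x536140287) (.leaf 0x586143207)))) (.node (.node (.node (.leaf 0x621543087) (.leaf 0x631540287)) (.node (.leaf 0x681543207)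 (.leaf 0x726543081))) (.node (.node (.leaf 0x736540281) (.leaf 0x746503281)) (.node (.leaf 0x756043281) (.leaf 0x870623514))))) (.node (.node (.node (.node (.leaf 0x806723514) (.leaf 0x76823514)) (.node (.leaf 0x870631524) (.leaf 0x806731524))) (.node (.node (.leaf 0x76831524) (.leaf 0x871263504)) (.node (.leaf 0x871360524) (.leaf 0x71863524)))) (.node (.node (.node (.leaf 0x816273504) (.leaf 0x816370524)) (.node (.leaf 0x16873524) (.leaf 0x176283504))) (.node (.node (.leaf 0x176380524) (.leaf 0x170683524)) (.node (.leaf 0x106783524) (.leaf 0x874523610))))))))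

def repsT7 : BT := (.node (.node (.node (.node (.node (.node (.node (.leaf 0x78523614) (.leaf 0x78531624)) (.node (.leaf 0x873560124) (.leaf 0x874563120))) (.node (.node (.leaf 0x78563124) (.leaf 0x18573624)) (.node (.leaf 0x172583604) (.leaf 0x173580624)))) (.node (.node (.node (.leaf 0x174583620) (.leaf 0x175083624)) (.node (.leaf 0x846523710) (.leaf 0x86523714))) (.node (.node (.leaf 0x86531724) (.leaf 0x81563724)) (.node (.leaf 0x836570124) (.leaf 0x846573120))))) (.node (.node (.node (.node (.leaf 0x86573124) (.leaf 0x126583704)) (.node (.leaf 0x136580724) (.leaf 0x146583720))) (.node (.node (.leaf 0x156083724) (.leaf 0x376520814)) (.node (.leaf 0x476523810) (.leaf 0x576023814)))) (.node (.node (.node (.leaf 0x670523814) (.leaf 0x706523814)) (.node (.leaf 0x276531804) (.leaf 0x576031824))) (.node (.node (.leaf 0x670531824) (.leaf 0x706531824)) (.node (.leaf 0x271563804) (.leaf 0x371560824)))))) (.node (.node (.node (.node (.node (.leaf 0x471563820) (.leaf 0x571063824)) (.node (.leaf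 0x701563824) (.leaf 0x216573804))) (.node (.node (.leaf 0x316570824) (.leaf 0x416573820)) (.node (.leaf 0x516073824) (.leaf 0x610573824)))) (.node (.node (.node (.leaf 0x376580124) (.leaf 0x476583120)) (.node (.leaf 0x576083124) (.leaf 0x670583124))) (.node (.node (.leaf 0x706583124) (.leaf 0x870263415)) (.node (.leaf 0x806273415) (.leaf 0x76283415))))) (.node (.node (.node (.node (.leaf 0x870361425) (.leaf 0x806371425)) (.node (.leaf 0x76381425) (.leaf 0x871623405))) (.node (.node (.leaf 0x871630425) (.leaf 0x71683425)) (.node (.leaf 0x816723405) (.leaf 0x816730425)))) (.node (.node (.node (.leaf 0x16783425) (.leaf 0x176823405)) (.node (.leaf 0x176830425) (.leaf 0x170863425))) (.node (.node (.leaf 0x106873425) (.leaf 0x875243610)) (.node (.leaf 0x78243615) (.leaf 0x78341625))))))) (.node (.node (.node (.node (.node (.node (.leaf 0x873640125) (.leaf 0x78643125)) (.node (.leaf 0x18743625) (.leaf 0x172843605))) (.node (.node (.leaf 0x173840625) (.leaf 0x174803625)) (.node (.leaf 0x175843620)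 (.leaf 0x856243710)))) (.node (.node (.node (.leaf 0x86243715) (.leaf 0x86341725)) (.node (.leaf 0x81643725) (.leaf 0x836740125))) (.node (.node (.leaf 0x86743125) (.leaf 0x126843705)) (.node (.leaf 0x136840725) (.leaf 0x146803725))))) (.node (.node (.node (.node (.leaf 0x156843720) (.leaf 0x376240815)) (.node (.leaf 0x476203815) (.leaf 0x576243810))) (.node (.node (.leaf 0x670243815) (.leaf 0x706243815)) (.node (.leaf 0x276341805) (.leaf 0x476301825)))) (.node (.node (.node (.leaf 0x670341825) (.leaf 0x706341825)) (.node (.leaf 0x271643805) (.leaf 0x371640825))) (.node (.node (.leaf 0x471603825) (.leaf 0x571643820)) (.node (.leaf 0x701643825) (.leaf 0x216743805)))))) (.node (.node (.node (.node (.node (.leaf 0x316740825) (.leaf 0x416703825)) (.node (.leaf 0x516743820) (.leaf 0x610743825))) (.node (.node (.leaf 0x376840125) (.leaf 0x476803125)) (.node (.leaf 0x576843120) (.leaf 0x670843125)))) (.node (.node (.node (.leaf 0x706843125) (.leaf 0x872563410)) (.node (.leaf 0x72583416) (.leaf 0x73581426)))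 (.node (.node (.leaf 0x874530126) (.leaf 0x74583126)) (.node (.leaf 0x75183426) (.leaf 0x178523406))))) (.node (.node (.node (.node (.leaf 0x178530426) (.leaf 0x178563420)) (.node (.leaf 0x108573426) (.leaf 0x872643510))) (.node (.node (.leaf 0x72843516) (.leaf 0x73841526)) (.node (.leaf 0x74813526) (.leaf 0x875340126)))) (.node (.node (.node (.leaf 0x75843126) (.leaf 0x178243506)) (.node (.leaf 0x178340526) (.leaf 0x178643520))) (.node (.node (.leaf 0x108743526) (.leaf 0x82543716)) (.node (.leaf 0x83541726) (.leaf 0x84513726))))))))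

def repsT8 : BT := (.node (.node (.node (.node (.node (.node (.node (.leaf 0x85143726) (.leaf 0x128543706)) (.node (.leaf 0x138540726) (.leaf 0x148503726))) (.node (.node (.leaf 0x158043726) (.leaf 0x372540816)) (.node (.leaf 0x472503816) (.leaf 0x572043816)))) (.node (.node (.node (.leaf 0x672543810) (.leaf 0x702543816)) (.node (.leaf 0x273541806) (.leaf 0x473501826))) (.node (.node (.leaf 0x573041826) (.leaf 0x703541826)) (.node (.leaf 0x274513806) (.leaf 0x374510826))))) (.node (.node (.node (.node (.leaf 0x574013826) (.leaf 0x674513820)) (.node (.leaf 0x704513826) (.leaf 0x275143806))) (.node (.node (.leaf 0x375140826) (.leaf 0x475103826)) (.node (.leaf 0x675143820) (.leaf 0x705143826)))) (.node (.node (.node (.leaf 0x378540126) (.leaf 0x478503126)) (.node (.leaf 0x578043126) (.leaf 0x678543120))) (.node (.node (.leaf 0x708543126) (.leaf 0x826573410)) (.node (.leaf 0x26583417) (.leaf 0x36581427)))))) (.node (.node (.node (.node (.node (.leaf 0x846530127) (.leaf 0x46583127)) (.node (.leaf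 0x56183427) (.leaf 0x186523407))) (.node (.node (.leaf 0x186530427) (.leaf 0x180563427)) (.node (.leaf 0x186573420) (.leaf 0x826743510)))) (.node (.node (.node (.leaf 0x26843517) (.leaf 0x36841527)) (.node (.leaf 0x46813527) (.leaf 0x856340127))) (.node (.node (.leaf 0x56843127) (.leaf 0x186243507)) (.node (.leaf 0x186340527) (.leaf 0x180643527))))) (.node (.node (.node (.node (.leaf 0x186743520) (.leaf 0x28543617)) (.node (.leaf 0x38541627) (.leaf 0x48513627))) (.node (.node (.leaf 0x58143627) (.leaf 0x182543607)) (.node (.leaf 0x183540627) (.leaf 0x184503627)))) (.node (.node (.node (.leaf 0x185043627) (.leaf 0x326540817)) (.node (.leaf 0x426503817) (.leaf 0x526043817))) (.node (.node (.leaf 0x620543817) (.leaf 0x726543810)) (.node (.leaf 0x236541807) (.leaf 0x436501827))))))) (.node (.node (.node (.node (.node (.node (.leaf 0x536041827) (.leaf 0x630541827)) (.node (.leaf 0x246513807) (.leaf 0x346510827))) (.node (.node (.leaf 0x546013827) (.leaf 0x640513827)) (.node (.leaf 0x746513820)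 (.leaf 0x256143807)))) (.node (.node (.node (.leaf 0x356140827) (.leaf 0x456103827)) (.node (.leaf 0x650143827) (.leaf 0x756143820))) (.node (.node (.leaf 0x386540127) (.leaf 0x486503127)) (.node (.leaf 0x586043127) (.leaf 0x680543127))))) (.node (.node (.node (.node (.leaf 0x786543120) (.leaf 0x270563418)) (.node (.leaf 0x206573418) (.leaf 0x276583410))) (.node (.node (.leaf 0x370561428) (.leaf 0x306571428)) (.node (.leaf 0x476530128) (.leaf 0x470563128)))) (.node (.node (.node (.leaf 0x406573128) (.leaf 0x576123408)) (.node (.leaf 0x576130428) (.leaf 0x570163428))) (.node (.node (.leaf 0x506173428) (.leaf 0x576183420)) (.node (.leaf 0x671523408) (.leaf 0x671530428)))))) (.node (.node (.node (.node (.node (.leaf 0x601573428) (.leaf 0x671583420)) (.node (.leaf 0x716523408) (.leaf 0x716530428))) (.node (.node (.leaf 0x710563428) (.leaf 0x716583420)) (.node (.leaf 0x270643518) (.leaf 0x206743518)))) (.node (.node (.node (.leaf 0x276843510) (.leaf 0x370641528)) (.node (.leaf 0x306741528) (.leaf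 0x476213508))) (.node (.node (.leaf 0x476310528) (.leaf 0x470613528)) (.node (.leaf 0x406713528) (.leaf 0x476813520))))) (.node (.node (.node (.node (.leaf 0x576340128) (.leaf 0x570643128)) (.node (.leaf 0x506743128) (.leaf 0x671243508))) (.node (.node (.leaf 0x671340528) (.leaf 0x601743528)) (.node (.leaf 0x671843520) (.leaf 0x716243508)))) (.node (.node (.node (.leaf 0x716340528) (.leaf 0x710643528)) (.node (.leaf 0x716843520) (.leaf 0x274503618))) (.node (.node (.leaf 0x275043618) (.leaf 0x278543610)) (.node (.leaf 0x374501628) (.leaf 0x375041628))))))))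

def repsT9 : BT := (.node (.node (.node (.node (.node (.node (.node (.leaf 0x472513608) (.leaf 0x473510628)) (.node (.leaf 0x475013628) (.leaf 0x478513620))) (.node (.node (.leaf 0x572143608) (.leaf 0x573140628)) (.node (.leaf 0x574103628) (.leaf 0x578143620)))) (.node (.node (.node (.leaf 0x673540128) (.leaf 0x674503128)) (.node (.leaf 0x675043128) (.leaf 0x712543608))) (.node (.node (.leaf 0x713540628) (.leaf 0x714503628)) (.node (.leaf 0x715043628) (.leaf 0x718543620))))) (.node (.node (.node (.node (.leaf 0x246503718) (.leaf 0x256043718)) (.node (.leaf 0x286543710) (.leaf 0x346501728))) (.node (.node (.leaf 0x356041728) (.leaf 0x426513708)) (.node (.leaf 0x436510728) (.leaf 0x456013728)))) (.node (.node (.node (.leaf 0x486513720) (.leaf 0x526143708)) (.node (.leaf 0x536140728) (.leaf 0x546103728))) (.node (.node (.leaf 0x586143720) (.leaf 0x621543708)) (.node (.leaf 0x631540728) (.leaf 0x641503728)))))) (.node (.node (.node (.node (.node (.leaf 0x651043728) (.leaf 0x681543720)) (.node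 (.leaf 0x736540128) (.leaf 0x746503128))) (.node (.node (.leaf 0x756043128) (.leaf 0x78526134)) (.node (.leaf 0x78536214) (.leaf 0x874561230)))) (.node (.node (.node (.leaf 0x78561234) (.leaf 0x172586034)) (.node (.leaf 0x173586204) (.leaf 0x174586230))) (.node (.node (.leaf 0x86527134) (.leaf 0x86537214)) (.node (.leaf 0x846571230) (.leaf 0x86571234))))) (.node (.node (.node (.node (.leaf 0x126587034) (.leaf 0x136587204)) (.node (.leaf 0x146587230) (.leaf 0x376528104))) (.node (.node (.leaf 0x576028134) (.leaf 0x670528134)) (.node (.leaf 0x706528134) (.leaf 0x276538014)))) (.node (.node (.node (.leaf 0x576038214) (.leaf 0x670538214)) (.node (.leaf 0x706538214) (.leaf 0x271568034))) (.node (.node (.leaf 0x371568204) (.leaf 0x471568230)) (.node (.leaf 0x216578034) (.leaf 0x316578204))))))) (.node (.node (.node (.node (.node (.node (.leaf 0x416578230) (.leaf 0x476581230)) (.node (.leaf 0x576081234) (.leaf 0x670581234))) (.node (.node (.leaf 0x706581234) (.leaf 0x78246135)) (.node (.leaf 0x78346215)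 (.leaf 0x78641235)))) (.node (.node (.node (.leaf 0x172846035) (.leaf 0x173846205)) (.node (.leaf 0x175846230) (.leaf 0x86247135))) (.node (.node (.leaf 0x86347215) (.leaf 0x86741235)) (.node (.leaf 0x126847035) (.leaf 0x136847205))))) (.node (.node (.node (.node (.leaf 0x156847230) (.leaf 0x376248105)) (.node (.leaf 0x476208135) (.leaf 0x670248135))) (.node (.node (.leaf 0x706248135) (.leaf 0x276348015)) (.node (.leaf 0x476308215) (.leaf 0x670348215)))) (.node (.node (.node (.leaf 0x706348215) (.leaf 0x271648035)) (.node (.leaf 0x371648205) (.leaf 0x571648230))) (.node (.node (.leaf 0x216748035) (.leaf 0x316748205)) (.node (.leaf 0x516748230) (.leaf 0x476801235)))))) (.node (.node (.node (.node (.node (.leaf 0x576841230) (.leaf 0x670841235)) (.node (.leaf 0x706841235) (.leaf 0x72584136))) (.node (.node (.leaf 0x73584216) (.leaf 0x74581236)) (.node (.leaf 0x178524036) (.leaf 0x178534206)))) (.node (.node (.node (.leaf 0x178564230) (.leaf 0x72845136)) (.node (.leaf 0x73845216) (.leaf 0x75841236)))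 (.node (.node (.leaf 0x178245036) (.leaf 0x178345206)) (.node (.leaf 0x178645230) (.leaf 0x372548106))))) (.node (.node (.node (.node (.leaf 0x472508136) (.leaf 0x572048136)) (.node (.leaf 0x702548136) (.leaf 0x273548016))) (.node (.node (.leaf 0x473508216) (.leaf 0x573048216)) (.node (.leaf 0x703548216) (.leaf 0x274518036)))) (.node (.node (.node (.leaf 0x374518206) (.leaf 0x674518230)) (.node (.leaf 0x275148036) (.leaf 0x375148206))) (.node (.node (.leaf 0x675148230) (.leaf 0x478501236)) (.node (.leaf 0x578041236) (.leaf 0x678541230))))))))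

def repsT10 : BT := (.node (.node (.node (.node (.node (.node (.node (.leaf 0x708541236) (.leaf 0x26584137)) (.node (.leaf 0x36584217) (.leaf 0x46581237))) (.node (.node (.leaf 0x186524037) (.leaf 0x186534207)) (.node (.leaf 0x186574230) (.leaf 0x26845137)))) (.node (.node (.node (.leaf 0x36845217) (.leaf 0x56841237)) (.node (.leaf 0x186245037) (.leaf 0x186345207))) (.node (.node (.leaf 0x186745230) (.leaf 0x326548107)) (.node (.leaf 0x426508137) (.leaf 0x526048137))))) (.node (.node (.node (.node (.leaf 0x620548137) (.leaf 0x236548017)) (.node (.leaf 0x436508217) (.leaf 0x536048217))) (.node (.node (.leaf 0x630548217) (.leaf 0x246518037)) (.node (.leaf 0x346518207) (.leaf 0x746518230)))) (.node (.node (.node (.leaf 0x256148037) (.leaf 0x356148207)) (.node (.leaf 0x756148230) (.leaf 0x486501237))) (.node (.node (.leaf 0x586041237) (.leaf 0x680541237)) (.node (.leaf 0x786541230) (.leaf 0x270564138)))))) (.node (.node (.node (.node (.node (.leaf 0x206574138) (.leaf 0x370564218)) (.node (.leaf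 0x306574218) (.leaf 0x470561238))) (.node (.node (.leaf 0x406571238) (.leaf 0x576124038)) (.node (.leaf 0x576134208) (.leaf 0x576184230)))) (.node (.node (.node (.leaf 0x671524038) (.leaf 0x671534208)) (.node (.leaf 0x671584230) (.leaf 0x716524038))) (.node (.node (.leaf 0x716534208) (.leaf 0x716584230)) (.node (.leaf 0x270645138) (.leaf 0x206745138))))) (.node (.node (.node (.node (.leaf 0x370645218) (.leaf 0x306745218)) (.node (.leaf 0x476215038) (.leaf 0x476315208))) (.node (.node (.leaf 0x476815230) (.leaf 0x570641238)) (.node (.leaf 0x506741238) (.leaf 0x671245038)))) (.node (.node (.node (.leaf 0x671345208) (.leaf 0x671845230)) (.node (.leaf 0x716245038) (.leaf 0x716345208))) (.node (.node (.leaf 0x716845230) (.leaf 0x274506138)) (.node (.leaf 0x275046138) (.leaf 0x374506218))))))) (.node (.node (.node (.node (.node (.node (.leaf 0x375046218) (.leaf 0x472516038)) (.node (.leaf 0x473516208) (.leaf 0x478516230))) (.node (.node (.leaf 0x572146038) (.leaf 0x573146208)) (.node (.leaf 0x578146230)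 (.leaf 0x674501238)))) (.node (.node (.node (.leaf 0x675041238) (.leaf 0x712546038)) (.node (.leaf 0x713546208) (.leaf 0x718546230))) (.node (.node (.leaf 0x246507138) (.leaf 0x256047138)) (.node (.leaf 0x346507218) (.leaf 0x356047218))))) (.node (.node (.node (.node (.leaf 0x426517038) (.leaf 0x436517208)) (.node (.leaf 0x486517230) (.leaf 0x526147038))) (.node (.node (.leaf 0x536147208) (.leaf 0x586147230)) (.node (.leaf 0x621547038) (.leaf 0x631547208)))) (.node (.node (.node (.leaf 0x681547230) (.leaf 0x746501238)) (.node (.leaf 0x756041238) (.leaf 0x76123548))) (.node (.node (.leaf 0x170523846) (.leaf 0x106523847)) (.node (.leaf 0x76138542) (.leaf 0x176035842)))))) (.node (.node (.node (.node (.node (.leaf 0x172563840) (.leaf 0x173560842)) (.node (.leaf 0x174563802) (.leaf 0x126573840))) (.node (.node (.leaf 0x136570842) (.leaf 0x146573802)) (.node (.leaf 0x276183540) (.leaf 0x376180542)))) (.node (.node (.node (.leaf 0x670183542) (.leaf 0x706183542)) (.node (.leaf 0x271583640) (.leaf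 0x371580642))) (.node (.node (.leaf 0x471583602) (.leaf 0x571083642)) (.node (.leaf 0x701583642) (.leaf 0x216583740))))) (.node (.node (.node (.node (.leaf 0x316580742) (.leaf 0x416583702)) (.node (.leaf 0x516083742) (.leaf 0x610583742))) (.node (.node (.leaf 0x76125843) (.leaf 0x176028543)) (.node (.leaf 0x76135248) (.leaf 0x170538246)))) (.node (.node (.node (.leaf 0x106538247) (.leaf 0x172568043)) (.node (.leaf 0x173568240) (.leaf 0x174568203))) (.node (.node (.leaf 0x126578043) (.leaf 0x136578240)) (.node (.leaf 0x146578203) (.leaf 0x276185043))))))))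

def repsT11 : BT := (.node (.node (.node (.node (.node (.node (.node (.leaf 0x376185240) (.leaf 0x670185243)) (.node (.leaf 0x706185243) (.leaf 0x271586043))) (.node (.node (.leaf 0x371586240) (.leaf 0x471586203)) (.node (.leaf 0x571086243) (.leaf 0x701586243)))) (.node (.node (.node (.leaf 0x216587043) (.leaf 0x316587240)) (.node (.leaf 0x416587203) (.leaf 0x516087243))) (.node (.node (.leaf 0x610587243) (.leaf 0x71523864)) (.node (.leaf 0x16523874) (.leaf 0x176023584))))) (.node (.node (.node (.node (.leaf 0x71538264) (.leaf 0x16538274)) (.node (.leaf 0x176035284) (.leaf 0x172563084))) (.node (.node (.leaf 0x173560284) (.leaf 0x174563280)) (.node (.leaf 0x126573084) (.leaf 0x136570284)))) (.node (.node (.node (.leaf 0x146573280) (.leaf 0x276183054)) (.node (.leaf 0x376180254) (.leaf 0x670183254))) (.node (.node (.leaf 0x706183254) (.leaf 0x271583064)) (.node (.leaf 0x371580264) (.leaf 0x471583260)))))) (.node (.node (.node (.node (.node (.leaf 0x571083264) (.leaf 0x701583264)) (.node (.leaf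 0x216583074) (.leaf 0x316580274))) (.node (.node (.leaf 0x416583270) (.leaf 0x516083274)) (.node (.leaf 0x610583274) (.leaf 0x78263145)))) (.node (.node (.node (.leaf 0x78361245) (.leaf 0x172863045)) (.node (.leaf 0x173860245) (.leaf 0x86273145))) (.node (.node (.leaf 0x86371245) (.leaf 0x126873045)) (.node (.leaf 0x136870245) (.leaf 0x276083145))))) (.node (.node (.node (.node (.leaf 0x376280145) (.leaf 0x476283105)) (.node (.leaf 0x576283140) (.leaf 0x276381045))) (.node (.node (.leaf 0x376081245) (.leaf 0x476381205)) (.node (.leaf 0x576381240) (.leaf 0x271683045)))) (.node (.node (.node (.leaf 0x371680245) (.leaf 0x471683205)) (.node (.leaf 0x571683240) (.leaf 0x671083245))) (.node (.node (.leaf 0x701683245) (.leaf 0x216783045)) (.node (.leaf 0x316780245) (.leaf 0x416783205))))))) (.node (.node (.node (.node (.node (.node (.leaf 0x516783240) (.leaf 0x610783245)) (.node (.leaf 0x716083245) (.leaf 0x72513846))) (.node (.node (.leaf 0x74523816) (.leaf 0x75123846)) (.node (.leaf 0x178023546)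 (.leaf 0x108523746)))) (.node (.node (.node (.leaf 0x73518246) (.leaf 0x74538216)) (.node (.leaf 0x75138246) (.leaf 0x178035246))) (.node (.node (.leaf 0x108537246) (.leaf 0x72563148)) (.node (.leaf 0x73561248) (.leaf 0x74563218))))) (.node (.node (.node (.node (.leaf 0x82573146) (.leaf 0x83571246)) (.node (.leaf 0x128573046) (.leaf 0x138570246))) (.node (.node (.leaf 0x270583146) (.leaf 0x372580146)) (.node (.leaf 0x472583106) (.leaf 0x572083146)))) (.node (.node (.node (.leaf 0x672583140) (.leaf 0x702583146)) (.node (.leaf 0x273581046) (.leaf 0x370581246))) (.node (.node (.leaf 0x473581206) (.leaf 0x573081246)) (.node (.leaf 0x673581240) (.leaf 0x703581246)))))) (.node (.node (.node (.node (.node (.leaf 0x274583016) (.leaf 0x374580216)) (.node (.leaf 0x470583216) (.leaf 0x574083216))) (.node (.node (.leaf 0x674583210) (.leaf 0x704583216)) (.node (.leaf 0x275183046) (.leaf 0x375180246)))) (.node (.node (.node (.leaf 0x475183206) (.leaf 0x570183246)) (.node (.leaf 0x675183240) (.leaf 0x705183246)))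 (.node (.node (.leaf 0x278513046) (.leaf 0x378510246)) (.node (.leaf 0x578013246) (.leaf 0x678513240))))) (.node (.node (.node (.node (.leaf 0x708513246) (.leaf 0x26513847)) (.node (.leaf 0x46523817) (.leaf 0x56123847))) (.node (.node (.leaf 0x186023547) (.leaf 0x180523647)) (.node (.leaf 0x36518247) (.leaf 0x46538217)))) (.node (.node (.node (.leaf 0x56138247) (.leaf 0x186035247)) (.node (.leaf 0x180536247) (.leaf 0x28563147))) (.node (.node (.leaf 0x38561247) (.leaf 0x182563047)) (.node (.leaf 0x183560247) (.leaf 0x26573148))))))))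

def repsT12 : BT := (.node (.node (.node (.node (.node (.node (.node (.leaf 0x36571248) (.leaf 0x46573218)) (.node (.leaf 0x206583147) (.leaf 0x326580147))) (.node (.node (.leaf 0x426583107) (.leaf 0x526083147)) (.node (.leaf 0x620583147) (.leaf 0x726583140)))) (.node (.node (.node (.leaf 0x236581047) (.leaf 0x306581247)) (.node (.leaf 0x436581207) (.leaf 0x536081247))) (.node (.node (.leaf 0x630581247) (.leaf 0x736581240)) (.node (.leaf 0x246583017) (.leaf 0x346580217))))) (.node (.node (.node (.node (.leaf 0x406583217) (.leaf 0x546083217)) (.node (.leaf 0x640583217) (.leaf 0x746583210))) (.node (.node (.leaf 0x256183047) (.leaf 0x356180247)) (.node (.leaf 0x456183207) (.leaf 0x506183247)))) (.node (.node (.node (.leaf 0x650183247) (.leaf 0x756183240)) (.node (.leaf 0x286513047) (.leaf 0x386510247))) (.node (.node (.leaf 0x586013247) (.leaf 0x680513247)) (.node (.leaf 0x786513240) (.leaf 0x276013548)))))) (.node (.node (.node (.node (.node (.leaf 0x270513648) (.leaf 0x206513748)) (.node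 (.leaf 0x376021548) (.leaf 0x370521648))) (.node (.node (.leaf 0x306521748) (.leaf 0x470523618)) (.node (.leaf 0x406523718) (.leaf 0x570123648)))) (.node (.node (.node (.leaf 0x506123748) (.leaf 0x671023548)) (.node (.leaf 0x601523748) (.leaf 0x716023548))) (.node (.node (.leaf 0x710523648) (.leaf 0x276035148)) (.node (.leaf 0x270536148) (.leaf 0x206537148))))) (.node (.node (.node (.node (.leaf 0x376015248) (.leaf 0x370516248)) (.node (.leaf 0x306517248) (.leaf 0x470536218))) (.node (.node (.leaf 0x406537218) (.leaf 0x570136248)) (.node (.leaf 0x506137248) (.leaf 0x671035248)))) (.node (.node (.node (.leaf 0x601537248) (.leaf 0x716035248)) (.node (.leaf 0x710536248) (.leaf 0x273560148))) (.node (.node (.leaf 0x274563108) (.leaf 0x278563140)) (.node (.leaf 0x372561048) (.leaf 0x374561208))))))) (.node (.node (.node (.node (.node (.node (.leaf 0x378561240) (.leaf 0x472563018)) (.node (.leaf 0x473560218) (.leaf 0x478563210))) (.node (.node (.leaf 0x572163048) (.leaf 0x573160248)) (.node (.leaf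 0x672513048) (.leaf 0x673510248)))) (.node (.node (.node (.leaf 0x712563048) (.leaf 0x713560248)) (.node (.leaf 0x236570148) (.leaf 0x246573108))) (.node (.node (.leaf 0x286573140) (.leaf 0x326571048)) (.node (.leaf 0x346571208) (.leaf 0x386571240))))) (.node (.node (.node (.node (.leaf 0x426573018) (.leaf 0x436570218)) (.node (.leaf 0x486573210) (.leaf 0x526173048))) (.node (.node (.leaf 0x536170248) (.leaf 0x621573048)) (.node (.leaf 0x631570248) (.leaf 0x726513048)))) (.node (.node (.node (.leaf 0x736510248) (.leaf 0x170243856)) (.node (.leaf 0x106243857) (.leaf 0x172643850))) (.node (.node (.leaf 0x126743850) (.leaf 0x271843650)) (.node (.leaf 0x471803652) (.leaf 0x571843602)))))) (.node (.node (.node (.node (.node (.leaf 0x701843652) (.leaf 0x216843750)) (.node (.leaf 0x416803752) (.leaf 0x516843702))) (.node (.node (.leaf 0x610843752) (.leaf 0x170348256)) (.node (.leaf 0x106348257) (.leaf 0x173648250)))) (.node (.node (.node (.leaf 0x136748250) (.leaf 0x371846250)) (.node (.leaf 0x471806253)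 (.leaf 0x571846203))) (.node (.node (.leaf 0x701846253) (.leaf 0x316847250)) (.node (.leaf 0x416807253) (.leaf 0x516847203))))) (.node (.node (.node (.node (.leaf 0x610847253) (.leaf 0x71243865)) (.node (.leaf 0x16243875) (.leaf 0x71348265))) (.node (.node (.leaf 0x16348275) (.leaf 0x172643085)) (.node (.leaf 0x173640285) (.leaf 0x126743085)))) (.node (.node (.node (.leaf 0x136740285) (.leaf 0x271843065)) (.node (.leaf 0x371840265) (.leaf 0x471803265))) (.node (.node (.leaf 0x571843260) (.leaf 0x701843265)) (.node (.leaf 0x216843075) (.leaf 0x316840275))))))))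

def repsT13 : BT := (.node (.node (.node (.node (.node (.node (.node (.leaf 0x416803275) (.leaf 0x516843270)) (.node (.leaf 0x610843275) (.leaf 0x72143856))) (.node (.node (.leaf 0x75243816) (.leaf 0x178203456)) (.node (.leaf 0x73148256) (.leaf 0x75348216)))) (.node (.node (.node (.leaf 0x178304256) (.leaf 0x72643158)) (.node (.leaf 0x73641258) (.leaf 0x128743056))) (.node (.node (.leaf 0x138740256) (.leaf 0x270843156)) (.node (.leaf 0x372840156) (.leaf 0x472803156))))) (.node (.node (.node (.node (.leaf 0x672843150) (.leaf 0x273841056)) (.node (.leaf 0x370841256) (.leaf 0x473801256))) (.node (.node (.leaf 0x673841250) (.leaf 0x274813056)) (.node (.leaf 0x374810256) (.leaf 0x470813256)))) (.node (.node (.node (.leaf 0x574813206) (.leaf 0x674813250)) (.node (.leaf 0x704813256) (.leaf 0x275843016))) (.node (.node (.leaf 0x375840216) (.leaf 0x475803216)) (.node (.leaf 0x570843216) (.leaf 0x675843210)))))) (.node (.node (.node (.node (.node (.leaf 0x705843216) (.leaf 0x278143056)) (.node (.leaf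 0x378140256) (.leaf 0x478103256))) (.node (.node (.leaf 0x678143250) (.leaf 0x708143256)) (.node (.leaf 0x26143857) (.leaf 0x56243817)))) (.node (.node (.node (.leaf 0x186203457) (.leaf 0x36148257)) (.node (.leaf 0x56348217) (.leaf 0x186304257))) (.node (.node (.leaf 0x182643057) (.leaf 0x183640257)) (.node (.leaf 0x26743158) (.leaf 0x36741258))))) (.node (.node (.node (.node (.leaf 0x206843157) (.leaf 0x326840157)) (.node (.leaf 0x426803157) (.leaf 0x726843150))) (.node (.node (.leaf 0x236841057) (.leaf 0x306841257)) (.node (.leaf 0x436801257) (.leaf 0x736841250)))) (.node (.node (.node (.leaf 0x246813057) (.leaf 0x346810257)) (.node (.leaf 0x406813257) (.leaf 0x546813207))) (.node (.node (.leaf 0x640813257) (.leaf 0x746813250)) (.node (.leaf 0x256843017) (.leaf 0x356840217))))))) (.node (.node (.node (.node (.node (.node (.leaf 0x456803217) (.leaf 0x506843217)) (.node (.leaf 0x650843217) (.leaf 0x756843210))) (.node (.node (.leaf 0x286143057) (.leaf 0x386140257)) (.node (.leaf 0x486103257)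 (.leaf 0x680143257)))) (.node (.node (.node (.leaf 0x786143250) (.leaf 0x276103458)) (.node (.leaf 0x270143658) (.leaf 0x206143758))) (.node (.node (.leaf 0x376201458) (.leaf 0x570243618)) (.node (.leaf 0x506243718) (.leaf 0x671203458))))) (.node (.node (.node (.node (.leaf 0x601243758) (.leaf 0x716203458)) (.node (.leaf 0x710243658) (.leaf 0x276304158))) (.node (.node (.leaf 0x376104258) (.leaf 0x370146258)) (.node (.leaf 0x306147258) (.leaf 0x570346218)))) (.node (.node (.node (.leaf 0x506347218) (.leaf 0x671304258)) (.node (.leaf 0x601347258) (.leaf 0x716304258))) (.node (.node (.leaf 0x710346258) (.leaf 0x273640158)) (.node (.leaf 0x278643150) (.leaf 0x372641058)))))) (.node (.node (.node (.node (.node (.leaf 0x378641250) (.leaf 0x472613058)) (.node (.leaf 0x473610258) (.leaf 0x572643018))) (.node (.node (.leaf 0x573640218) (.leaf 0x578643210)) (.node (.leaf 0x672143058) (.leaf 0x673140258)))) (.node (.node (.node (.leaf 0x236740158) (.leaf 0x286743150)) (.node (.leaf 0x326741058) (.leaf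 0x386741250))) (.node (.node (.leaf 0x426713058) (.leaf 0x436710258)) (.node (.leaf 0x526743018) (.leaf 0x536740218))))) (.node (.node (.node (.node (.leaf 0x586743210) (.leaf 0x726143058)) (.node (.leaf 0x736140258) (.leaf 0x172503864))) (.node (.node (.leaf 0x172043865) (.leaf 0x174523860)) (.node (.leaf 0x174530862) (.leaf 0x175243860)))) (.node (.node (.node (.leaf 0x175340862) (.leaf 0x278513460)) (.node (.leaf 0x378510462) (.leaf 0x578013462))) (.node (.node (.leaf 0x678513402) (.leaf 0x708513462)) (.node (.leaf 0x278143560) (.leaf 0x378140562))))))))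

def repsT14 : BT := (.node (.node (.node (.node (.node (.node (.node (.leaf 0x478103562) (.leaf 0x678143502)) (.node (.leaf 0x708143562) (.leaf 0x218543760))) (.node (.node (.leaf 0x318540762) (.leaf 0x418503762)) (.node (.leaf 0x518043762) (.leaf 0x173508264)))) (.node (.node (.node (.leaf 0x173048265) (.leaf 0x174528063)) (.node (.leaf 0x174538260) (.leaf 0x175248063))) (.node (.node (.leaf 0x175348260) (.leaf 0x278514063)) (.node (.leaf 0x378514260) (.leaf 0x578014263))))) (.node (.node (.node (.node (.leaf 0x678514203) (.leaf 0x708514263)) (.node (.leaf 0x278145063) (.leaf 0x378145260))) (.node (.node (.leaf 0x478105263) (.leaf 0x678145203)) (.node (.leaf 0x708145263) (.leaf 0x218547063)))) (.node (.node (.node (.leaf 0x318547260) (.leaf 0x418507263)) (.node (.leaf 0x518047263) (.leaf 0x72563814))) (.node (.node (.leaf 0x172083564) (.leaf 0x73568214)) (.node (.leaf 0x173085264) (.leaf 0x74523168)))))) (.node (.node (.node (.node (.node (.leaf 0x74531268) (.leaf 0x278503164)) (.node (.leaf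 0x378520164) (.leaf 0x478523160))) (.node (.node (.leaf 0x578023164) (.leaf 0x678523104)) (.node (.leaf 0x708523164) (.leaf 0x278531064)))) (.node (.node (.node (.leaf 0x378501264) (.leaf 0x478531260)) (.node (.leaf 0x578031264) (.leaf 0x678531204))) (.node (.node (.leaf 0x708531264) (.leaf 0x278563014)) (.node (.leaf 0x378560214) (.leaf 0x578063214))))) (.node (.node (.node (.node (.leaf 0x678503214) (.leaf 0x708563214)) (.node (.leaf 0x72643815) (.leaf 0x172803465))) (.node (.node (.leaf 0x73648215) (.leaf 0x173804265)) (.node (.leaf 0x75243168) (.leaf 0x75341268)))) (.node (.node (.node (.leaf 0x278043165) (.leaf 0x378240165)) (.node (.leaf 0x478203165) (.leaf 0x578243160))) (.node (.node (.leaf 0x678243105) (.leaf 0x708243165)) (.node (.leaf 0x278341065) (.leaf 0x378041265))))))) (.node (.node (.node (.node (.node (.node (.leaf 0x478301265) (.leaf 0x578341260)) (.node (.leaf 0x678341205) (.leaf 0x708341265))) (.node (.node (.leaf 0x278643015) (.leaf 0x378640215)) (.node (.leaf 0x478603215)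 (.leaf 0x678043215)))) (.node (.node (.node (.leaf 0x708643215) (.leaf 0x218543076)) (.node (.leaf 0x318540276) (.leaf 0x418503276))) (.node (.node (.leaf 0x518043276) (.leaf 0x208543167)) (.node (.leaf 0x328540167) (.leaf 0x628543107))))) (.node (.node (.node (.node (.leaf 0x728543160) (.leaf 0x238541067)) (.node (.leaf 0x308541267) (.leaf 0x638541207))) (.node (.node (.leaf 0x738541260) (.leaf 0x408513267)) (.node (.leaf 0x548013267) (.leaf 0x648513207)))) (.node (.node (.node (.leaf 0x748513260) (.leaf 0x458103267)) (.node (.leaf 0x508143267) (.leaf 0x658143207))) (.node (.node (.leaf 0x758143260) (.leaf 0x271503468)) (.node (.leaf 0x271043568) (.leaf 0x201543768)))))) (.node (.node (.node (.node (.node (.leaf 0x372501468) (.leaf 0x372041568)) (.node (.leaf 0x472013568) (.leaf 0x402513768))) (.node (.node (.leaf 0x572103468) (.leaf 0x502143768)) (.node (.leaf 0x672503418) (.leaf 0x672043518)))) (.node (.node (.node (.leaf 0x712503468) (.leaf 0x712043568)) (.node (.leaf 0x273504168) (.leaf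 0x273045168))) (.node (.node (.leaf 0x371504268) (.leaf 0x371045268)) (.node (.leaf 0x301547268) (.leaf 0x473015268))))) (.node (.node (.node (.node (.leaf 0x403517268) (.leaf 0x573104268)) (.node (.leaf 0x503147268) (.leaf 0x673504218))) (.node (.node (.leaf 0x673045218) (.leaf 0x713504268)) (.node (.leaf 0x713045268) (.leaf 0x274530168)))) (.node (.node (.node (.leaf 0x274583160) (.leaf 0x374521068)) (.node (.leaf 0x374581260) (.leaf 0x471523068))) (.node (.node (.leaf 0x471530268) (.leaf 0x574123068)) (.node (.leaf 0x574130268) (.leaf 0x674523018))))))))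

def repsT15 : BT := (.node (.node (.node (.node (.node (.node (.node (.leaf 0x674530218) (.leaf 0x714523068)) (.node (.leaf 0x714530268) (.leaf 0x275340168))) (.node (.node (.leaf 0x275843160) (.leaf 0x375241068)) (.node (.leaf 0x375841260) (.leaf 0x475213068)))) (.node (.node (.node (.leaf 0x475310268) (.leaf 0x571243068)) (.node (.leaf 0x571340268) (.leaf 0x675243018))) (.node (.node (.leaf 0x675340218) (.leaf 0x715243068)) (.node (.leaf 0x715340268) (.leaf 0x126503874))))) (.node (.node (.node (.node (.leaf 0x126043875) (.leaf 0x146523870)) (.node (.leaf 0x156243870) (.leaf 0x286513470))) (.node (.node (.leaf 0x586013472) (.leaf 0x680513472)) (.node (.leaf 0x786513402) (.leaf 0x286143570)))) (.node (.node (.node (.leaf 0x486103572) (.leaf 0x680143572)) (.node (.leaf 0x786143502) (.leaf 0x136508274))) (.node (.node (.leaf 0x136048275) (.leaf 0x146538270)) (.node (.leaf 0x156348270) (.leaf 0x386514270)))))) (.node (.node (.node (.node (.node (.leaf 0x586014273) (.leaf 0x680514273)) (.node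 (.leaf 0x786514203) (.leaf 0x386145270))) (.node (.node (.leaf 0x486105273) (.leaf 0x680145273)) (.node (.leaf 0x786145203) (.leaf 0x26573814)))) (.node (.node (.node (.leaf 0x36578214) (.leaf 0x46523178)) (.node (.leaf 0x46531278) (.leaf 0x286503174))) (.node (.node (.leaf 0x386520174) (.leaf 0x486523170)) (.node (.leaf 0x680523174) (.leaf 0x286531074))))) (.node (.node (.node (.node (.leaf 0x386501274) (.leaf 0x486531270)) (.node (.leaf 0x680531274) (.leaf 0x286573014))) (.node (.node (.leaf 0x386570214) (.leaf 0x586073214)) (.node (.leaf 0x680573214) (.leaf 0x786503214)))) (.node (.node (.node (.leaf 0x26743815) (.leaf 0x36748215)) (.node (.leaf 0x56243178) (.leaf 0x56341278))) (.node (.node (.leaf 0x286043175) (.leaf 0x386240175)) (.node (.leaf 0x586243170) (.leaf 0x680243175))))))) (.node (.node (.node (.node (.node (.node (.leaf 0x286341075) (.leaf 0x386041275)) (.node (.leaf 0x586341270) (.leaf 0x680341275))) (.node (.node (.leaf 0x286743015) (.leaf 0x386740215)) (.node (.leaf 0x486703215)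 (.leaf 0x680743215)))) (.node (.node (.node (.leaf 0x786043215) (.leaf 0x216503478)) (.node (.leaf 0x216043578) (.leaf 0x210543678))) (.node (.node (.leaf 0x426013578) (.leaf 0x420513678)) (.node (.leaf 0x526103478) (.leaf 0x520143678))))) (.node (.node (.node (.node (.leaf 0x726503418) (.leaf 0x726043518)) (.node (.leaf 0x316504278) (.leaf 0x316045278))) (.node (.node (.leaf 0x310546278) (.leaf 0x436015278)) (.node (.leaf 0x430516278) (.leaf 0x536104278)))) (.node (.node (.node (.leaf 0x530146278) (.leaf 0x736504218)) (.node (.leaf 0x736045218) (.leaf 0x246530178))) (.node (.node (.leaf 0x246583170) (.leaf 0x346521078)) (.node (.leaf 0x346581270) (.leaf 0x416523078)))))) (.node (.node (.node (.node (.node (.leaf 0x416530278) (.leaf 0x641523078)) (.node (.leaf 0x641530278) (.leaf 0x746523018))) (.node (.node (.leaf 0x746530218) (.leaf 0x256340178)) (.node (.leaf 0x256843170) (.leaf 0x356241078)))) (.node (.node (.node (.leaf 0x356841270) (.leaf 0x516243078)) (.node (.leaf 0x516340278) (.leaf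 0x651243078))) (.node (.node (.leaf 0x651340278) (.leaf 0x756243018)) (.node (.leaf 0x756340218) (.leaf 0x270513486))))) (.node (.node (.node (.node (.leaf 0x206513487) (.leaf 0x270143586)) (.node (.leaf 0x206143587) (.leaf 0x271503684))) (.node (.node (.leaf 0x271043685) (.leaf 0x216503784)) (.node (.leaf 0x216043785) (.leaf 0x370516482)))) (.node (.node (.node (.leaf 0x306517482) (.leaf 0x370146582)) (.node (.leaf 0x306147582) (.leaf 0x371504682))) (.node (.node (.leaf 0x371045682) (.leaf 0x316504782)) (.node (.leaf 0x316045782) (.leaf 0x471523680))))))))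

def repsT16 : BT := (.node (.node (.node (.node (.node (.node (.node (.leaf 0x471530682) (.leaf 0x416523780)) (.node (.leaf 0x416530782) (.leaf 0x571243680))) (.node (.node (.leaf 0x571340682) (.leaf 0x516243780)) (.node (.leaf 0x516340782) (.leaf 0x672513480)))) (.node (.node (.node (.leaf 0x673510482) (.leaf 0x672143580)) (.node (.leaf 0x673140582) (.leaf 0x726513480))) (.node (.node (.leaf 0x736510482) (.leaf 0x726143580)) (.node (.leaf 0x736140582) (.leaf 0x270514683))))) (.node (.node (.node (.node (.leaf 0x206514783) (.leaf 0x270145683)) (.node (.leaf 0x206145783) (.leaf 0x271506483))) (.node (.node (.leaf 0x271046583) (.leaf 0x216507483)) (.node (.leaf 0x216047583) (.leaf 0x370514286)))) (.node (.node (.node (.leaf 0x306514287) (.leaf 0x370145286)) (.node (.leaf 0x306145287) (.leaf 0x371506284))) (.node (.node (.leaf 0x371046285) (.leaf 0x316507284)) (.node (.leaf 0x316047285) (.leaf 0x471526083)))))) (.node (.node (.node (.node (.node (.leaf 0x471536280) (.leaf 0x416527083)) (.node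 (.leaf 0x416537280) (.leaf 0x571246083))) (.node (.node (.leaf 0x571346280) (.leaf 0x516247083)) (.node (.leaf 0x516347280) (.leaf 0x672514083)))) (.node (.node (.node (.leaf 0x673514280) (.leaf 0x672145083)) (.node (.leaf 0x673145280) (.leaf 0x726514083))) (.node (.node (.leaf 0x736514280) (.leaf 0x726145083)) (.node (.leaf 0x736145280) (.leaf 0x271063584))))) (.node (.node (.node (.node (.leaf 0x216073584) (.leaf 0x276083514)) (.node (.leaf 0x270583614) (.leaf 0x206583714))) (.node (.node (.leaf 0x371065284) (.leaf 0x316075284)) (.node (.leaf 0x376085214) (.leaf 0x370586214)))) (.node (.node (.node (.leaf 0x306587214) (.leaf 0x470523186)) (.node (.leaf 0x406523187) (.leaf 0x470531286))) (.node (.node (.leaf 0x406531287) (.leaf 0x570623184)) (.node (.leaf 0x506723184) (.leaf 0x570631284))))))) (.node (.node (.node (.node (.node (.node (.leaf 0x506731284) (.leaf 0x576283014)) (.node (.leaf 0x576380214) (.leaf 0x672503184))) (.node (.node (.leaf 0x674523180) (.leaf 0x675023184)) (.node (.leaf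 0x673501284) (.leaf 0x674531280)))) (.node (.node (.node (.leaf 0x675031284) (.leaf 0x672583014)) (.node (.leaf 0x673580214) (.leaf 0x726503184))) (.node (.node (.leaf 0x746523180) (.leaf 0x756023184)) (.node (.leaf 0x736501284) (.leaf 0x746531280))))) (.node (.node (.node (.node (.leaf 0x756031284) (.leaf 0x726583014)) (.node (.leaf 0x736580214) (.leaf 0x271603485))) (.node (.node (.leaf 0x216703485) (.leaf 0x276803415)) (.node (.leaf 0x270843615) (.leaf 0x206843715)))) (.node (.node (.node (.leaf 0x371604285) (.leaf 0x316704285)) (.node (.leaf 0x376804215) (.leaf 0x370846215))) (.node (.node (.leaf 0x306847215) (.leaf 0x470263185)) (.node (.leaf 0x406273185) (.leaf 0x470361285)))))) (.node (.node (.node (.node (.node (.leaf 0x406371285) (.leaf 0x476823015)) (.node (.leaf 0x476830215) (.leaf 0x570243186))) (.node (.node (.leaf 0x506243187) (.leaf 0x570341286)) (.node (.leaf 0x506341287) (.leaf 0x672043185)))) (.node (.node (.node (.leaf 0x674203185) (.leaf 0x675243180)) (.node (.leaf 0x673041285)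 (.leaf 0x674301285))) (.node (.node (.leaf 0x675341280) (.leaf 0x672843015)) (.node (.leaf 0x673840215) (.leaf 0x726043185))))) (.node (.node (.node (.node (.leaf 0x746203185) (.leaf 0x756243180)) (.node (.leaf 0x736041285) (.leaf 0x746301285))) (.node (.node (.leaf 0x756341280) (.leaf 0x726843015)) (.node (.leaf 0x736840215) (.leaf 0x204513786)))) (.node (.node (.node (.leaf 0x205143786) (.leaf 0x278503416)) (.node (.leaf 0x278043516) (.leaf 0x208543716))) (.node (.node (.leaf 0x304517286) (.leaf 0x305147286)) (.node (.leaf 0x378504216) (.leaf 0x378045216))))))))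

def repsT17 : BT := (.node (.node (.node (.node (.node (.node (.node (.leaf 0x308547216) (.leaf 0x472563180)) (.node (.leaf 0x402573186) (.leaf 0x473561280))) (.node (.node (.leaf 0x403571286) (.leaf 0x478523016)) (.node (.leaf 0x478530216) (.leaf 0x572643180)))) (.node (.node (.node (.leaf 0x502743186) (.leaf 0x573641280)) (.node (.leaf 0x503741286) (.leaf 0x578243016))) (.node (.node (.leaf 0x578340216) (.leaf 0x742503186)) (.node (.leaf 0x752043186) (.leaf 0x743501286))))) (.node (.node (.node (.node (.leaf 0x753041286) (.leaf 0x728543016)) (.node (.leaf 0x738540216) (.leaf 0x240513687))) (.node (.node (.leaf 0x250143687) (.leaf 0x286503417)) (.node (.leaf 0x286043517) (.leaf 0x280543617)))) (.node (.node (.node (.leaf 0x340516287) (.leaf 0x350146287)) (.node (.leaf 0x386504217) (.leaf 0x386045217))) (.node (.node (.leaf 0x380546217) (.leaf 0x420563187)) (.node (.leaf 0x426573180) (.leaf 0x430561287)))))) (.node (.node (.node (.node (.node (.leaf 0x436571280) (.leaf 0x486523017)) (.node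 (.leaf 0x486530217) (.leaf 0x520643187))) (.node (.node (.leaf 0x526743180) (.leaf 0x530641287)) (.node (.leaf 0x536741280) (.leaf 0x586243017)))) (.node (.node (.node (.leaf 0x586340217) (.leaf 0x624503187)) (.node (.leaf 0x625043187) (.leaf 0x634501287))) (.node (.node (.leaf 0x635041287) (.leaf 0x682543017)) (.node (.leaf 0x683540217) (.leaf 0x71623584))))) (.node (.node (.node (.node (.leaf 0x16723584) (.leaf 0x71638524)) (.node (.leaf 0x16738524) (.leaf 0x78263514))) (.node (.node (.leaf 0x78361524) (.leaf 0x172863504)) (.node (.leaf 0x173860524) (.leaf 0x86273514)))) (.node (.node (.node (.leaf 0x86371524) (.leaf 0x126873504)) (.node (.leaf 0x136870524) (.leaf 0x376280514))) (.node (.node (.leaf 0x476283510) (.leaf 0x670283514)) (.node (.leaf 0x706283514) (.leaf 0x276381504))))))) (.node (.node (.node (.node (.node (.node (.leaf 0x576381024) (.leaf 0x670381524)) (.node (.leaf 0x706381524) (.leaf 0x271683504))) (.node (.node (.leaf 0x371680524) (.leaf 0x471683520)) (.node (.leaf 0x571683024)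 (.leaf 0x671083524)))) (.node (.node (.node (.leaf 0x701683524) (.leaf 0x216783504)) (.node (.leaf 0x316780524) (.leaf 0x416783520))) (.node (.node (.leaf 0x516783024) (.leaf 0x610783524)) (.node (.leaf 0x716083524) (.leaf 0x74523681))))) (.node (.node (.node (.node (.leaf 0x73561824) (.leaf 0x74563821)) (.node (.leaf 0x472583610) (.leaf 0x370581624))) (.node (.node (.leaf 0x473581620) (.leaf 0x274583601)) (.node (.leaf 0x470583621) (.leaf 0x574083621)))) (.node (.node (.node (.leaf 0x674583021) (.leaf 0x704583621)) (.node (.leaf 0x275183604) (.leaf 0x375180624))) (.node (.node (.leaf 0x475183620) (.leaf 0x570183624)) (.node (.leaf 0x675183024) (.leaf 0x705183624)))))) (.node (.node (.node (.node (.node (.leaf 0x46523781) (.leaf 0x36571824)) (.node (.leaf 0x46573821) (.leaf 0x426583710))) (.node (.node (.leaf 0x306581724) (.leaf 0x436581720)) (.node (.leaf 0x246583701) (.leaf 0x406583721)))) (.node (.node (.node (.leaf 0x546083721) (.leaf 0x640583721)) (.node (.leaf 0x746583021) (.leaf 0x256183704)))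 (.node (.node (.leaf 0x356180724) (.leaf 0x456183720)) (.node (.leaf 0x506183724) (.leaf 0x650183724))))) (.node (.node (.node (.node (.leaf 0x756183024) (.leaf 0x370521864)) (.node (.leaf 0x306521874) (.leaf 0x470523861))) (.node (.node (.leaf 0x406523871) (.leaf 0x570123864)) (.node (.leaf 0x506123874) (.leaf 0x601523874)))) (.node (.node (.node (.leaf 0x710523864) (.leaf 0x601537824)) (.node (.leaf 0x710536824) (.leaf 0x273560814))) (.node (.node (.leaf 0x274563810) (.leaf 0x372561804)) (.node (.leaf 0x374561820) (.leaf 0x378561024))))))))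

def repsT18 : BT := (.node (.node (.node (.node (.node (.node (.node (.leaf 0x472563801) (.leaf 0x478563021)) (.node (.leaf 0x572163804) (.leaf 0x573160824))) (.node (.node (.leaf 0x712563804) (.leaf 0x236570814)) (.node (.leaf 0x246573810) (.leaf 0x326571804)))) (.node (.node (.node (.leaf 0x346571820) (.leaf 0x386571024)) (.node (.leaf 0x426573801) (.leaf 0x486573021))) (.node (.node (.leaf 0x526173804) (.leaf 0x536170824)) (.node (.leaf 0x621573804) (.leaf 0x71263485))))) (.node (.node (.node (.node (.leaf 0x16273485) (.leaf 0x71368425)) (.node (.leaf 0x16378425) (.leaf 0x78623415))) (.node (.node (.leaf 0x78631425) (.leaf 0x172683405)) (.node (.leaf 0x173680425) (.leaf 0x86723415)))) (.node (.node (.node (.leaf 0x86731425) (.leaf 0x126783405)) (.node (.leaf 0x136780425) (.leaf 0x376820415))) (.node (.node (.leaf 0x576823410) (.leaf 0x670823415)) (.node (.leaf 0x706823415) (.leaf 0x276831405)))))) (.node (.node (.node (.node (.node (.leaf 0x476831025) (.leaf 0x670831425)) (.node (.leaf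 0x706831425) (.leaf 0x271863405))) (.node (.node (.leaf 0x371860425) (.leaf 0x471863025)) (.node (.leaf 0x571863420) (.leaf 0x671803425)))) (.node (.node (.node (.leaf 0x701863425) (.leaf 0x216873405)) (.node (.leaf 0x316870425) (.leaf 0x416873025))) (.node (.node (.leaf 0x516873420) (.leaf 0x610873425)) (.node (.leaf 0x716803425) (.leaf 0x75243681))))) (.node (.node (.node (.node (.leaf 0x73641825) (.leaf 0x572843610)) (.node (.leaf 0x370841625) (.leaf 0x573841620))) (.node (.node (.leaf 0x274813605) (.leaf 0x470813625)) (.node (.leaf 0x574813620) (.leaf 0x674813025)))) (.node (.node (.node (.leaf 0x704813625) (.leaf 0x275843601)) (.node (.leaf 0x475803621) (.leaf 0x570843621))) (.node (.node (.leaf 0x675843021) (.leaf 0x705843621)) (.node (.leaf 0x56243781) (.leaf 0x36741825))))))) (.node (.node (.node (.node (.node (.node (.leaf 0x526843710) (.leaf 0x306841725)) (.node (.leaf 0x536841720) (.leaf 0x246813705))) (.node (.node (.leaf 0x406813725) (.leaf 0x546813720)) (.node (.leaf 0x640813725)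 (.leaf 0x746813025)))) (.node (.node (.node (.leaf 0x256843701) (.leaf 0x456803721)) (.node (.leaf 0x506843721) (.leaf 0x650843721))) (.node (.node (.leaf 0x756843021) (.leaf 0x470213865)) (.node (.leaf 0x406213875) (.leaf 0x570243861))))) (.node (.node (.node (.node (.leaf 0x506243871) (.leaf 0x601243875)) (.node (.leaf 0x710243865) (.leaf 0x601347825))) (.node (.node (.leaf 0x710346825) (.leaf 0x273640815)) (.node (.leaf 0x372641805) (.leaf 0x378641025)))) (.node (.node (.node (.leaf 0x472613805) (.leaf 0x473610825)) (.node (.leaf 0x572643801) (.leaf 0x578643021))) (.node (.node (.leaf 0x712643805) (.leaf 0x236740815)) (.node (.leaf 0x326741805) (.leaf 0x386741025)))))) (.node (.node (.node (.node (.node (.leaf 0x426713805) (.leaf 0x436710825)) (.node (.leaf 0x526743801) (.leaf 0x586743021))) (.node (.node (.leaf 0x621743805) (.leaf 0x72563481)) (.node (.leaf 0x74531826) (.leaf 0x378501426)))) (.node (.node (.node (.leaf 0x678531420) (.leaf 0x278563401)) (.node (.leaf 0x578063421) (.leaf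 0x678503421))) (.node (.node (.leaf 0x708563421) (.leaf 0x218573406)) (.node (.leaf 0x318570426) (.leaf 0x418573026))))) (.node (.node (.node (.node (.leaf 0x518073426) (.leaf 0x618573420)) (.node (.leaf 0x718503426) (.leaf 0x72643581))) (.node (.node (.leaf 0x75341826) (.leaf 0x378041526)) (.node (.leaf 0x678341520) (.leaf 0x278643501)))) (.node (.node (.node (.leaf 0x478603521) (.leaf 0x678043521)) (.node (.leaf 0x708643521) (.leaf 0x218743506))) (.node (.node (.leaf 0x318740526) (.leaf 0x418703526)) (.node (.leaf 0x518743026) (.leaf 0x618743520))))))))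

def repsT19 : BT := (.node (.node (.node (.node (.node (.node (.node (.leaf 0x718043526) (.leaf 0x184523706)) (.node (.leaf 0x184530726) (.leaf 0x185243706))) (.node (.node (.leaf 0x185340726) (.leaf 0x328540716)) (.node (.leaf 0x428503716) (.leaf 0x528043716)))) (.node (.node (.node (.leaf 0x628543710) (.leaf 0x238541706)) (.node (.leaf 0x738541026) (.leaf 0x248513706))) (.node (.node (.leaf 0x348510726) (.leaf 0x408513726)) (.node (.leaf 0x548013726) (.leaf 0x648513720))))) (.node (.node (.node (.node (.leaf 0x748513026) (.leaf 0x258143706)) (.node (.leaf 0x358140726) (.leaf 0x458103726))) (.node (.node (.leaf 0x508143726) (.leaf 0x658143720)) (.node (.leaf 0x758143026) (.leaf 0x372501846)))) (.node (.node (.node (.leaf 0x372041856) (.leaf 0x472013856)) (.node (.leaf 0x572103846) (.leaf 0x672503841))) (.node (.node (.leaf 0x672043851) (.leaf 0x712503846)) (.node (.leaf 0x712043856) (.leaf 0x274530816)))))) (.node (.node (.node (.node (.node (.leaf 0x374521806) (.leaf 0x374581026)) (.node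 (.leaf 0x574123806) (.leaf 0x674523801))) (.node (.node (.leaf 0x714530826) (.leaf 0x275340816)) (.node (.leaf 0x375241806) (.leaf 0x375841026)))) (.node (.node (.node (.leaf 0x475213806) (.leaf 0x675243801)) (.node (.leaf 0x715340826) (.leaf 0x26573481))) (.node (.node (.leaf 0x46531827) (.leaf 0x386501427)) (.node (.leaf 0x786531420) (.leaf 0x281563407))))) (.node (.node (.node (.node (.leaf 0x481563027) (.leaf 0x581063427)) (.node (.leaf 0x681503427) (.leaf 0x781563420))) (.node (.node (.leaf 0x286573401) (.leaf 0x586073421)) (.node (.leaf 0x680573421) (.leaf 0x786503421)))) (.node (.node (.node (.leaf 0x26743581) (.leaf 0x56341827)) (.node (.leaf 0x386041527) (.leaf 0x786341520))) (.node (.node (.leaf 0x281643507) (.leaf 0x481603527)) (.node (.leaf 0x581643027) (.leaf 0x681043527))))))) (.node (.node (.node (.node (.node (.node (.leaf 0x781643520) (.leaf 0x286743501)) (.node (.leaf 0x486703521) (.leaf 0x680743521))) (.node (.node (.leaf 0x786043521) (.leaf 0x148523607)) (.node (.leaf 0x148530627)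 (.leaf 0x158243607)))) (.node (.node (.node (.leaf 0x158340627) (.leaf 0x382540617)) (.node (.leaf 0x482503617) (.leaf 0x582043617))) (.node (.node (.leaf 0x782543610) (.leaf 0x283541607)) (.node (.leaf 0x683541027) (.leaf 0x284513607))))) (.node (.node (.node (.node (.leaf 0x384510627) (.leaf 0x480513627)) (.node (.leaf 0x584013627) (.leaf 0x684513027))) (.node (.node (.leaf 0x784513620) (.leaf 0x285143607)) (.node (.leaf 0x385140627) (.leaf 0x485103627)))) (.node (.node (.node (.leaf 0x580143627) (.leaf 0x685143027)) (.node (.leaf 0x785143620) (.leaf 0x426013857))) (.node (.node (.leaf 0x526103847) (.leaf 0x621503847)) (.node (.leaf 0x621043857) (.leaf 0x726503841)))))) (.node (.node (.node (.node (.node (.leaf 0x726043851) (.leaf 0x246530817)) (.node (.leaf 0x346521807) (.leaf 0x346581027))) (.node (.node (.leaf 0x546123807) (.leaf 0x641530827)) (.node (.leaf 0x746523801) (.leaf 0x256340817)))) (.node (.node (.node (.leaf 0x356241807) (.leaf 0x356841027)) (.node (.leaf 0x456213807) (.leaf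 0x651340827))) (.node (.node (.leaf 0x756243801) (.leaf 0x270583461)) (.node (.leaf 0x206583471) (.leaf 0x301567428))))) (.node (.node (.node (.node (.leaf 0x310576428) (.leaf 0x470531628)) (.node (.leaf 0x406531728) (.leaf 0x570623418))) (.node (.node (.leaf 0x506723418) (.leaf 0x570631428)) (.node (.leaf 0x506731428) (.leaf 0x571263408)))) (.node (.node (.node (.leaf 0x516273408) (.leaf 0x675023418)) (.node (.leaf 0x673501428) (.leaf 0x674531028))) (.node (.node (.leaf 0x675031428) (.leaf 0x613570428)) (.node (.leaf 0x756023418) (.leaf 0x736501428))))))))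

def repsT20 : BT := (.node (.node (.node (.node (.node (.node (.node (.leaf 0x746531028) (.leaf 0x756031428)) (.node (.leaf 0x731560428) (.leaf 0x270843561))) (.node (.node (.leaf 0x206843571) (.leaf 0x301647528)) (.node (.leaf 0x310746528) (.leaf 0x470263518)))) (.node (.node (.node (.leaf 0x406273518) (.leaf 0x470361528)) (.node (.leaf 0x406371528) (.leaf 0x471623508))) (.node (.node (.leaf 0x416723508) (.leaf 0x570341628)) (.node (.leaf 0x506341728) (.leaf 0x674203518))))) (.node (.node (.node (.node (.leaf 0x673041528) (.leaf 0x674301528)) (.node (.leaf 0x675341028) (.leaf 0x613740528))) (.node (.node (.leaf 0x746203518) (.leaf 0x736041528)) (.node (.leaf 0x746301528) (.leaf 0x756341028)))) (.node (.node (.node (.leaf 0x731640528) (.leaf 0x278503641)) (.node (.leaf 0x278043651) (.leaf 0x402573618))) (.node (.node (.leaf 0x473561028) (.leaf 0x403571628)) (.node (.leaf 0x475130628) (.leaf 0x502743618)))))) (.node (.node (.node (.node (.node (.leaf 0x573641028) (.leaf 0x503741628)) (.node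 (.leaf 0x574310628) (.leaf 0x742503618))) (.node (.node (.leaf 0x752043618) (.leaf 0x743501628)) (.node (.leaf 0x753041628) (.leaf 0x724513608)))) (.node (.node (.node (.leaf 0x725143608) (.leaf 0x286503741)) (.node (.leaf 0x286043751) (.leaf 0x420563718))) (.node (.node (.leaf 0x430561728) (.leaf 0x436571028)) (.node (.leaf 0x456130728) (.leaf 0x520643718))))) (.node (.node (.node (.node (.leaf 0x530641728) (.leaf 0x536741028)) (.node (.leaf 0x546310728) (.leaf 0x624503718))) (.node (.node (.leaf 0x625043718) (.leaf 0x634501728)) (.node (.leaf 0x635041728) (.leaf 0x642513708)))) (.node (.node (.node (.leaf 0x652143708) (.leaf 0x74568231)) (.node (.leaf 0x472586130) (.leaf 0x473586210))) (.node (.node (.leaf 0x470586231) (.leaf 0x574086231)) (.node (.leaf 0x674580231) (.leaf 0x704586231))))))) (.node (.node (.node (.node (.node (.node (.leaf 0x46578231) (.leaf 0x426587130)) (.node (.leaf 0x436587210) (.leaf 0x406587231))) (.node (.node (.leaf 0x546087231) (.leaf 0x640587231)) (.node (.leaf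 0x746580231) (.leaf 0x601528734)))) (.node (.node (.node (.leaf 0x710528634) (.leaf 0x570138264)) (.node (.leaf 0x506138274) (.leaf 0x601538274))) (.node (.node (.leaf 0x710538264) (.leaf 0x273568104)) (.node (.leaf 0x274568130) (.leaf 0x372568014))))) (.node (.node (.node (.node (.leaf 0x374568210) (.leaf 0x478560231)) (.node (.leaf 0x236578104) (.leaf 0x246578130))) (.node (.node (.leaf 0x326578014) (.leaf 0x346578210)) (.node (.leaf 0x486570231) (.leaf 0x572846130)))) (.node (.node (.node (.leaf 0x573846210) (.leaf 0x475806231)) (.node (.leaf 0x570846231) (.leaf 0x675840231))) (.node (.node (.leaf 0x705846231) (.leaf 0x526847130)) (.node (.leaf 0x536847210) (.leaf 0x456807231)))))) (.node (.node (.node (.node (.node (.leaf 0x506847231) (.leaf 0x650847231)) (.node (.leaf 0x756840231) (.leaf 0x601248735))) (.node (.node (.leaf 0x710248635) (.leaf 0x470318265)) (.node (.leaf 0x406318275) (.leaf 0x601348275)))) (.node (.node (.node (.leaf 0x710348265) (.leaf 0x273648105)) (.node (.leaf 0x372648015)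 (.leaf 0x578640231))) (.node (.node (.leaf 0x236748105) (.leaf 0x326748015)) (.node (.leaf 0x586740231) (.leaf 0x678524130))))) (.node (.node (.node (.node (.leaf 0x578064231) (.leaf 0x678504231)) (.node (.leaf 0x708564231) (.leaf 0x678245130))) (.node (.node (.leaf 0x478605231) (.leaf 0x678045231)) (.node (.leaf 0x708645231) (.leaf 0x473018256)))) (.node (.node (.node (.leaf 0x573108246) (.leaf 0x713508246)) (.node (.leaf 0x713048256) (.leaf 0x274538106))) (.node (.node (.leaf 0x374528016) (.leaf 0x275348106)) (.node (.leaf 0x375248016) (.leaf 0x786524130))))))))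

def repsT21 : BT := (.node (.node (.node (.node (.node (.node (.node (.leaf 0x586074231) (.leaf 0x680574231)) (.node (.leaf 0x786504231) (.leaf 0x786245130))) (.node (.node (.leaf 0x486705231) (.leaf 0x680745231)) (.node (.leaf 0x786045231) (.leaf 0x436018257)))) (.node (.node (.node (.leaf 0x536108247) (.leaf 0x631508247)) (.node (.leaf 0x631048257) (.leaf 0x246538107))) (.node (.node (.leaf 0x346528017) (.leaf 0x256348107)) (.node (.leaf 0x356248017) (.leaf 0x201564738))))) (.node (.node (.node (.node (.leaf 0x210574638) (.leaf 0x570624138)) (.node (.leaf 0x506724138) (.leaf 0x570634218))) (.node (.node (.leaf 0x506734218) (.leaf 0x675024138)) (.node (.leaf 0x675034218) (.leaf 0x756024138)))) (.node (.node (.node (.leaf 0x756034218) (.leaf 0x201645738)) (.node (.leaf 0x210745638) (.leaf 0x470265138))) (.node (.node (.leaf 0x406275138) (.leaf 0x470365218)) (.node (.leaf 0x406375218) (.leaf 0x674205138)))))) (.node (.node (.node (.node (.node (.leaf 0x674305218) (.leaf 0x746205138)) (.node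 (.leaf 0x746305218) (.leaf 0x402576138))) (.node (.node (.leaf 0x403576218) (.leaf 0x502746138)) (.node (.leaf 0x503746218) (.leaf 0x742506138)))) (.node (.node (.node (.leaf 0x752046138) (.leaf 0x743506218)) (.node (.leaf 0x753046218) (.leaf 0x420567138))) (.node (.node (.leaf 0x430567218) (.leaf 0x520647138)) (.node (.leaf 0x530647218) (.leaf 0x624507138))))) (.node (.node (.node (.node (.leaf 0x625047138) (.leaf 0x634507218)) (.node (.leaf 0x635047218) (.leaf 0x371520846))) (.node (.node (.leaf 0x571023846) (.leaf 0x316520847)) (.node (.leaf 0x516023847) (.leaf 0x276135840)))) (.node (.node (.node (.leaf 0x670135842) (.leaf 0x706135842)) (.node (.leaf 0x270683541) (.leaf 0x206783541))) (.node (.node (.leaf 0x370681542) (.leaf 0x306781542)) (.node (.leaf 0x275083641) (.leaf 0x375081642))))))) (.node (.node (.node (.node (.node (.node (.leaf 0x256083741) (.leaf 0x356081742)) (.node (.leaf 0x376128540) (.leaf 0x670128543))) (.node (.node (.leaf 0x706128543) (.leaf 0x271538046)) (.node (.leaf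 0x571038246) (.leaf 0x216538047)))) (.node (.node (.node (.leaf 0x516038247) (.leaf 0x270685143)) (.node (.leaf 0x206785143) (.leaf 0x370685241))) (.node (.node (.leaf 0x306785241) (.leaf 0x275086143)) (.node (.leaf 0x375086241) (.leaf 0x256087143))))) (.node (.node (.node (.node (.leaf 0x356087241) (.leaf 0x376120584)) (.node (.leaf 0x670123584) (.leaf 0x706123584))) (.node (.node (.leaf 0x276135084) (.leaf 0x670135284)) (.node (.leaf 0x706135284) (.leaf 0x270683154)))) (.node (.node (.node (.leaf 0x206783154) (.leaf 0x370681254)) (.node (.leaf 0x306781254) (.leaf 0x275083164))) (.node (.node (.leaf 0x375081264) (.leaf 0x256083174)) (.node (.leaf 0x356081274) (.leaf 0x472863105)))))) (.node (.node (.node (.node (.node (.leaf 0x572863140) (.leaf 0x473861205)) (.node (.leaf 0x573861240) (.leaf 0x426873105))) (.node (.node (.leaf 0x526873140) (.leaf 0x436871205)) (.node (.leaf 0x536871240) (.leaf 0x274083156)))) (.node (.node (.node (.leaf 0x374081256) (.leaf 0x475283016)) (.node (.leaf 0x475380216)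 (.leaf 0x675283041))) (.node (.node (.leaf 0x675380241) (.leaf 0x246083157)) (.node (.leaf 0x346081257) (.leaf 0x456283017))))) (.node (.node (.node (.node (.leaf 0x456380217) (.leaf 0x756283041)) (.node (.leaf 0x756380241) (.leaf 0x401523678))) (.node (.node (.leaf 0x410523768) (.leaf 0x672103548)) (.node (.leaf 0x726103548) (.leaf 0x401536278)))) (.node (.node (.node (.leaf 0x410537268) (.leaf 0x673105248)) (.node (.leaf 0x736105248) (.leaf 0x274803651))) (.node (.node (.leaf 0x246803751) (.leaf 0x374806251)) (.node (.leaf 0x346807251) (.leaf 0x674823051))))))))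

def repsT22 : BT := (.node (.node (.node (.node (.node (.node (.node (.leaf 0x674830251) (.leaf 0x746823051)) (.node (.leaf 0x746830251) (.leaf 0x501243678))) (.node (.node (.leaf 0x510243768) (.leaf 0x672013458)) (.node (.leaf 0x726013458) (.leaf 0x501346278)))) (.node (.node (.node (.leaf 0x510347268) (.leaf 0x673014258)) (.node (.leaf 0x736014258) (.leaf 0x248503761))) (.node (.node (.leaf 0x258043761) (.leaf 0x348501762)) (.node (.leaf 0x358041762) (.leaf 0x248507163))))) (.node (.node (.node (.node (.leaf 0x258047163) (.leaf 0x348507261)) (.node (.leaf 0x358047261) (.leaf 0))) (.leaf 0)) (.leaf 0))) (.leaf 0)) (.leaf 0))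

def repsT23 : BT := (.leaf 0)

def repsT24 : BT := (.leaf 0)

def repsT25 : BT := (.leaf 0)

def repsT26 : BT := (.leaf 0)

def repsT27 : BT := (.leaf 0)

def repsT28 : BT := (.leaf 0)

def repsT29 : BT := (.leaf 0)

def repsT30 : BT := (.leaf 0)

def repsT31 : BT := (.leaf 0)

/-- Table. -/
def repsT : BT := (.node (.node (.node (.node (.node repsT0 repsT1) (.node repsT2 repsT3)) (.node (.node repsT4 repsT5) (.node repsT6 repsT7))) (.node (.node (.node repsT8 repsT9) (.node repsT10 repsT11)) (.node (.node repsT12 repsT13) (.node repsT14 repsT15)))) (.node (.node (.node (.node repsT16 repsT17) (.node repsT18 repsT19)) (.node (.node repsT20 repsT21) (.node repsT22 repsT23))) (.node (.node (.node repsT24 repsT25) (.node repsT26 repsT27)) (.node (.node repsT28 repsT29) (.node repsT30 repsT31)))))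

def repsP0 : BT := (.node (.node (.node (.node (.node (.node (.node (.leaf 0x0) (.leaf 0x0)) (.node (.leaf 0x1) (.leaf 0x2))) (.node (.node (.leaf 0x3) (.leaf 0x4)) (.node (.leaf 0x5) (.leaf 0x6)))) (.node (.node (.node (.leaf 0x102) (.leaf 0x103)) (.node (.leaf 0x104) (.leaf 0x105))) (.node (.node (.leaf 0x106) (.leaf 0x202)) (.node (.leaf 0x203) (.leaf 0x204))))) (.node (.node (.node (.node (.leaf 0x205) (.leaf 0x206)) (.node (.leaf 0x300) (.leaf 0x301))) (.node (.node (.leaf 0x302) (.leaf 0x303)) (.node (.leaf 0x304) (.leaf 0x305)))) (.node (.node (.node (.leaf 0x306) (.leaf 0x400)) (.node (.leaf 0x401) (.leaf 0x403))) (.node (.node (.leaf 0x404) (.leaf 0x405)) (.node (.leaf 0x406) (.leaf 0x500)))))) (.node (.node (.node (.node (.node (.leaf 0x501) (.leaf 0x502)) (.node (.leaf 0x503) (.leaf 0x504))) (.node (.node (.leaf 0x505) (.leaf 0x506)) (.node (.leaf 0x600) (.leaf 0x601)))) (.node (.node (.node (.leaf 0x602) (.leaf 0x603)) (.node (.leaf 0x605) (.leaf 0x606))) (.node (.node (.leaf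 0x700) (.leaf 0x701)) (.node (.leaf 0x702) (.leaf 0x703))))) (.node (.node (.node (.node (.leaf 0x704) (.leaf 0x705)) (.node (.leaf 0x706) (.leaf 0x803))) (.node (.node (.leaf 0x804) (.leaf 0x805)) (.node (.leaf 0x806) (.leaf 0x902)))) (.node (.node (.node (.leaf 0x904) (.leaf 0x905)) (.node (.leaf 0x906) (.leaf 0xa02))) (.node (.node (.leaf 0xa03) (.leaf 0xa05)) (.node (.leaf 0xa06) (.leaf 0xb02))))))) (.node (.node (.node (.node (.node (.node (.leaf 0xb03) (.leaf 0xb04)) (.node (.leaf 0xb06) (.leaf 0xc02))) (.node (.node (.leaf 0xc03) (.leaf 0xc04)) (.node (.leaf 0xc05) (.leaf 0xd04)))) (.node (.node (.node (.leaf 0xd05) (.leaf 0xd06)) (.node (.leaf 0xe04) (.leaf 0xe05))) (.node (.node (.leaf 0xe06) (.leaf 0xf02)) (.node (.leaf 0xf03) (.leaf 0xf06))))) (.node (.node (.node (.node (.leaf 0x1002) (.leaf 0x1003)) (.node (.leaf 0x1006) (.leaf 0x1102))) (.node (.node (.leaf 0x1103) (.leaf 0x1104)) (.node (.leaf 0x1105) (.leaf 0x1200)))) (.node (.node (.node (.leaf 0x1201) (.leaf 0x1204)) (.node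 (.leaf 0x1205) (.leaf 0x1206))) (.node (.node (.leaf 0x1300) (.leaf 0x1301)) (.node (.leaf 0x1304) (.leaf 0x1305)))))) (.node (.node (.node (.node (.node (.leaf 0x1306) (.leaf 0x1400)) (.node (.leaf 0x1401) (.leaf 0x1404))) (.node (.node (.leaf 0x1405) (.leaf 0x1406)) (.node (.leaf 0x1500) (.leaf 0x1501)))) (.node (.node (.node (.leaf 0x1504) (.leaf 0x1505)) (.node (.leaf 0x1506) (.leaf 0x1600))) (.node (.node (.leaf 0x1601) (.leaf 0x1604)) (.node (.leaf 0x1605) (.leaf 0x1606))))) (.node (.node (.node (.node (.leaf 0x1700) (.leaf 0x1701)) (.node (.leaf 0x1704) (.leaf 0x1705))) (.node (.node (.leaf 0x1706) (.leaf 0x1800)) (.node (.leaf 0x1801) (.leaf 0x1804)))) (.node (.node (.node (.leaf 0x1805) (.leaf 0x1806)) (.node (.leaf 0x1900) (.leaf 0x1901))) (.node (.node (.leaf 0x1904) (.leaf 0x1905)) (.node (.leaf 0x1906) (.leaf 0x1a00))))))))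

def repsP1 : BT := (.node (.node (.node (.node (.node (.node (.node (.leaf 0x1a01) (.leaf 0x1a04)) (.node (.leaf 0x1a05) (.leaf 0x1a06))) (.node (.node (.leaf 0x1b00) (.leaf 0x1b01)) (.node (.leaf 0x1b04) (.leaf 0x1b05)))) (.node (.node (.node (.leaf 0x1b06) (.leaf 0x1c00)) (.node (.leaf 0x1c01) (.leaf 0x1c04))) (.node (.node (.leaf 0x1c05) (.leaf 0x1c06)) (.node (.leaf 0x1d00) (.leaf 0x1d01))))) (.node (.node (.node (.node (.leaf 0x1d04) (.leaf 0x1d05)) (.node (.leaf 0x1d06) (.leaf 0x1e00))) (.node (.node (.leaf 0x1e01) (.leaf 0x1e04)) (.node (.leaf 0x1e05) (.leaf 0x1e06)))) (.node (.node (.node (.leaf 0x1f00) (.leaf 0x1f01)) (.node (.leaf 0x1f02) (.leaf 0x1f03))) (.node (.node (.leaf 0x1f06) (.leaf 0x2000)) (.node (.leaf 0x2001) (.leaf 0x2002)))))) (.node (.node (.node (.node (.node (.leaf 0x2003) (.leaf 0x2006)) (.node (.leaf 0x2100) (.leaf 0x2101))) (.node (.node (.leaf 0x2102) (.leaf 0x2106)) (.node (.leaf 0x2200) (.leaf 0x2201)))) (.node (.node (.node (.leaf 0x2203) (.leaf 0x2206))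 (.node (.leaf 0x2300) (.leaf 0x2301))) (.node (.node (.leaf 0x2302) (.leaf 0x2303)) (.node (.leaf 0x2306) (.leaf 0x2400))))) (.node (.node (.node (.node (.leaf 0x2401) (.leaf 0x2402)) (.node (.leaf 0x2403) (.leaf 0x2406))) (.node (.node (.leaf 0x2500) (.leaf 0x2501)) (.node (.leaf 0x2502) (.leaf 0x2503)))) (.node (.node (.node (.leaf 0x2506) (.leaf 0x2600)) (.node (.leaf 0x2601) (.leaf 0x2602))) (.node (.node (.leaf 0x2603) (.leaf 0x2606)) (.node (.leaf 0x2700) (.leaf 0x2701))))))) (.node (.node (.node (.node (.node (.node (.leaf 0x2702) (.leaf 0x2703)) (.node (.leaf 0x2706) (.leaf 0x2800))) (.node (.node (.leaf 0x2801) (.leaf 0x2802)) (.node (.leaf 0x2806) (.leaf 0x2900)))) (.node (.node (.node (.leaf 0x2901) (.leaf 0x2903)) (.node (.leaf 0x2906) (.leaf 0x2a00))) (.node (.node (.leaf 0x2a01) (.leaf 0x2a02)) (.node (.leaf 0x2a03) (.leaf 0x2a06))))) (.node (.node (.node (.node (.leaf 0x2b00) (.leaf 0x2b01)) (.node (.leaf 0x2b02) (.leaf 0x2b03))) (.node (.node (.leaf 0x2b06) (.leaf 0x2c00))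 (.node (.leaf 0x2c01) (.leaf 0x2c02)))) (.node (.node (.node (.leaf 0x2c03) (.leaf 0x2c04)) (.node (.leaf 0x2c05) (.leaf 0x2d00))) (.node (.node (.leaf 0x2d01) (.leaf 0x2d02)) (.node (.leaf 0x2d03) (.leaf 0x2d04)))))) (.node (.node (.node (.node (.node (.leaf 0x2d05) (.leaf 0x2e00)) (.node (.leaf 0x2e01) (.leaf 0x2e02))) (.node (.node (.leaf 0x2e03) (.leaf 0x2e04)) (.node (.leaf 0x2e05) (.leaf 0x2f00)))) (.node (.node (.node (.leaf 0x2f01) (.leaf 0x2f02)) (.node (.leaf 0x2f03) (.leaf 0x2f04))) (.node (.node (.leaf 0x2f05) (.leaf 0x3000)) (.node (.leaf 0x3001) (.leaf 0x3002))))) (.node (.node (.node (.node (.leaf 0x3003) (.leaf 0x3004)) (.node (.leaf 0x3005) (.leaf 0x3100))) (.node (.node (.leaf 0x3101) (.leaf 0x3102)) (.node (.leaf 0x3103) (.leaf 0x3104)))) (.node (.node (.node (.leaf 0x3105) (.leaf 0x3200)) (.node (.leaf 0x3201) (.leaf 0x3202))) (.node (.node (.leaf 0x3203) (.leaf 0x3204)) (.node (.leaf 0x3205) (.leaf 0x3300))))))))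

def repsP2 : BT := (.node (.node (.node (.node (.node (.node (.node (.leaf 0x3301) (.leaf 0x3304)) (.node (.leaf 0x3305) (.leaf 0x3306))) (.node (.node (.leaf 0x3400) (.leaf 0x3401)) (.node (.leaf 0x3404) (.leaf 0x3405)))) (.node (.node (.node (.leaf 0x3406) (.leaf 0x3500)) (.node (.leaf 0x3501) (.leaf 0x3504))) (.node (.node (.leaf 0x3505) (.leaf 0x3506)) (.node (.leaf 0x3600) (.leaf 0x3601))))) (.node (.node (.node (.node (.leaf 0x3604) (.leaf 0x3605)) (.node (.leaf 0x3606) (.leaf 0x3700))) (.node (.node (.leaf 0x3701) (.leaf 0x3704)) (.node (.leaf 0x3705) (.leaf 0x3706)))) (.node (.node (.node (.leaf 0x3800) (.leaf 0x3801)) (.node (.leaf 0x3804) (.leaf 0x3805))) (.node (.node (.leaf 0x3806) (.leaf 0x3900)) (.node (.leaf 0x3901) (.leaf 0x3904)))))) (.node (.node (.node (.node (.node (.leaf 0x3905) (.leaf 0x3906)) (.node (.leaf 0x3a00) (.leaf 0x3a01))) (.node (.node (.leaf 0x3a04) (.leaf 0x3a05)) (.node (.leaf 0x3a06) (.leaf 0x3b00)))) (.node (.node (.node (.leaf 0x3b01) (.leaf 0x3b02))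 (.node (.leaf 0x3b03) (.leaf 0x3b06))) (.node (.node (.leaf 0x3c00) (.leaf 0x3c01)) (.node (.leaf 0x3c02) (.leaf 0x3c03))))) (.node (.node (.node (.node (.leaf 0x3c06) (.leaf 0x3d00)) (.node (.leaf 0x3d01) (.leaf 0x3d02))) (.node (.node (.leaf 0x3d03) (.leaf 0x3d06)) (.node (.leaf 0x3e00) (.leaf 0x3e01)))) (.node (.node (.node (.leaf 0x3e02) (.leaf 0x3e03)) (.node (.leaf 0x3e06) (.leaf 0x3f00))) (.node (.node (.leaf 0x3f01) (.leaf 0x3f02)) (.node (.leaf 0x3f03) (.leaf 0x3f06))))))) (.node (.node (.node (.node (.node (.node (.leaf 0x4000) (.leaf 0x4001)) (.node (.leaf 0x4002) (.leaf 0x4003))) (.node (.node (.leaf 0x4006) (.leaf 0x4100)) (.node (.leaf 0x4101) (.leaf 0x4102)))) (.node (.node (.node (.leaf 0x4103) (.leaf 0x4106)) (.node (.leaf 0x4200) (.leaf 0x4201))) (.node (.node (.leaf 0x4202) (.leaf 0x4203)) (.node (.leaf 0x4206) (.leaf 0x4300))))) (.node (.node (.node (.node (.leaf 0x4301) (.leaf 0x4302)) (.node (.leaf 0x4303) (.leaf 0x4304))) (.node (.node (.leaf 0x4305) (.leaf 0x4400))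 (.node (.leaf 0x4401) (.leaf 0x4402)))) (.node (.node (.node (.leaf 0x4403) (.leaf 0x4404)) (.node (.leaf 0x4405) (.leaf 0x4500))) (.node (.node (.leaf 0x4501) (.leaf 0x4502)) (.node (.leaf 0x4503) (.leaf 0x4504)))))) (.node (.node (.node (.node (.node (.leaf 0x4505) (.leaf 0x4600)) (.node (.leaf 0x4601) (.leaf 0x4602))) (.node (.node (.leaf 0x4603) (.leaf 0x4604)) (.node (.leaf 0x4605) (.leaf 0x4700)))) (.node (.node (.node (.leaf 0x4701) (.leaf 0x4704)) (.node (.leaf 0x4706) (.leaf 0x4800))) (.node (.node (.leaf 0x4801) (.leaf 0x4805)) (.node (.leaf 0x4806) (.leaf 0x4900))))) (.node (.node (.node (.node (.leaf 0x4901) (.leaf 0x4904)) (.node (.leaf 0x4905) (.leaf 0x4906))) (.node (.node (.leaf 0x4a00) (.leaf 0x4a01)) (.node (.leaf 0x4a04) (.leaf 0x4a06)))) (.node (.node (.node (.leaf 0x4b00) (.leaf 0x4b01)) (.node (.leaf 0x4b05) (.leaf 0x4b06))) (.node (.node (.leaf 0x4c00) (.leaf 0x4c01)) (.node (.leaf 0x4c04) (.leaf 0x4c05))))))))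

def repsP3 : BT := (.node (.node (.node (.node (.node (.node (.node (.leaf 0x4c06) (.leaf 0x4d00)) (.node (.leaf 0x4d01) (.leaf 0x4d02))) (.node (.node (.leaf 0x4d06) (.leaf 0x4e00)) (.node (.leaf 0x4e01) (.leaf 0x4e03)))) (.node (.node (.node (.leaf 0x4e06) (.leaf 0x4f00)) (.node (.leaf 0x4f01) (.leaf 0x4f02))) (.node (.node (.leaf 0x4f03) (.leaf 0x4f06)) (.node (.leaf 0x5000) (.leaf 0x5001))))) (.node (.node (.node (.node (.leaf 0x5002) (.leaf 0x5006)) (.node (.leaf 0x5100) (.leaf 0x5101))) (.node (.node (.leaf 0x5103) (.leaf 0x5106)) (.node (.leaf 0x5200) (.leaf 0x5201)))) (.node (.node (.node (.leaf 0x5202) (.leaf 0x5203)) (.node (.leaf 0x5206) (.leaf 0x5300))) (.node (.node (.leaf 0x5301) (.leaf 0x5302)) (.node (.leaf 0x5303) (.leaf 0x5304)))))) (.node (.node (.node (.node (.node (.leaf 0x5305) (.leaf 0x5400)) (.node (.leaf 0x5401) (.leaf 0x5402))) (.node (.node (.leaf 0x5403) (.leaf 0x5404)) (.node (.leaf 0x5405) (.leaf 0x5500)))) (.node (.node (.node (.leaf 0x5501) (.leaf 0x5502))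 (.node (.leaf 0x5503) (.leaf 0x5504))) (.node (.node (.leaf 0x5505) (.leaf 0x5600)) (.node (.leaf 0x5601) (.leaf 0x5602))))) (.node (.node (.node (.node (.leaf 0x5603) (.leaf 0x5604)) (.node (.leaf 0x5605) (.leaf 0x5703))) (.node (.node (.leaf 0x5706) (.leaf 0x5803)) (.node (.leaf 0x5806) (.leaf 0x5906)))) (.node (.node (.node (.leaf 0x5a06) (.leaf 0x5b03)) (.node (.leaf 0x5b04) (.leaf 0x5b05))) (.node (.node (.leaf 0x5c03) (.leaf 0x5c06)) (.node (.leaf 0x5d03) (.leaf 0x5d06))))))) (.node (.node (.node (.node (.node (.node (.leaf 0x5e06) (.leaf 0x5f06)) (.node (.leaf 0x6003) (.leaf 0x6004))) (.node (.node (.leaf 0x6005) (.leaf 0x6104)) (.node (.leaf 0x6105) (.leaf 0x6106)))) (.node (.node (.node (.leaf 0x6204) (.leaf 0x6205)) (.node (.leaf 0x6206) (.leaf 0x6306))) (.node (.node (.leaf 0x6406) (.leaf 0x6503)) (.node (.leaf 0x6504) (.leaf 0x6505))))) (.node (.node (.node (.node (.leaf 0x6606) (.leaf 0x6706)) (.node (.leaf 0x6800) (.leaf 0x6801))) (.node (.node (.leaf 0x6806) (.leaf 0x6900))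 (.node (.leaf 0x6901) (.leaf 0x6906)))) (.node (.node (.node (.leaf 0x6a00) (.leaf 0x6a01)) (.node (.leaf 0x6a04) (.leaf 0x6a05))) (.node (.node (.leaf 0x6b00) (.leaf 0x6b02)) (.node (.leaf 0x6b03) (.leaf 0x6b06)))))) (.node (.node (.node (.node (.node (.leaf 0x6c01) (.leaf 0x6c02)) (.node (.leaf 0x6c03) (.leaf 0x6c06))) (.node (.node (.leaf 0x6d00) (.leaf 0x6d01)) (.node (.leaf 0x6d02) (.leaf 0x6d06)))) (.node (.node (.node (.leaf 0x6e00) (.leaf 0x6e01)) (.node (.leaf 0x6e06) (.leaf 0x6f00))) (.node (.node (.leaf 0x6f01) (.leaf 0x6f02)) (.node (.leaf 0x6f03) (.leaf 0x6f06))))) (.node (.node (.node (.node (.leaf 0x7000) (.leaf 0x7002)) (.node (.leaf 0x7003) (.leaf 0x7006))) (.node (.node (.leaf 0x7101) (.leaf 0x7102)) (.node (.leaf 0x7103) (.leaf 0x7106)))) (.node (.node (.node (.leaf 0x7200) (.leaf 0x7201)) (.node (.leaf 0x7206) (.leaf 0x7300))) (.node (.node (.leaf 0x7301) (.leaf 0x7302)) (.node (.leaf 0x7306) (.leaf 0x7400))))))))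

def repsP4 : BT := (.node (.node (.node (.node (.node (.node (.node (.leaf 0x7401) (.leaf 0x7402)) (.node (.leaf 0x7403) (.leaf 0x7406))) (.node (.node (.leaf 0x7500) (.leaf 0x7501)) (.node (.leaf 0x7502) (.leaf 0x7503)))) (.node (.node (.node (.leaf 0x7504) (.leaf 0x7505)) (.node (.leaf 0x7600) (.leaf 0x7601))) (.node (.node (.leaf 0x7602) (.leaf 0x7603)) (.node (.leaf 0x7604) (.leaf 0x7605))))) (.node (.node (.node (.node (.leaf 0x7700) (.leaf 0x7701)) (.node (.leaf 0x7702) (.leaf 0x7703))) (.node (.node (.leaf 0x7704) (.leaf 0x7705)) (.node (.leaf 0x7800) (.leaf 0x7801)))) (.node (.node (.node (.leaf 0x7802) (.leaf 0x7803)) (.node (.leaf 0x7804) (.leaf 0x7805))) (.node (.node (.leaf 0x7900) (.leaf 0x7901)) (.node (.leaf 0x7902) (.leaf 0x7903)))))) (.node (.node (.node (.node (.node (.leaf 0x7904) (.leaf 0x7905)) (.node (.leaf 0x7a06) (.leaf 0x7b06))) (.node (.node (.leaf 0x7c06) (.leaf 0x7d06)) (.node (.leaf 0x7e04) (.leaf 0x7e05)))) (.node (.node (.node (.leaf 0x7f06) (.leaf 0x8006))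 (.node (.leaf 0x8106) (.leaf 0x8206))) (.node (.node (.leaf 0x8304) (.leaf 0x8305)) (.node (.leaf 0x8404) (.leaf 0x8405))))) (.node (.node (.node (.node (.leaf 0x8406) (.leaf 0x8504)) (.node (.leaf 0x8505) (.leaf 0x8506))) (.node (.node (.leaf 0x8606) (.leaf 0x8706)) (.node (.leaf 0x8804) (.leaf 0x8805)))) (.node (.node (.node (.leaf 0x8900) (.leaf 0x8903)) (.node (.leaf 0x8906) (.leaf 0x8a01))) (.node (.node (.leaf 0x8a03) (.leaf 0x8a06)) (.node (.leaf 0x8b00) (.leaf 0x8b01))))))) (.node (.node (.node (.node (.node (.node (.leaf 0x8b06) (.leaf 0x8c06)) (.node (.leaf 0x8d00) (.leaf 0x8d01))) (.node (.node (.leaf 0x8d02) (.leaf 0x8d03)) (.node (.leaf 0x8d06) (.leaf 0x8e00)))) (.node (.node (.node (.leaf 0x8e03) (.leaf 0x8e06)) (.node (.leaf 0x8f01) (.leaf 0x8f03))) (.node (.node (.leaf 0x8f06) (.leaf 0x9006)) (.node (.leaf 0x9100) (.leaf 0x9101))))) (.node (.node (.node (.node (.leaf 0x9106) (.leaf 0x9200)) (.node (.leaf 0x9201) (.leaf 0x9202))) (.node (.node (.leaf 0x9203) (.leaf 0x9206))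 (.node (.leaf 0x9300) (.leaf 0x9301)))) (.node (.node (.node (.leaf 0x9302) (.leaf 0x9303)) (.node (.leaf 0x9304) (.leaf 0x9305))) (.node (.node (.leaf 0x9400) (.leaf 0x9401)) (.node (.leaf 0x9402) (.leaf 0x9403)))))) (.node (.node (.node (.node (.node (.leaf 0x9404) (.leaf 0x9405)) (.node (.leaf 0x9500) (.leaf 0x9501))) (.node (.node (.leaf 0x9502) (.leaf 0x9503)) (.node (.leaf 0x9504) (.leaf 0x9505)))) (.node (.node (.node (.leaf 0x9600) (.leaf 0x9601)) (.node (.leaf 0x9602) (.leaf 0x9603))) (.node (.node (.leaf 0x9604) (.leaf 0x9605)) (.node (.leaf 0x9700) (.leaf 0x9701))))) (.node (.node (.node (.node (.leaf 0x9702) (.leaf 0x9703)) (.node (.leaf 0x9704) (.leaf 0x9705))) (.node (.node (.leaf 0x9806) (.leaf 0x9906)) (.node (.leaf 0x9a06) (.leaf 0x9b06)))) (.node (.node (.node (.leaf 0x9c02) (.leaf 0x9c03)) (.node (.leaf 0x9c05) (.leaf 0x9d06))) (.node (.node (.leaf 0x9e06) (.leaf 0x9f06)) (.node (.leaf 0xa006) (.leaf 0xa102))))))))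

def repsP5 : BT := (.node (.node (.node (.node (.node (.node (.node (.leaf 0xa103) (.leaf 0xa105)) (.node (.leaf 0xa204) (.leaf 0xa206))) (.node (.node (.leaf 0xa304) (.leaf 0xa306)) (.node (.leaf 0xa400) (.leaf 0xa401)))) (.node (.node (.node (.leaf 0xa406) (.leaf 0xa500)) (.node (.leaf 0xa501) (.leaf 0xa504))) (.node (.node (.leaf 0xa604) (.leaf 0xa606)) (.node (.leaf 0xa704) (.leaf 0xa706))))) (.node (.node (.node (.node (.leaf 0xa800) (.leaf 0xa801)) (.node (.leaf 0xa806) (.leaf 0xa900))) (.node (.node (.leaf 0xa901) (.leaf 0xa904)) (.node (.leaf 0xaa06) (.leaf 0xab06)))) (.node (.node (.node (.leaf 0xac06) (.leaf 0xad06)) (.node (.leaf 0xae05) (.leaf 0xaf06))) (.node (.node (.leaf 0xb006) (.leaf 0xb106)) (.node (.leaf 0xb206) (.leaf 0xb300)))))) (.node (.node (.node (.node (.node (.leaf 0xb301) (.leaf 0xb302)) (.node (.leaf 0xb303) (.leaf 0xb400))) (.node (.node (.leaf 0xb401) (.leaf 0xb402)) (.node (.leaf 0xb403) (.leaf 0xb404)))) (.node (.node (.node (.leaf 0xb405) (.leaf 0xb500))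 (.node (.leaf 0xb501) (.leaf 0xb502))) (.node (.node (.leaf 0xb503) (.leaf 0xb504)) (.node (.leaf 0xb505) (.leaf 0xb600))))) (.node (.node (.node (.node (.leaf 0xb601) (.leaf 0xb602)) (.node (.leaf 0xb603) (.leaf 0xb604))) (.node (.node (.leaf 0xb605) (.leaf 0xb700)) (.node (.leaf 0xb701) (.leaf 0xb702)))) (.node (.node (.node (.leaf 0xb703) (.leaf 0xb704)) (.node (.leaf 0xb705) (.leaf 0xb800))) (.node (.node (.leaf 0xb801) (.leaf 0xb802)) (.node (.leaf 0xb803) (.leaf 0xb804))))))) (.node (.node (.node (.node (.node (.node (.leaf 0xb805) (.leaf 0xb906)) (.node (.leaf 0xba06) (.leaf 0xbb06))) (.node (.node (.leaf 0xbc06) (.leaf 0xbd02)) (.node (.leaf 0xbd03) (.leaf 0xbe06)))) (.node (.node (.node (.leaf 0xbf06) (.leaf 0xc006)) (.node (.leaf 0xc106) (.leaf 0xc202))) (.node (.node (.leaf 0xc203) (.leaf 0xc305)) (.node (.leaf 0xc306) (.leaf 0xc405))))) (.node (.node (.node (.node (.leaf 0xc406) (.leaf 0xc500)) (.node (.leaf 0xc501) (.leaf 0xc506))) (.node (.node (.leaf 0xc600) (.leaf 0xc601))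 (.node (.leaf 0xc605) (.leaf 0xc705)))) (.node (.node (.node (.leaf 0xc706) (.leaf 0xc805)) (.node (.leaf 0xc806) (.leaf 0xc900))) (.node (.node (.leaf 0xc901) (.leaf 0xc906)) (.node (.leaf 0xca00) (.leaf 0xca01)))))) (.node (.node (.node (.node (.node (.leaf 0xca05) (.leaf 0xcb06)) (.node (.leaf 0xcc06) (.leaf 0xcd06))) (.node (.node (.leaf 0xce06) (.leaf 0xd000)) (.node (.leaf 0xd001) (.leaf 0xd002)))) (.node (.node (.node (.leaf 0xd003) (.leaf 0xd004)) (.node (.leaf 0xd005) (.leaf 0xd100))) (.node (.node (.leaf 0xd101) (.leaf 0xd102)) (.node (.leaf 0xd103) (.leaf 0xd104))))) (.node (.node (.node (.node (.leaf 0xd105) (.leaf 0xd200)) (.node (.leaf 0xd201) (.leaf 0xd202))) (.node (.node (.leaf 0xd203) (.leaf 0xd204)) (.node (.leaf 0xd205) (.leaf 0xd300)))) (.node (.node (.node (.leaf 0xd301) (.leaf 0xd302)) (.node (.leaf 0xd303) (.leaf 0xd304))) (.node (.node (.leaf 0xd305) (.leaf 0xd400)) (.node (.leaf 0xd401) (.leaf 0xd402))))))))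

def repsP6 : BT := (.node (.node (.node (.node (.node (.node (.node (.leaf 0xd403) (.leaf 0xd404)) (.node (.leaf 0xd405) (.leaf 0xd502))) (.node (.node (.leaf 0xd503) (.leaf 0xd504)) (.node (.leaf 0xd505) (.leaf 0xd602)))) (.node (.node (.node (.leaf 0xd603) (.leaf 0xd604)) (.node (.leaf 0xd605) (.leaf 0xd704))) (.node (.node (.leaf 0xd705) (.leaf 0xd804)) (.node (.leaf 0xd805) (.leaf 0xd902))))) (.node (.node (.node (.node (.leaf 0xd903) (.leaf 0xda02)) (.node (.leaf 0xda03) (.leaf 0xdb02))) (.node (.node (.leaf 0xdb03) (.leaf 0xdb04)) (.node (.leaf 0xdb05) (.leaf 0xdc02)))) (.node (.node (.node (.leaf 0xdc03) (.leaf 0xdc04)) (.node (.leaf 0xdc05) (.leaf 0xdd04))) (.node (.node (.leaf 0xdd05) (.leaf 0xde04)) (.node (.leaf 0xde05) (.leaf 0xdf02)))))) (.node (.node (.node (.node (.node (.leaf 0xdf03) (.leaf 0xe002)) (.node (.leaf 0xe003) (.leaf 0xe104))) (.node (.node (.leaf 0xe105) (.leaf 0xe106)) (.node (.leaf 0xe204) (.leaf 0xe205)))) (.node (.node (.node (.leaf 0xe206) (.leaf 0xe300))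 (.node (.leaf 0xe301) (.leaf 0xe304))) (.node (.node (.leaf 0xe305) (.leaf 0xe400)) (.node (.leaf 0xe401) (.leaf 0xe406))))) (.node (.node (.node (.node (.leaf 0xe500) (.leaf 0xe501)) (.node (.leaf 0xe506) (.leaf 0xe600))) (.node (.node (.leaf 0xe601) (.leaf 0xe606)) (.node (.leaf 0xe704) (.leaf 0xe705)))) (.node (.node (.node (.leaf 0xe706) (.leaf 0xe804)) (.node (.leaf 0xe805) (.leaf 0xe806))) (.node (.node (.leaf 0xe900) (.leaf 0xe901)) (.node (.leaf 0xe906) (.leaf 0xea00))))))) (.node (.node (.node (.node (.node (.node (.leaf 0xea01) (.leaf 0xea04)) (.node (.leaf 0xea05) (.leaf 0xeb00))) (.node (.node (.leaf 0xeb01) (.leaf 0xeb06)) (.node (.leaf 0xec00) (.leaf 0xec01)))) (.node (.node (.node (.leaf 0xec06) (.leaf 0xed02)) (.node (.leaf 0xed03) (.leaf 0xed06))) (.node (.node (.leaf 0xee02) (.leaf 0xee03)) (.node (.leaf 0xee06) (.leaf 0xef00))))) (.node (.node (.node (.node (.leaf 0xef01) (.leaf 0xef06)) (.node (.leaf 0xf000) (.leaf 0xf001))) (.node (.node (.leaf 0xf006) (.leaf 0xf100))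 (.node (.leaf 0xf101) (.leaf 0xf102)))) (.node (.node (.node (.leaf 0xf103) (.leaf 0xf200)) (.node (.leaf 0xf201) (.leaf 0xf206))) (.node (.node (.leaf 0xf302) (.leaf 0xf303)) (.node (.leaf 0xf306) (.leaf 0xf402)))))) (.node (.node (.node (.node (.node (.leaf 0xf403) (.leaf 0xf406)) (.node (.leaf 0xf500) (.leaf 0xf501))) (.node (.node (.leaf 0xf506) (.leaf 0xf600)) (.node (.leaf 0xf601) (.leaf 0xf606)))) (.node (.node (.node (.leaf 0xf700) (.leaf 0xf701)) (.node (.leaf 0xf706) (.leaf 0xf800))) (.node (.node (.leaf 0xf801) (.leaf 0xf802)) (.node (.leaf 0xf803) (.leaf 0xff04))))) (.node (.node (.node (.node (.leaf 0xff05) (.leaf 0xff06)) (.node (.leaf 0x10004) (.leaf 0x10005))) (.node (.node (.leaf 0x10006) (.leaf 0x10100)) (.node (.leaf 0x10101) (.leaf 0x10106)))) (.node (.node (.node (.leaf 0x10200) (.leaf 0x10201)) (.node (.leaf 0x10206) (.leaf 0x10300))) (.node (.node (.leaf 0x10301) (.leaf 0x10304)) (.node (.leaf 0x10305) (.leaf 0x10402))))))))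

def repsP7 : BT := (.node (.node (.node (.node (.node (.node (.node (.leaf 0x10406) (.leaf 0x10506)) (.node (.leaf 0x10601) (.leaf 0x10602))) (.node (.node (.leaf 0x10606) (.leaf 0x10706)) (.node (.leaf 0x10800) (.leaf 0x10801)))) (.node (.node (.node (.leaf 0x10802) (.leaf 0x10803)) (.node (.leaf 0x10902) (.leaf 0x10906))) (.node (.node (.leaf 0x10a06) (.leaf 0x10b06)) (.node (.leaf 0x10c01) (.leaf 0x10c02))))) (.node (.node (.node (.node (.leaf 0x10c06) (.leaf 0x10d00)) (.node (.leaf 0x10d01) (.leaf 0x10d02))) (.node (.node (.leaf 0x10d03) (.leaf 0x10e01)) (.node (.leaf 0x10e02) (.leaf 0x10e03)))) (.node (.node (.node (.leaf 0x10e04) (.leaf 0x10e05)) (.node (.leaf 0x10f00) (.leaf 0x10f03))) (.node (.node (.leaf 0x10f04) (.leaf 0x10f05)) (.node (.leaf 0x11000) (.leaf 0x11001)))))) (.node (.node (.node (.node (.node (.leaf 0x11002) (.leaf 0x11003)) (.node (.leaf 0x11005) (.leaf 0x11100))) (.node (.node (.leaf 0x11101) (.leaf 0x11102)) (.node (.leaf 0x11103) (.leaf 0x11104)))) (.node (.node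 (.node (.leaf 0x11201) (.leaf 0x11202)) (.node (.leaf 0x11203) (.leaf 0x11204))) (.node (.node (.leaf 0x11205) (.leaf 0x11304)) (.node (.leaf 0x11305) (.leaf 0x11306))))) (.node (.node (.node (.node (.leaf 0x11404) (.leaf 0x11405)) (.node (.leaf 0x11406) (.leaf 0x11500))) (.node (.node (.leaf 0x11501) (.leaf 0x11506)) (.node (.leaf 0x11600) (.leaf 0x11601)))) (.node (.node (.node (.leaf 0x11606) (.leaf 0x11700)) (.node (.leaf 0x11701) (.leaf 0x11704))) (.node (.node (.leaf 0x11705) (.leaf 0x11803)) (.node (.leaf 0x11806) (.leaf 0x11906))))))) (.node (.node (.node (.node (.node (.node (.leaf 0x11a01) (.leaf 0x11a06)) (.node (.leaf 0x11b06) (.leaf 0x11c00))) (.node (.node (.leaf 0x11c01) (.leaf 0x11c02)) (.node (.leaf 0x11c03) (.leaf 0x11d03)))) (.node (.node (.node (.leaf 0x11d06) (.leaf 0x11e06)) (.node (.leaf 0x11f06) (.leaf 0x12001))) (.node (.node (.leaf 0x12006) (.leaf 0x12100)) (.node (.leaf 0x12101) (.leaf 0x12102))))) (.node (.node (.node (.node (.leaf 0x12103) (.leaf 0x12201)) (.node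 (.leaf 0x12202) (.leaf 0x12203))) (.node (.node (.leaf 0x12204) (.leaf 0x12205)) (.node (.leaf 0x12300) (.leaf 0x12302)))) (.node (.node (.node (.leaf 0x12304) (.leaf 0x12305)) (.node (.leaf 0x12400) (.leaf 0x12401))) (.node (.node (.leaf 0x12402) (.leaf 0x12403)) (.node (.leaf 0x12405) (.leaf 0x12500)))))) (.node (.node (.node (.node (.node (.leaf 0x12501) (.leaf 0x12502)) (.node (.leaf 0x12503) (.leaf 0x12504))) (.node (.node (.leaf 0x12601) (.leaf 0x12602)) (.node (.leaf 0x12603) (.leaf 0x12604)))) (.node (.node (.node (.leaf 0x12605) (.leaf 0x12704)) (.node (.leaf 0x12706) (.leaf 0x12806))) (.node (.node (.leaf 0x12901) (.leaf 0x12906)) (.node (.leaf 0x12a06) (.leaf 0x12b00))))) (.node (.node (.node (.node (.leaf 0x12b01) (.leaf 0x12b04)) (.node (.leaf 0x12b05) (.leaf 0x12c04))) (.node (.node (.leaf 0x12c06) (.leaf 0x12d06)) (.node (.leaf 0x12e06) (.leaf 0x12f01)))) (.node (.node (.node (.leaf 0x12f06) (.leaf 0x13000)) (.node (.leaf 0x13001) (.leaf 0x13004))) (.node (.node (.leaf 0x13005)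 (.leaf 0x13106)) (.node (.leaf 0x13206) (.leaf 0x13306))))))))

def repsP8 : BT := (.node (.node (.node (.node (.node (.node (.node (.leaf 0x13406) (.leaf 0x13500)) (.node (.leaf 0x13501) (.leaf 0x13502))) (.node (.node (.leaf 0x13503) (.leaf 0x13601)) (.node (.leaf 0x13602) (.leaf 0x13603)))) (.node (.node (.node (.leaf 0x13604) (.leaf 0x13605)) (.node (.leaf 0x13700) (.leaf 0x13702))) (.node (.node (.leaf 0x13703) (.leaf 0x13705)) (.node (.leaf 0x13800) (.leaf 0x13801))))) (.node (.node (.node (.node (.leaf 0x13803) (.leaf 0x13804)) (.node (.leaf 0x13805) (.leaf 0x13900))) (.node (.node (.leaf 0x13901) (.leaf 0x13902)) (.node (.leaf 0x13904) (.leaf 0x13905)))) (.node (.node (.node (.leaf 0x13a01) (.leaf 0x13a02)) (.node (.leaf 0x13a03) (.leaf 0x13a04))) (.node (.node (.leaf 0x13a05) (.leaf 0x13b05)) (.node (.leaf 0x13b06) (.leaf 0x13c06)))))) (.node (.node (.node (.node (.node (.leaf 0x13d01) (.leaf 0x13d06)) (.node (.leaf 0x13e06) (.leaf 0x13f00))) (.node (.node (.leaf 0x13f01) (.leaf 0x13f04))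 (.node (.leaf 0x13f05) (.leaf 0x14005)))) (.node (.node (.node (.leaf 0x14006) (.leaf 0x14106)) (.node (.leaf 0x14206) (.leaf 0x14301))) (.node (.node (.leaf 0x14306) (.leaf 0x14400)) (.node (.leaf 0x14401) (.leaf 0x14404))))) (.node (.node (.node (.node (.leaf 0x14405) (.leaf 0x14506)) (.node (.leaf 0x14606) (.leaf 0x14706))) (.node (.node (.leaf 0x14806) (.leaf 0x14900)) (.node (.leaf 0x14901) (.leaf 0x14902)))) (.node (.node (.node (.leaf 0x14903) (.leaf 0x14a01)) (.node (.leaf 0x14a02) (.leaf 0x14a03))) (.node (.node (.leaf 0x14a04) (.leaf 0x14a05)) (.node (.leaf 0x14b00) (.leaf 0x14b02))))))) (.node (.node (.node (.node (.node (.node (.leaf 0x14b03) (.leaf 0x14b04)) (.node (.leaf 0x14c00) (.leaf 0x14c01))) (.node (.node (.leaf 0x14c03) (.leaf 0x14c04)) (.node (.leaf 0x14c05) (.leaf 0x14d00)))) (.node (.node (.node (.leaf 0x14d01) (.leaf 0x14d02)) (.node (.leaf 0x14d04) (.leaf 0x14d05))) (.node (.node (.leaf 0x14e01) (.leaf 0x14e02)) (.node (.leaf 0x14e03) (.leaf 0x14e04))))) (.node (.node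 (.node (.node (.leaf 0x14e05) (.leaf 0x14f04)) (.node (.leaf 0x14f05) (.leaf 0x14f06))) (.node (.node (.leaf 0x15004) (.leaf 0x15005)) (.node (.leaf 0x15101) (.leaf 0x15104)))) (.node (.node (.node (.leaf 0x15105) (.leaf 0x15200)) (.node (.leaf 0x15201) (.leaf 0x15204))) (.node (.node (.leaf 0x15205) (.leaf 0x15206)) (.node (.leaf 0x15300) (.leaf 0x15301)))))) (.node (.node (.node (.node (.node (.leaf 0x15305) (.leaf 0x15306)) (.node (.leaf 0x15400) (.leaf 0x15401))) (.node (.node (.leaf 0x15404) (.leaf 0x15406)) (.node (.leaf 0x15504) (.leaf 0x15505)))) (.node (.node (.node (.leaf 0x15506) (.leaf 0x15604)) (.node (.leaf 0x15605) (.leaf 0x15700))) (.node (.node (.leaf 0x15701) (.leaf 0x15704)) (.node (.leaf 0x15705) (.leaf 0x15706))))) (.node (.node (.node (.node (.leaf 0x15801) (.leaf 0x15804)) (.node (.leaf 0x15805) (.leaf 0x15900))) (.node (.node (.leaf 0x15901) (.leaf 0x15905)) (.node (.leaf 0x15906) (.leaf 0x15a00)))) (.node (.node (.node (.leaf 0x15a01) (.leaf 0x15a04)) (.node (.leaf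 0x15a06) (.leaf 0x15b02))) (.node (.node (.leaf 0x15b03) (.leaf 0x15b06)) (.node (.leaf 0x15c02) (.leaf 0x15c03))))))))

def repsP9 : BT := (.node (.node (.node (.node (.node (.node (.node (.leaf 0x15d00) (.leaf 0x15d01)) (.node (.leaf 0x15d03) (.leaf 0x15d06))) (.node (.node (.leaf 0x15e00) (.leaf 0x15e01)) (.node (.leaf 0x15e02) (.leaf 0x15e06)))) (.node (.node (.node (.leaf 0x15f01) (.leaf 0x15f02)) (.node (.leaf 0x15f03) (.leaf 0x16000))) (.node (.node (.leaf 0x16001) (.leaf 0x16002)) (.node (.leaf 0x16003) (.leaf 0x16006))))) (.node (.node (.node (.node (.leaf 0x16102) (.leaf 0x16103)) (.node (.leaf 0x16106) (.leaf 0x16202))) (.node (.node (.leaf 0x16203) (.leaf 0x16300)) (.node (.leaf 0x16301) (.leaf 0x16303)))) (.node (.node (.node (.leaf 0x16306) (.leaf 0x16400)) (.node (.leaf 0x16401) (.leaf 0x16402))) (.node (.node (.leaf 0x16406) (.leaf 0x16500)) (.node (.leaf 0x16501) (.leaf 0x16502)))))) (.node (.node (.node (.node (.node (.leaf 0x16503) (.leaf 0x16506)) (.node (.leaf 0x16601)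 (.leaf 0x16602))) (.node (.node (.leaf 0x16603) (.leaf 0x16706)) (.node (.leaf 0x16806) (.leaf 0x16902)))) (.node (.node (.node (.leaf 0x16906) (.leaf 0x16a00)) (.node (.leaf 0x16a01) (.leaf 0x16a02))) (.node (.node (.leaf 0x16b06) (.leaf 0x16c06)) (.node (.leaf 0x16d02) (.leaf 0x16d06))))) (.node (.node (.node (.node (.leaf 0x16e00) (.leaf 0x16e01)) (.node (.leaf 0x16e02) (.leaf 0x16f01))) (.node (.node (.leaf 0x16f03) (.leaf 0x16f04)) (.node (.leaf 0x16f05) (.leaf 0x17000)))) (.node (.node (.node (.leaf 0x17003) (.leaf 0x17004)) (.node (.leaf 0x17005) (.leaf 0x17100))) (.node (.node (.leaf 0x17101) (.leaf 0x17102)) (.node (.leaf 0x17200) (.leaf 0x17201))))))) (.node (.node (.node (.node (.node (.node (.leaf 0x17202) (.leaf 0x17302)) (.node (.leaf 0x17303) (.leaf 0x17304))) (.node (.node (.leaf 0x17305) (.leaf 0x17406)) (.node (.leaf 0x17506) (.leaf 0x17606)))) (.node (.node (.node (.leaf 0x17700) (.leaf 0x17701)) (.node (.leaf 0x17703) (.leaf 0x17806))) (.node (.node (.leaf 0x17906) (.leaf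 0x17a06)) (.node (.leaf 0x17b00) (.leaf 0x17b01))))) (.node (.node (.node (.node (.leaf 0x17b03) (.leaf 0x17c01)) (.node (.leaf 0x17c02) (.leaf 0x17c04))) (.node (.node (.leaf 0x17c05) (.leaf 0x17d00)) (.node (.leaf 0x17d02) (.leaf 0x17d04)))) (.node (.node (.node (.leaf 0x17d05) (.leaf 0x17e00)) (.node (.leaf 0x17e01) (.leaf 0x17e03))) (.node (.node (.leaf 0x17f00) (.leaf 0x17f01)) (.node (.leaf 0x17f03) (.leaf 0x18002)))))) (.node (.node (.node (.node (.node (.leaf 0x18003) (.leaf 0x18004)) (.node (.leaf 0x18005) (.leaf 0x18106))) (.node (.node (.leaf 0x18206) (.leaf 0x18306)) (.node (.leaf 0x18400) (.leaf 0x18401)))) (.node (.node (.node (.leaf 0x18404) (.leaf 0x18506)) (.node (.leaf 0x18606) (.leaf 0x18706))) (.node (.node (.leaf 0x18800) (.leaf 0x18801)) (.node (.leaf 0x18804) (.leaf 0x18901))))) (.node (.node (.node (.node (.leaf 0x18902) (.leaf 0x18903)) (.node (.leaf 0x18905) (.leaf 0x18a00))) (.node (.node (.leaf 0x18a02) (.leaf 0x18a03)) (.node (.leaf 0x18a05) (.leaf 0x18b00))))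 (.node (.node (.node (.leaf 0x18b01) (.leaf 0x18b04)) (.node (.leaf 0x18c00) (.leaf 0x18c01))) (.node (.node (.leaf 0x18c04) (.leaf 0x18d02)) (.node (.leaf 0x18d03) (.leaf 0x18d04))))))))

def repsP10 : BT := (.node (.node (.node (.node (.node (.node (.node (.leaf 0x18d05) (.leaf 0x18e06)) (.node (.leaf 0x18f06) (.leaf 0x19006))) (.node (.node (.leaf 0x19100) (.leaf 0x19101)) (.node (.leaf 0x19105) (.leaf 0x19206)))) (.node (.node (.node (.leaf 0x19306) (.leaf 0x19406)) (.node (.leaf 0x19500) (.leaf 0x19501))) (.node (.node (.leaf 0x19505) (.leaf 0x19601)) (.node (.leaf 0x19602) (.leaf 0x19603))))) (.node (.node (.node (.node (.leaf 0x19604) (.leaf 0x19700)) (.node (.leaf 0x19702) (.leaf 0x19703))) (.node (.node (.leaf 0x19704) (.leaf 0x19800)) (.node (.leaf 0x19801) (.leaf 0x19805)))) (.node (.node (.node (.leaf 0x19900) (.leaf 0x19901)) (.node (.leaf 0x19905) (.leaf 0x19a02))) (.node (.node (.leaf 0x19a03) (.leaf 0x19a04)) (.node (.leaf 0x19a05) (.leaf 0x19b04)))))) (.node (.node (.node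 (.node (.node (.leaf 0x19b05) (.leaf 0x19c04)) (.node (.leaf 0x19c05) (.leaf 0x19d04))) (.node (.node (.leaf 0x19d05) (.leaf 0x19e00)) (.node (.leaf 0x19e01) (.leaf 0x19e06)))) (.node (.node (.node (.leaf 0x19f00) (.leaf 0x19f01)) (.node (.leaf 0x19f06) (.leaf 0x1a000))) (.node (.node (.leaf 0x1a001) (.leaf 0x1a006)) (.node (.leaf 0x1a104) (.leaf 0x1a105))))) (.node (.node (.node (.node (.leaf 0x1a204) (.leaf 0x1a205)) (.node (.leaf 0x1a300) (.leaf 0x1a301))) (.node (.node (.leaf 0x1a306) (.leaf 0x1a404)) (.node (.leaf 0x1a405) (.leaf 0x1a500)))) (.node (.node (.node (.leaf 0x1a501) (.leaf 0x1a506)) (.node (.leaf 0x1a600) (.leaf 0x1a601))) (.node (.node (.leaf 0x1a606) (.leaf 0x1a702)) (.node (.leaf 0x1a703) (.leaf 0x1a802))))))) (.node (.node (.node (.node (.node (.node (.leaf 0x1a803) (.leaf 0x1a900)) (.node (.leaf 0x1a901) (.leaf 0x1a906))) (.node (.node (.leaf 0x1aa00) (.leaf 0x1aa01)) (.node (.leaf 0x1aa06) (.leaf 0x1ab02)))) (.node (.node (.node (.leaf 0x1ab03) (.leaf 0x1ac00)) (.node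 (.leaf 0x1ac01) (.leaf 0x1ac06))) (.node (.node (.leaf 0x1ad02) (.leaf 0x1ad03)) (.node (.leaf 0x1ae02) (.leaf 0x1ae03))))) (.node (.node (.node (.node (.leaf 0x1af00) (.leaf 0x1af01)) (.node (.leaf 0x1af06) (.leaf 0x1b000))) (.node (.node (.leaf 0x1b001) (.leaf 0x1b006)) (.node (.leaf 0x1b100) (.leaf 0x1b101)))) (.node (.node (.node (.leaf 0x1b106) (.leaf 0x1b202)) (.node (.leaf 0x1b203) (.leaf 0x1b306))) (.node (.node (.leaf 0x1b404) (.leaf 0x1b405)) (.node (.leaf 0x1b506) (.leaf 0x1b603)))))) (.node (.node (.node (.node (.node (.leaf 0x1b700) (.leaf 0x1b701)) (.node (.leaf 0x1b702) (.leaf 0x1b800))) (.node (.node (.leaf 0x1b801) (.leaf 0x1b802)) (.node (.leaf 0x1b900) (.leaf 0x1b901)))) (.node (.node (.node (.leaf 0x1b904) (.leaf 0x1b905)) (.node (.leaf 0x1ba00) (.leaf 0x1ba01))) (.node (.node (.leaf 0x1ba02) (.leaf 0x1ba03)) (.node (.leaf 0x1ba05) (.leaf 0x1bb00))))) (.node (.node (.node (.node (.leaf 0x1bb01) (.leaf 0x1bb02)) (.node (.leaf 0x1bb03) (.leaf 0x1bb04))) (.node (.node (.leaf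 0x1bc06) (.leaf 0x1bd03)) (.node (.leaf 0x1be06) (.leaf 0x1bf04)))) (.node (.node (.node (.leaf 0x1bf05) (.leaf 0x1c000)) (.node (.leaf 0x1c001) (.leaf 0x1c002))) (.node (.node (.leaf 0x1c100) (.leaf 0x1c101)) (.node (.leaf 0x1c102) (.leaf 0x1c200))))))))

def repsP11 : BT := (.node (.node (.node (.node (.node (.node (.node (.leaf 0x1c201) (.leaf 0x1c204)) (.node (.leaf 0x1c205) (.leaf 0x1c300))) (.node (.node (.leaf 0x1c301) (.leaf 0x1c302)) (.node (.leaf 0x1c303) (.leaf 0x1c305)))) (.node (.node (.node (.leaf 0x1c400) (.leaf 0x1c401)) (.node (.leaf 0x1c402) (.leaf 0x1c403))) (.node (.node (.leaf 0x1c404) (.leaf 0x1c506)) (.node (.leaf 0x1c606) (.leaf 0x1c703))))) (.node (.node (.node (.node (.leaf 0x1c806) (.leaf 0x1c906)) (.node (.leaf 0x1ca03) (.leaf 0x1cb00))) (.node (.node (.leaf 0x1cb01) (.leaf 0x1cb02)) (.node (.leaf 0x1cc00) (.leaf 0x1cc01)))) (.node (.node (.node (.leaf 0x1cc02) (.leaf 0x1cd00)) (.node (.leaf 0x1cd01) (.leaf 0x1cd04))) (.node (.node (.leaf 0x1cd05) (.leaf 0x1ce00))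 (.node (.leaf 0x1ce01) (.leaf 0x1ce02)))))) (.node (.node (.node (.node (.node (.leaf 0x1ce03) (.leaf 0x1ce05)) (.node (.leaf 0x1cf00) (.leaf 0x1cf01))) (.node (.node (.leaf 0x1cf02) (.leaf 0x1cf03)) (.node (.leaf 0x1cf04) (.leaf 0x1d206)))) (.node (.node (.node (.leaf 0x1d306) (.leaf 0x1d400)) (.node (.leaf 0x1d401) (.leaf 0x1d506))) (.node (.node (.leaf 0x1d606) (.leaf 0x1d700)) (.node (.leaf 0x1d701) (.leaf 0x1d800))))) (.node (.node (.node (.node (.leaf 0x1d801) (.leaf 0x1d802)) (.node (.leaf 0x1d803) (.leaf 0x1d900))) (.node (.node (.leaf 0x1d901) (.leaf 0x1d902)) (.node (.leaf 0x1d903) (.leaf 0x1da00)))) (.node (.node (.node (.leaf 0x1da01) (.leaf 0x1da02)) (.node (.leaf 0x1da03) (.leaf 0x1da04))) (.node (.node (.leaf 0x1da05) (.leaf 0x1db00)) (.node (.leaf 0x1db01) (.leaf 0x1db02))))))) (.node (.node (.node (.node (.node (.node (.leaf 0x1db03) (.leaf 0x1db04)) (.node (.leaf 0x1db05) (.leaf 0x1dc06))) (.node (.node (.leaf 0x1dd06) (.leaf 0x1de06)) (.node (.leaf 0x1df03) (.leaf 0x1df05))))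 (.node (.node (.node (.leaf 0x1e006) (.leaf 0x1e106)) (.node (.leaf 0x1e206) (.leaf 0x1e303))) (.node (.node (.leaf 0x1e305) (.leaf 0x1e406)) (.node (.leaf 0x1e506) (.leaf 0x1e606))))) (.node (.node (.node (.node (.leaf 0x1e806) (.leaf 0x1e906)) (.node (.leaf 0x1ea00) (.leaf 0x1ea01))) (.node (.node (.leaf 0x1eb00) (.leaf 0x1eb01)) (.node (.leaf 0x1eb02) (.leaf 0x1eb03)))) (.node (.node (.node (.leaf 0x1eb04) (.leaf 0x1eb05)) (.node (.leaf 0x1ec00) (.leaf 0x1ec01))) (.node (.node (.leaf 0x1ec02) (.leaf 0x1ec03)) (.node (.leaf 0x1ec04) (.leaf 0x1ec05)))))) (.node (.node (.node (.node (.node (.leaf 0x1ed00) (.leaf 0x1ed01)) (.node (.leaf 0x1ed02) (.leaf 0x1ed03))) (.node (.node (.leaf 0x1ed04) (.leaf 0x1ed05)) (.node (.leaf 0x1ee00) (.leaf 0x1ee01)))) (.node (.node (.node (.leaf 0x1ee02) (.leaf 0x1ee03)) (.node (.leaf 0x1ee04) (.leaf 0x1ee05))) (.node (.node (.leaf 0x1ef00) (.leaf 0x1ef01)) (.node (.leaf 0x1ef03) (.leaf 0x1ef04))))) (.node (.node (.node (.node (.leaf 0x1ef05) (.leaf 0x1f006))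 (.node (.leaf 0x1f106) (.leaf 0x1f206))) (.node (.node (.leaf 0x1f303) (.leaf 0x1f304)) (.node (.leaf 0x1f406) (.leaf 0x1f506)))) (.node (.node (.node (.leaf 0x1f606) (.leaf 0x1f703)) (.node (.leaf 0x1f704) (.leaf 0x1f806))) (.node (.node (.leaf 0x1f906) (.leaf 0x1fa00)) (.node (.leaf 0x1fa01) (.leaf 0x1fb06))))))))

def repsP12 : BT := (.node (.node (.node (.node (.node (.node (.node (.leaf 0x1fc06) (.leaf 0x1fd06)) (.node (.leaf 0x1ff00) (.leaf 0x1ff01))) (.node (.node (.leaf 0x1ff02) (.leaf 0x1ff03)) (.node (.leaf 0x1ff04) (.leaf 0x1ff05)))) (.node (.node (.node (.leaf 0x20000) (.leaf 0x20001)) (.node (.leaf 0x20002) (.leaf 0x20003))) (.node (.node (.leaf 0x20004) (.leaf 0x20005)) (.node (.leaf 0x20100) (.leaf 0x20101))))) (.node (.node (.node (.node (.leaf 0x20102) (.leaf 0x20103)) (.node (.leaf 0x20104) (.leaf 0x20105))) (.node (.node (.leaf 0x20200) (.leaf 0x20201)) (.node (.leaf 0x20202) (.leaf 0x20203)))) (.node (.node (.node (.leaf 0x20204) (.leaf 0x20205)) (.node (.leaf 0x20300)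 (.leaf 0x20301))) (.node (.node (.leaf 0x20303) (.leaf 0x20304)) (.node (.leaf 0x20305) (.leaf 0x20403)))))) (.node (.node (.node (.node (.node (.leaf 0x20404) (.leaf 0x20405)) (.node (.leaf 0x20503) (.leaf 0x20504))) (.node (.node (.leaf 0x20505) (.leaf 0x20604)) (.node (.leaf 0x20605) (.leaf 0x20704)))) (.node (.node (.node (.leaf 0x20705) (.leaf 0x20803)) (.node (.leaf 0x20805) (.leaf 0x20903))) (.node (.node (.leaf 0x20904) (.leaf 0x20a03)) (.node (.leaf 0x20a04) (.leaf 0x20a05))))) (.node (.node (.node (.node (.leaf 0x20b03) (.leaf 0x20b04)) (.node (.leaf 0x20b05) (.leaf 0x20c04))) (.node (.node (.leaf 0x20c05) (.leaf 0x20d04)) (.node (.leaf 0x20d05) (.leaf 0x20e03)))) (.node (.node (.node (.leaf 0x20e05) (.leaf 0x20f03)) (.node (.leaf 0x20f04) (.leaf 0x21001))) (.node (.node (.leaf 0x21002) (.leaf 0x21006)) (.node (.leaf 0x21100) (.leaf 0x21102))))))) (.node (.node (.node (.node (.node (.node (.leaf 0x21106) (.leaf 0x21200)) (.node (.leaf 0x21201) (.leaf 0x21206))) (.node (.node (.leaf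 0x21300) (.leaf 0x21301)) (.node (.leaf 0x21400) (.leaf 0x21401)))) (.node (.node (.node (.leaf 0x21500) (.leaf 0x21501)) (.node (.leaf 0x21601) (.leaf 0x21602))) (.node (.node (.leaf 0x21606) (.leaf 0x21700)) (.node (.leaf 0x21702) (.leaf 0x21706))))) (.node (.node (.node (.node (.leaf 0x21800) (.leaf 0x21801)) (.node (.leaf 0x21806) (.leaf 0x21900))) (.node (.node (.leaf 0x21901) (.leaf 0x21a00)) (.node (.leaf 0x21a01) (.leaf 0x21b00)))) (.node (.node (.node (.leaf 0x21b01) (.leaf 0x22204)) (.node (.leaf 0x22205) (.leaf 0x22400))) (.node (.node (.leaf 0x22500) (.leaf 0x22600)) (.node (.leaf 0x22602) (.leaf 0x22603)))))) (.node (.node (.node (.node (.node (.leaf 0x22605) (.leaf 0x22700)) (.node (.leaf 0x22702) (.leaf 0x22703))) (.node (.node (.leaf 0x22704) (.leaf 0x22904)) (.node (.leaf 0x22905) (.leaf 0x22a01)))) (.node (.node (.node (.leaf 0x22b01) (.leaf 0x22c01)) (.node (.leaf 0x22c02) (.leaf 0x22c03))) (.node (.node (.leaf 0x22c05) (.leaf 0x22d01)) (.node (.leaf 0x22d02) (.leaf 0x22d03)))))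 (.node (.node (.node (.node (.leaf 0x22d04) (.leaf 0x22e06)) (.node (.leaf 0x22f06) (.leaf 0x23106))) (.node (.node (.leaf 0x23206) (.leaf 0x23400)) (.node (.leaf 0x23401) (.leaf 0x23500)))) (.node (.node (.node (.leaf 0x23501) (.leaf 0x23600)) (.node (.leaf 0x23601) (.leaf 0x23602))) (.node (.node (.leaf 0x23603) (.leaf 0x23605)) (.node (.leaf 0x23700) (.leaf 0x23701))))))))

def repsP13 : BT := (.node (.node (.node (.node (.node (.node (.node (.leaf 0x23702) (.leaf 0x23703)) (.node (.leaf 0x23704) (.leaf 0x23806))) (.node (.node (.leaf 0x23906) (.leaf 0x23a02)) (.node (.leaf 0x23b06) (.leaf 0x23c06)))) (.node (.node (.node (.leaf 0x23d02) (.leaf 0x23e06)) (.node (.leaf 0x23f06) (.leaf 0x24100))) (.node (.node (.leaf 0x24101) (.leaf 0x24200)) (.node (.leaf 0x24201) (.leaf 0x24202))))) (.node (.node (.node (.node (.leaf 0x24204) (.leaf 0x24300)) (.node (.leaf 0x24301) (.leaf 0x24302))) (.node (.node (.leaf 0x24304) (.leaf 0x24400)) (.node (.leaf 0x24401) (.leaf 0x24402)))) (.node (.node (.node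 (.leaf 0x24403) (.leaf 0x24404)) (.node (.leaf 0x24405) (.leaf 0x24500))) (.node (.node (.leaf 0x24501) (.leaf 0x24502)) (.node (.leaf 0x24503) (.leaf 0x24504)))))) (.node (.node (.node (.node (.node (.leaf 0x24505) (.leaf 0x24600)) (.node (.leaf 0x24601) (.leaf 0x24602))) (.node (.node (.leaf 0x24604) (.leaf 0x24605)) (.node (.leaf 0x24706) (.leaf 0x24806)))) (.node (.node (.node (.leaf 0x24902) (.leaf 0x24a06)) (.node (.leaf 0x24b06) (.leaf 0x24c02))) (.node (.node (.leaf 0x24d00) (.leaf 0x24d01)) (.node (.leaf 0x24e06) (.leaf 0x24f06))))) (.node (.node (.node (.node (.leaf 0x25100) (.leaf 0x25101)) (.node (.leaf 0x25102) (.leaf 0x25105))) (.node (.node (.leaf 0x25200) (.leaf 0x25201)) (.node (.leaf 0x25202) (.leaf 0x25205)))) (.node (.node (.node (.leaf 0x25300) (.leaf 0x25301)) (.node (.leaf 0x25302) (.leaf 0x25303))) (.node (.node (.leaf 0x25304) (.leaf 0x25305)) (.node (.leaf 0x25400) (.leaf 0x25401))))))) (.node (.node (.node (.node (.node (.node (.leaf 0x25402) (.leaf 0x25403)) (.node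 (.leaf 0x25404) (.leaf 0x25405))) (.node (.node (.leaf 0x25500) (.leaf 0x25501)) (.node (.leaf 0x25502) (.leaf 0x25504)))) (.node (.node (.node (.leaf 0x25505) (.leaf 0x25602)) (.node (.leaf 0x25604) (.leaf 0x25605))) (.node (.node (.leaf 0x25702) (.leaf 0x25904)) (.node (.leaf 0x25905) (.leaf 0x25a02))))) (.node (.node (.node (.node (.leaf 0x25a05) (.leaf 0x25b02)) (.node (.leaf 0x25b04) (.leaf 0x25c02))) (.node (.node (.leaf 0x25d02) (.leaf 0x25d04)) (.node (.leaf 0x25d05) (.leaf 0x25f04)))) (.node (.node (.node (.leaf 0x25f05) (.leaf 0x26002)) (.node (.leaf 0x26005) (.leaf 0x26102))) (.node (.node (.leaf 0x26104) (.leaf 0x26201)) (.node (.leaf 0x26206) (.leaf 0x26300)))))) (.node (.node (.node (.node (.node (.leaf 0x26306) (.leaf 0x26400)) (.node (.leaf 0x26401) (.leaf 0x26500))) (.node (.node (.leaf 0x26501) (.leaf 0x26506)) (.node (.leaf 0x26600) (.leaf 0x26601)))) (.node (.node (.node (.leaf 0x26801) (.leaf 0x26806)) (.node (.leaf 0x26900) (.leaf 0x26906))) (.node (.node (.leaf 0x26a00)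 (.leaf 0x26a01)) (.node (.leaf 0x26b00) (.leaf 0x26b01))))) (.node (.node (.node (.node (.leaf 0x26b06) (.leaf 0x26d00)) (.node (.leaf 0x26d01) (.leaf 0x27402))) (.node (.node (.leaf 0x27403) (.leaf 0x27600)) (.node (.leaf 0x27601) (.leaf 0x27700)))) (.node (.node (.node (.leaf 0x27701) (.leaf 0x27800)) (.node (.leaf 0x27801) (.leaf 0x27803))) (.node (.node (.leaf 0x27804) (.leaf 0x27805)) (.node (.leaf 0x27900) (.leaf 0x27901))))))))

def repsP14 : BT := (.node (.node (.node (.node (.node (.node (.node (.leaf 0x27902) (.leaf 0x27904)) (.node (.leaf 0x27905) (.leaf 0x27a00))) (.node (.node (.leaf 0x27a01) (.leaf 0x27a02)) (.node (.leaf 0x27a03) (.leaf 0x27c02)))) (.node (.node (.node (.leaf 0x27c03) (.leaf 0x27d00)) (.node (.leaf 0x27d01) (.leaf 0x27e00))) (.node (.node (.leaf 0x27e01) (.leaf 0x27f00)) (.node (.leaf 0x27f01) (.leaf 0x27f03))))) (.node (.node (.node (.node (.leaf 0x27f04) (.leaf 0x27f05)) (.node (.leaf 0x28000) (.leaf 0x28001))) (.node (.node (.leaf 0x28002) (.leaf 0x28004))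 (.node (.leaf 0x28005) (.leaf 0x28100)))) (.node (.node (.node (.leaf 0x28101) (.leaf 0x28102)) (.node (.leaf 0x28103) (.leaf 0x28206))) (.node (.node (.leaf 0x28303) (.leaf 0x28406)) (.node (.leaf 0x28503) (.leaf 0x28606)))))) (.node (.node (.node (.node (.node (.leaf 0x28706) (.leaf 0x28900)) (.node (.leaf 0x28901) (.leaf 0x28902))) (.node (.node (.leaf 0x28903) (.leaf 0x28904)) (.node (.leaf 0x28905) (.leaf 0x28a00)))) (.node (.node (.node (.leaf 0x28a01) (.leaf 0x28a02)) (.node (.leaf 0x28a03) (.leaf 0x28a04))) (.node (.node (.leaf 0x28a05) (.leaf 0x28b00)) (.node (.leaf 0x28b01) (.leaf 0x28b03))))) (.node (.node (.node (.node (.leaf 0x28b04) (.leaf 0x28b05)) (.node (.leaf 0x28c06) (.leaf 0x28d02))) (.node (.node (.leaf 0x28e06) (.leaf 0x28f02)) (.node (.leaf 0x29006) (.leaf 0x29106)))) (.node (.node (.node (.leaf 0x29300) (.leaf 0x29301)) (.node (.leaf 0x29302) (.leaf 0x29303))) (.node (.node (.leaf 0x29304) (.leaf 0x29305)) (.node (.leaf 0x29400) (.leaf 0x29401))))))) (.node (.node (.node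 (.node (.node (.node (.leaf 0x29402) (.leaf 0x29403)) (.node (.leaf 0x29404) (.leaf 0x29405))) (.node (.node (.leaf 0x29500) (.leaf 0x29501)) (.node (.leaf 0x29502) (.leaf 0x29504)))) (.node (.node (.node (.leaf 0x29505) (.leaf 0x29a00)) (.node (.leaf 0x29a01) (.leaf 0x29a02))) (.node (.node (.leaf 0x29a03) (.leaf 0x29f00)) (.node (.leaf 0x29f01) (.leaf 0x29f04))))) (.node (.node (.node (.node (.leaf 0x29f05) (.leaf 0x2a000)) (.node (.leaf 0x2a001) (.leaf 0x2a004))) (.node (.node (.leaf 0x2a005) (.leaf 0x2a102)) (.node (.leaf 0x2a103) (.leaf 0x2a104)))) (.node (.node (.node (.leaf 0x2a105) (.leaf 0x2a202)) (.node (.leaf 0x2a203) (.leaf 0x2a204))) (.node (.node (.leaf 0x2a205) (.leaf 0x2a302)) (.node (.leaf 0x2a303) (.leaf 0x2a305)))))) (.node (.node (.node (.node (.node (.leaf 0x2a402) (.leaf 0x2a403)) (.node (.leaf 0x2a503) (.leaf 0x2a505))) (.node (.node (.leaf 0x2a602) (.leaf 0x2a605)) (.node (.leaf 0x2a702) (.leaf 0x2a703)))) (.node (.node (.node (.leaf 0x2a802) (.leaf 0x2a803)) (.node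 (.leaf 0x2a902) (.leaf 0x2a903))) (.node (.node (.leaf 0x2aa02) (.leaf 0x2aa03)) (.node (.leaf 0x2aa05) (.leaf 0x2ab03))))) (.node (.node (.node (.node (.leaf 0x2ab05) (.leaf 0x2ac02)) (.node (.leaf 0x2ac05) (.leaf 0x2ad02))) (.node (.node (.leaf 0x2ad03) (.leaf 0x2ae02)) (.node (.leaf 0x2ae03) (.leaf 0x2af01)))) (.node (.node (.node (.leaf 0x2af06) (.leaf 0x2b000)) (.node (.leaf 0x2b006) (.leaf 0x2b100))) (.node (.node (.leaf 0x2b101) (.leaf 0x2b200)) (.node (.leaf 0x2b201) (.leaf 0x2b300))))))))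

def repsP15 : BT := (.node (.node (.node (.node (.node (.node (.node (.leaf 0x2b301) (.leaf 0x2b400)) (.node (.leaf 0x2b401) (.leaf 0x2b501))) (.node (.node (.leaf 0x2b506) (.leaf 0x2b600)) (.node (.leaf 0x2b606) (.leaf 0x2b700)))) (.node (.node (.node (.leaf 0x2b701) (.leaf 0x2b800)) (.node (.leaf 0x2b801) (.leaf 0x2b900))) (.node (.node (.leaf 0x2b901) (.leaf 0x2ba00)) (.node (.leaf 0x2ba01) (.leaf 0x2c102))))) (.node (.node (.node (.node (.leaf 0x2c103) (.leaf 0x2c300)) (.node (.leaf 0x2c400) (.leaf 0x2c500))) (.node (.node (.leaf 0x2c503) (.leaf 0x2c504)) (.node (.leaf 0x2c505) (.leaf 0x2c600)))) (.node (.node (.node (.leaf 0x2c602) (.leaf 0x2c604)) (.node (.leaf 0x2c605) (.leaf 0x2c802))) (.node (.node (.leaf 0x2c803) (.leaf 0x2c901)) (.node (.leaf 0x2ca01) (.leaf 0x2cb01)))))) (.node (.node (.node (.node (.node (.leaf 0x2cb03) (.leaf 0x2cb04)) (.node (.leaf 0x2cb05) (.leaf 0x2cc01))) (.node (.node (.leaf 0x2cc02) (.leaf 0x2cc04)) (.node (.leaf 0x2cc05) (.leaf 0x2cd06)))) (.node (.node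 (.node (.leaf 0x2cf06) (.leaf 0x2d106)) (.node (.leaf 0x2d206) (.leaf 0x2d400))) (.node (.node (.leaf 0x2d401) (.leaf 0x2d402)) (.node (.leaf 0x2d404) (.leaf 0x2d500))))) (.node (.node (.node (.node (.leaf 0x2d501) (.leaf 0x2d502)) (.node (.leaf 0x2d504) (.leaf 0x2d600))) (.node (.node (.leaf 0x2d601) (.leaf 0x2d603)) (.node (.leaf 0x2d604) (.leaf 0x2d605)))) (.node (.node (.node (.leaf 0x2d706) (.leaf 0x2d906)) (.node (.leaf 0x2db06) (.leaf 0x2dc06))) (.node (.node (.leaf 0x2de00) (.leaf 0x2de01)) (.node (.leaf 0x2de03) (.leaf 0x2de04))))))) (.node (.node (.node (.node (.node (.node (.leaf 0x2df00) (.leaf 0x2df01)) (.node (.leaf 0x2df03) (.leaf 0x2df04))) (.node (.node (.leaf 0x2e000) (.leaf 0x2e001)) (.node (.leaf 0x2e002) (.leaf 0x2e004)))) (.node (.node (.node (.leaf 0x2e005) (.leaf 0x2e502)) (.node (.leaf 0x2e503) (.leaf 0x2e504))) (.node (.node (.leaf 0x2e703) (.leaf 0x2e704)) (.node (.leaf 0x2e802) (.leaf 0x2e804))))) (.node (.node (.node (.node (.leaf 0x2ea02) (.leaf 0x2ea03)) (.node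 (.leaf 0x2ec02) (.leaf 0x2ec03))) (.node (.node (.leaf 0x2ec04) (.leaf 0x2ed03)) (.node (.leaf 0x2ed04) (.leaf 0x2ee02)))) (.node (.node (.node (.leaf 0x2ee04) (.leaf 0x2f002)) (.node (.leaf 0x2f003) (.leaf 0x2f101))) (.node (.node (.leaf 0x2f106) (.leaf 0x2f200)) (.node (.leaf 0x2f206) (.leaf 0x2f300)))))) (.node (.node (.node (.node (.node (.leaf 0x2f301) (.leaf 0x2f500)) (.node (.leaf 0x2f501) (.leaf 0x2f600))) (.node (.node (.leaf 0x2f601) (.leaf 0x2f701)) (.node (.leaf 0x2f706) (.leaf 0x2f800)))) (.node (.node (.node (.leaf 0x2f806) (.leaf 0x2fa00)) (.node (.leaf 0x2fa01) (.leaf 0x2fb00))) (.node (.node (.leaf 0x2fb01) (.leaf 0x2fc00)) (.node (.leaf 0x2fc01) (.leaf 0x30304))))) (.node (.node (.node (.node (.leaf 0x30305) (.leaf 0x30404)) (.node (.leaf 0x30405) (.leaf 0x30502))) (.node (.node (.leaf 0x30503) (.leaf 0x30602)) (.node (.leaf 0x30603) (.leaf 0x30704)))) (.node (.node (.node (.leaf 0x30705) (.leaf 0x30804)) (.node (.leaf 0x30805) (.leaf 0x30902))) (.node (.node (.leaf 0x30903)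 (.leaf 0x30a02)) (.node (.leaf 0x30a03) (.leaf 0x30b00))))))))

def repsP16 : BT := (.node (.node (.node (.node (.node (.node (.node (.leaf 0x30b01) (.leaf 0x30c00)) (.node (.leaf 0x30c01) (.leaf 0x30d00))) (.node (.node (.leaf 0x30d01) (.leaf 0x30e00)) (.node (.leaf 0x30e01) (.leaf 0x30f00)))) (.node (.node (.node (.leaf 0x30f01) (.leaf 0x31000)) (.node (.leaf 0x31001) (.leaf 0x31100))) (.node (.node (.leaf 0x31101) (.leaf 0x31200)) (.node (.leaf 0x31201) (.leaf 0x31304))))) (.node (.node (.node (.node (.leaf 0x31305) (.leaf 0x31404)) (.node (.leaf 0x31405) (.leaf 0x31502))) (.node (.node (.leaf 0x31503) (.leaf 0x31602)) (.node (.leaf 0x31603) (.leaf 0x31704)))) (.node (.node (.node (.leaf 0x31705) (.leaf 0x31804)) (.node (.leaf 0x31805) (.leaf 0x31902))) (.node (.node (.leaf 0x31903) (.leaf 0x31a02)) (.node (.leaf 0x31a03) (.leaf 0x31b00)))))) (.node (.node (.node (.node (.node (.leaf 0x31b01) (.leaf 0x31c00)) (.node (.leaf 0x31c01) (.leaf 0x31d00))) (.node (.node (.leaf 0x31d01) (.leaf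 0x31e00)) (.node (.leaf 0x31e01) (.leaf 0x31f00)))) (.node (.node (.node (.leaf 0x31f01) (.leaf 0x32000)) (.node (.leaf 0x32001) (.leaf 0x32100))) (.node (.node (.leaf 0x32101) (.leaf 0x32200)) (.node (.leaf 0x32201) (.leaf 0x32303))))) (.node (.node (.node (.node (.leaf 0x32403) (.leaf 0x32503)) (.node (.leaf 0x32504) (.leaf 0x32505))) (.node (.node (.leaf 0x32603) (.leaf 0x32703)) (.node (.leaf 0x32803) (.leaf 0x32804)))) (.node (.node (.node (.leaf 0x32805) (.leaf 0x32904)) (.node (.leaf 0x32905) (.leaf 0x32a04))) (.node (.node (.leaf 0x32a05) (.leaf 0x32d04)) (.node (.leaf 0x32d05) (.leaf 0x32e04))))))) (.node (.node (.node (.node (.node (.node (.leaf 0x32e05) (.leaf 0x32f00)) (.node (.leaf 0x32f01) (.leaf 0x33000))) (.node (.node (.leaf 0x33002) (.leaf 0x33003)) (.node (.leaf 0x33101) (.leaf 0x33102)))) (.node (.node (.node (.leaf 0x33103) (.leaf 0x33200)) (.node (.leaf 0x33201) (.leaf 0x33300))) (.node (.node (.leaf 0x33302) (.leaf 0x33303)) (.node (.leaf 0x33401) (.leaf 0x33402)))))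 (.node (.node (.node (.node (.leaf 0x33403) (.leaf 0x33500)) (.node (.leaf 0x33501) (.leaf 0x33602))) (.node (.node (.leaf 0x33702) (.leaf 0x33802)) (.node (.leaf 0x33804) (.leaf 0x33805)))) (.node (.node (.node (.leaf 0x33902) (.leaf 0x33a02)) (.node (.leaf 0x33b02) (.leaf 0x33b04))) (.node (.node (.leaf 0x33b05) (.leaf 0x33c04)) (.node (.leaf 0x33c05) (.leaf 0x33d04)))))) (.node (.node (.node (.node (.node (.leaf 0x33d05) (.leaf 0x33e00)) (.node (.leaf 0x33e01) (.leaf 0x33f04))) (.node (.node (.leaf 0x33f05) (.leaf 0x34004)) (.node (.leaf 0x34005) (.leaf 0x34300)))) (.node (.node (.node (.leaf 0x34302) (.leaf 0x34303)) (.node (.leaf 0x34401) (.leaf 0x34402))) (.node (.node (.leaf 0x34403) (.leaf 0x34500)) (.node (.leaf 0x34501) (.leaf 0x34600))))) (.node (.node (.node (.node (.leaf 0x34602) (.leaf 0x34603)) (.node (.leaf 0x34701) (.leaf 0x34702))) (.node (.node (.leaf 0x34703) (.leaf 0x34800)) (.node (.leaf 0x34801) (.leaf 0x34905)))) (.node (.node (.node (.leaf 0x34a05) (.leaf 0x34b02))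 (.node (.leaf 0x34b03) (.leaf 0x34b05))) (.node (.node (.leaf 0x34c05) (.leaf 0x34d05)) (.node (.leaf 0x34e02) (.leaf 0x34e03))))))))

def repsP17 : BT := (.node (.node (.node (.node (.node (.node (.node (.leaf 0x34e05) (.leaf 0x34f04)) (.node (.leaf 0x34f05) (.leaf 0x35004))) (.node (.node (.leaf 0x35005) (.leaf 0x35100)) (.node (.leaf 0x35101) (.leaf 0x35204)))) (.node (.node (.node (.leaf 0x35205) (.leaf 0x35304)) (.node (.leaf 0x35305) (.leaf 0x35400))) (.node (.node (.leaf 0x35401) (.leaf 0x35902)) (.node (.leaf 0x35903) (.leaf 0x35a02))))) (.node (.node (.node (.node (.leaf 0x35a03) (.leaf 0x35b00)) (.node (.leaf 0x35b01) (.leaf 0x35c04))) (.node (.node (.leaf 0x35d04) (.leaf 0x35e02)) (.node (.leaf 0x35e03) (.leaf 0x35e04)))) (.node (.node (.node (.leaf 0x35f04) (.leaf 0x36004)) (.node (.leaf 0x36102) (.leaf 0x36103))) (.node (.node (.leaf 0x36104) (.leaf 0x36204)) (.node (.leaf 0x36205) (.leaf 0x36304)))))) (.node (.node (.node (.node (.node (.leaf 0x36305) (.leaf 0x36400)) (.node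 (.leaf 0x36401) (.leaf 0x36504))) (.node (.node (.leaf 0x36505) (.leaf 0x36604)) (.node (.leaf 0x36605) (.leaf 0x36700)))) (.node (.node (.node (.leaf 0x36701) (.leaf 0x36802)) (.node (.leaf 0x36803) (.leaf 0x36902))) (.node (.node (.leaf 0x36903) (.leaf 0x36a00)) (.node (.leaf 0x36a01) (.leaf 0x36f06))))) (.node (.node (.node (.node (.leaf 0x37006) (.leaf 0x37206)) (.node (.leaf 0x37306) (.leaf 0x37506))) (.node (.node (.leaf 0x37606) (.leaf 0x37700)) (.node (.leaf 0x37701) (.leaf 0x37806)))) (.node (.node (.node (.leaf 0x37906) (.leaf 0x37a00)) (.node (.leaf 0x37a01) (.leaf 0x37b01))) (.node (.node (.leaf 0x37b02) (.leaf 0x37b04)) (.node (.leaf 0x37b05) (.leaf 0x37c00))))))) (.node (.node (.node (.node (.node (.node (.leaf 0x37c03) (.leaf 0x37c04)) (.node (.leaf 0x37c05) (.leaf 0x37d00))) (.node (.node (.leaf 0x37d01) (.leaf 0x37d02)) (.node (.leaf 0x37d03) (.leaf 0x37d04)))) (.node (.node (.node (.leaf 0x37d05) (.leaf 0x37e00)) (.node (.leaf 0x37e01) (.leaf 0x37e02))) (.node (.node (.leaf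 0x37e03) (.leaf 0x37e04)) (.node (.leaf 0x37e05) (.leaf 0x37f06))))) (.node (.node (.node (.node (.leaf 0x38206) (.leaf 0x38306)) (.node (.leaf 0x38602) (.leaf 0x38701))) (.node (.node (.leaf 0x38702) (.leaf 0x38800)) (.node (.leaf 0x38802) (.leaf 0x38803)))) (.node (.node (.node (.leaf 0x38804) (.leaf 0x38805)) (.node (.leaf 0x38900) (.leaf 0x38901))) (.node (.node (.leaf 0x38902) (.leaf 0x38903)) (.node (.leaf 0x38904) (.leaf 0x38905)))))) (.node (.node (.node (.node (.node (.leaf 0x38a06) (.leaf 0x38e06)) (.node (.leaf 0x38f06) (.leaf 0x39102))) (.node (.node (.leaf 0x39201) (.leaf 0x39202)) (.node (.leaf 0x39300) (.leaf 0x39302)))) (.node (.node (.node (.leaf 0x39303) (.leaf 0x39304)) (.node (.leaf 0x39305) (.leaf 0x39400))) (.node (.node (.leaf 0x39401) (.leaf 0x39402)) (.node (.leaf 0x39403) (.leaf 0x39404))))) (.node (.node (.node (.node (.leaf 0x39405) (.leaf 0x39504)) (.node (.leaf 0x39505) (.leaf 0x39604))) (.node (.node (.leaf 0x39605) (.leaf 0x39704)) (.node (.leaf 0x39705) (.leaf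 0x39805)))) (.node (.node (.node (.leaf 0x39904) (.leaf 0x39c05)) (.node (.leaf 0x39d04) (.leaf 0x39e01))) (.node (.node (.leaf 0x39e02) (.leaf 0x39f00)) (.node (.leaf 0x39f02) (.leaf 0x39f06))))))))

def repsP18 : BT := (.node (.node (.node (.node (.node (.node (.node (.leaf 0x3a000) (.leaf 0x3a006)) (.node (.leaf 0x3a100) (.leaf 0x3a101))) (.node (.node (.leaf 0x3a200) (.leaf 0x3a301)) (.node (.leaf 0x3a302) (.leaf 0x3a400)))) (.node (.node (.node (.leaf 0x3a402) (.leaf 0x3a406)) (.node (.leaf 0x3a500) (.leaf 0x3a506))) (.node (.node (.leaf 0x3a600) (.leaf 0x3a601)) (.node (.leaf 0x3a700) (.leaf 0x3ad06))))) (.node (.node (.node (.node (.leaf 0x3ae06) (.leaf 0x3b006)) (.node (.leaf 0x3b106) (.leaf 0x3b306))) (.node (.node (.leaf 0x3b406) (.leaf 0x3b500)) (.node (.leaf 0x3b501) (.leaf 0x3b606)))) (.node (.node (.node (.leaf 0x3b706) (.leaf 0x3b800)) (.node (.leaf 0x3b801) (.leaf 0x3b901))) (.node (.node (.leaf 0x3b903) (.leaf 0x3b904)) (.node (.leaf 0x3b905) (.leaf 0x3ba00)))))) (.node (.node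 (.node (.node (.node (.leaf 0x3ba02) (.leaf 0x3ba04)) (.node (.leaf 0x3ba05) (.leaf 0x3bb00))) (.node (.node (.leaf 0x3bb01) (.leaf 0x3bb02)) (.node (.leaf 0x3bb03) (.leaf 0x3bb04)))) (.node (.node (.node (.leaf 0x3bb05) (.leaf 0x3bc00)) (.node (.leaf 0x3bc01) (.leaf 0x3bc02))) (.node (.node (.leaf 0x3bc03) (.leaf 0x3bc04)) (.node (.leaf 0x3bc05) (.leaf 0x3bd06))))) (.node (.node (.node (.node (.leaf 0x3c006) (.leaf 0x3c303)) (.node (.leaf 0x3c401) (.leaf 0x3c403))) (.node (.node (.leaf 0x3c500) (.leaf 0x3c502)) (.node (.leaf 0x3c503) (.leaf 0x3c504)))) (.node (.node (.node (.leaf 0x3c505) (.leaf 0x3c600)) (.node (.leaf 0x3c602) (.leaf 0x3c603))) (.node (.node (.leaf 0x3c604) (.leaf 0x3c605)) (.node (.leaf 0x3c706) (.leaf 0x3cb06))))))) (.node (.node (.node (.node (.node (.node (.leaf 0x3cd03) (.leaf 0x3ce01)) (.node (.leaf 0x3ce03) (.leaf 0x3cf00))) (.node (.node (.leaf 0x3cf02) (.leaf 0x3cf03)) (.node (.leaf 0x3cf04) (.leaf 0x3cf05)))) (.node (.node (.node (.leaf 0x3d000) (.leaf 0x3d002))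 (.node (.leaf 0x3d003) (.leaf 0x3d004))) (.node (.node (.leaf 0x3d005) (.leaf 0x3d204)) (.node (.leaf 0x3d205) (.leaf 0x3d304))))) (.node (.node (.node (.node (.leaf 0x3d305) (.leaf 0x3d405)) (.node (.leaf 0x3d504) (.leaf 0x3d805))) (.node (.node (.leaf 0x3d904) (.leaf 0x3da01)) (.node (.leaf 0x3db00) (.leaf 0x3db06)))) (.node (.node (.node (.leaf 0x3dc00) (.leaf 0x3dc01)) (.node (.leaf 0x3dd00) (.leaf 0x3dd06))) (.node (.node (.leaf 0x3de00) (.leaf 0x3df01)) (.node (.leaf 0x3e000) (.leaf 0x3e006)))))) (.node (.node (.node (.node (.node (.leaf 0x3e100) (.leaf 0x3e101)) (.node (.leaf 0x3e200) (.leaf 0x3e206))) (.node (.node (.leaf 0x3e300) (.leaf 0x3e906)) (.node (.leaf 0x3ec06) (.leaf 0x3f001)))) (.node (.node (.node (.leaf 0x3f004) (.leaf 0x3f100)) (.node (.leaf 0x3f103) (.leaf 0x3f104))) (.node (.node (.leaf 0x3f105) (.leaf 0x3f200)) (.node (.leaf 0x3f201) (.leaf 0x3f202))))) (.node (.node (.node (.node (.leaf 0x3f203) (.leaf 0x3f204)) (.node (.leaf 0x3f205) (.leaf 0x3f306))) (.node (.node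 (.leaf 0x3f706) (.leaf 0x3fa01)) (.node (.leaf 0x3fa04) (.leaf 0x3fb00)))) (.node (.node (.node (.leaf 0x3fb02) (.leaf 0x3fb04)) (.node (.leaf 0x3fb05) (.leaf 0x3fc00))) (.node (.node (.leaf 0x3fc01) (.leaf 0x3fc02)) (.node (.leaf 0x3fc03) (.leaf 0x3fc04))))))))

def repsP19 : BT := (.node (.node (.node (.node (.node (.node (.node (.leaf 0x3fc05) (.leaf 0x3ff00)) (.node (.leaf 0x3ff01) (.leaf 0x40000))) (.node (.node (.leaf 0x40001) (.leaf 0x40101)) (.node (.leaf 0x40102) (.leaf 0x40103)))) (.node (.node (.node (.leaf 0x40104) (.leaf 0x40200)) (.node (.leaf 0x40205) (.leaf 0x40300))) (.node (.node (.leaf 0x40301) (.leaf 0x40302)) (.node (.leaf 0x40303) (.leaf 0x40304))))) (.node (.node (.node (.node (.leaf 0x40305) (.leaf 0x40400)) (.node (.leaf 0x40401) (.leaf 0x40402))) (.node (.node (.leaf 0x40403) (.leaf 0x40404)) (.node (.leaf 0x40405) (.leaf 0x40502)))) (.node (.node (.node (.leaf 0x40503) (.leaf 0x40603)) (.node (.leaf 0x40702) (.leaf 0x40802))) (.node (.node (.leaf 0x40803) (.leaf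 0x40902)) (.node (.leaf 0x40903) (.leaf 0x40e01)))))) (.node (.node (.node (.node (.node (.leaf 0x40f00) (.leaf 0x40f06)) (.node (.leaf 0x41000) (.leaf 0x41100))) (.node (.node (.leaf 0x41201) (.leaf 0x41301)) (.node (.leaf 0x41400) (.leaf 0x41406)))) (.node (.node (.node (.leaf 0x41500) (.leaf 0x41600)) (.node (.leaf 0x41701) (.leaf 0x41d06))) (.node (.node (.leaf 0x42006) (.leaf 0x42401)) (.node (.leaf 0x42405) (.leaf 0x42500))))) (.node (.node (.node (.node (.leaf 0x42502) (.leaf 0x42503)) (.node (.leaf 0x42504) (.leaf 0x42505))) (.node (.node (.leaf 0x42600) (.leaf 0x42603)) (.node (.leaf 0x42604) (.leaf 0x42605)))) (.node (.node (.node (.leaf 0x42706) (.leaf 0x42b06)) (.node (.leaf 0x42e01) (.leaf 0x42e05))) (.node (.node (.leaf 0x42f00) (.leaf 0x42f02)) (.node (.leaf 0x42f03) (.leaf 0x42f04))))))) (.node (.node (.node (.node (.node (.node (.leaf 0x42f05) (.leaf 0x43000)) (.node (.leaf 0x43002) (.leaf 0x43004))) (.node (.node (.leaf 0x43005) (.leaf 0x43300)) (.node (.leaf 0x43301) (.leaf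 0x43400)))) (.node (.node (.node (.leaf 0x43401) (.leaf 0x43501)) (.node (.leaf 0x43502) (.leaf 0x43503))) (.node (.node (.leaf 0x43505) (.leaf 0x43600)) (.node (.leaf 0x43604) (.leaf 0x43700))))) (.node (.node (.node (.node (.leaf 0x43701) (.leaf 0x43702)) (.node (.leaf 0x43703) (.leaf 0x43704))) (.node (.node (.leaf 0x43705) (.leaf 0x43800)) (.node (.leaf 0x43801) (.leaf 0x43802)))) (.node (.node (.node (.leaf 0x43803) (.leaf 0x43804)) (.node (.leaf 0x43805) (.leaf 0x43a03))) (.node (.node (.leaf 0x43b02) (.leaf 0x43c02)) (.node (.leaf 0x43c03) (.leaf 0x43d02)))))) (.node (.node (.node (.node (.node (.leaf 0x43d03) (.leaf 0x44201)) (.node (.leaf 0x44300) (.leaf 0x44306))) (.node (.node (.leaf 0x44400) (.leaf 0x44501)) (.node (.leaf 0x44600) (.leaf 0x44701)))) (.node (.node (.node (.leaf 0x44800) (.leaf 0x44806)) (.node (.leaf 0x44900) (.leaf 0x44a01))) (.node (.node (.leaf 0x44b00) (.leaf 0x45304)) (.node (.leaf 0x45305) (.leaf 0x45405))))) (.node (.node (.node (.node (.leaf 0x45504) (.leaf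 0x45604)) (.node (.leaf 0x45605) (.leaf 0x45904))) (.node (.node (.leaf 0x45905) (.leaf 0x45a04)) (.node (.leaf 0x45a05) (.leaf 0x45b00)))) (.node (.node (.node (.leaf 0x45c00) (.leaf 0x45e03)) (.node (.leaf 0x45f01) (.leaf 0x45f02))) (.node (.node (.leaf 0x45f03) (.leaf 0x46001)) (.node (.leaf 0x46203) (.leaf 0x46301))))))))

def repsP20 : BT := (.node (.node (.node (.node (.node (.node (.node (.leaf 0x46302) (.leaf 0x46303)) (.node (.leaf 0x46401) (.leaf 0x46804))) (.node (.node (.leaf 0x46805) (.leaf 0x46905)) (.node (.leaf 0x46a04) (.leaf 0x46b04)))) (.node (.node (.node (.leaf 0x46b05) (.leaf 0x46c04)) (.node (.leaf 0x46c05) (.leaf 0x46d00))) (.node (.node (.leaf 0x46e00) (.leaf 0x47004)) (.node (.leaf 0x47005) (.leaf 0x47302))))) (.node (.node (.node (.node (.leaf 0x47401) (.leaf 0x47402)) (.node (.leaf 0x47403) (.leaf 0x47501))) (.node (.node (.leaf 0x47702) (.leaf 0x47801)) (.node (.leaf 0x47802) (.leaf 0x47803)))) (.node (.node (.node (.leaf 0x47901) (.leaf 0x47d02)) (.node (.leaf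 0x47d03) (.leaf 0x48005))) (.node (.node (.leaf 0x48104) (.leaf 0x48105)) (.node (.leaf 0x48201) (.leaf 0x48405)))))) (.node (.node (.node (.node (.node (.leaf 0x48504) (.leaf 0x48505)) (.node (.leaf 0x48601) (.leaf 0x48b02))) (.node (.node (.leaf 0x48b03) (.leaf 0x48c02)) (.node (.leaf 0x48c03) (.leaf 0x48d00)))) (.node (.node (.node (.leaf 0x48e00) (.leaf 0x49202)) (.node (.leaf 0x49203) (.leaf 0x49504))) (.node (.node (.leaf 0x49604) (.leaf 0x49605)) (.node (.leaf 0x49701) (.leaf 0x49904))))) (.node (.node (.node (.node (.leaf 0x49a04) (.leaf 0x49a05)) (.node (.leaf 0x49b01) (.leaf 0x49d02))) (.node (.node (.leaf 0x49d03) (.leaf 0x49e02)) (.node (.leaf 0x49e03) (.leaf 0x49f00)))) (.node (.node (.node (.leaf 0x4a000) (.leaf 0x4a706)) (.node (.leaf 0x4a902) (.leaf 0x4aa02))) (.node (.node (.leaf 0x4ab02) (.leaf 0x4ab03)) (.node (.leaf 0x4ab04) (.leaf 0x4ab05))))))) (.node (.node (.node (.node (.node (.node (.leaf 0x4ae06) (.leaf 0x4b002)) (.node (.leaf 0x4b102) (.leaf 0x4b202))) (.node (.node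 (.leaf 0x4b203) (.leaf 0x4b204)) (.node (.leaf 0x4b205) (.leaf 0x4b505)))) (.node (.node (.node (.leaf 0x4b604) (.leaf 0x4b804)) (.node (.leaf 0x4b805) (.leaf 0x4b905))) (.node (.node (.leaf 0x4ba04) (.leaf 0x4bb01)) (.node (.leaf 0x4bb02) (.leaf 0x4bc00))))) (.node (.node (.node (.node (.leaf 0x4bc02) (.leaf 0x4bd06)) (.node (.leaf 0x4be01) (.leaf 0x4be02))) (.node (.node (.leaf 0x4bf00) (.leaf 0x4bf02)) (.node (.leaf 0x4c006) (.leaf 0x4c803)))) (.node (.node (.node (.leaf 0x4c903) (.leaf 0x4ca02)) (.node (.leaf 0x4ca03) (.leaf 0x4ca04))) (.node (.node (.leaf 0x4ca05) (.leaf 0x4ce03)) (.node (.leaf 0x4cf03) (.leaf 0x4d002)))))) (.node (.node (.node (.node (.node (.leaf 0x4d003) (.leaf 0x4d004)) (.node (.leaf 0x4d005) (.leaf 0x4d305))) (.node (.node (.leaf 0x4d404) (.leaf 0x4d604)) (.node (.leaf 0x4d605) (.leaf 0x4d705)))) (.node (.node (.node (.leaf 0x4d804) (.leaf 0x4d901)) (.node (.leaf 0x4da00) (.leaf 0x4db06))) (.node (.node (.leaf 0x4dc01) (.leaf 0x4dd00)) (.node (.leaf 0x4de06) (.leaf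 0x4e604))))) (.node (.node (.node (.node (.leaf 0x4e803) (.leaf 0x4e804)) (.node (.leaf 0x4e805) (.leaf 0x4ec04))) (.node (.node (.leaf 0x4ee02) (.leaf 0x4ee04)) (.node (.leaf 0x4ee05) (.leaf 0x4f403)))) (.node (.node (.node (.leaf 0x4f502) (.leaf 0x4f602)) (.node (.leaf 0x4f603) (.leaf 0x4f701))) (.node (.node (.leaf 0x4f800) (.leaf 0x4fa01)) (.node (.leaf 0x4fb00) (.leaf 0x50405))))))))

def repsP21 : BT := (.node (.node (.node (.node (.node (.node (.node (.leaf 0x50603) (.leaf 0x50604)) (.node (.leaf 0x50605) (.leaf 0x50a05))) (.node (.node (.leaf 0x50c02) (.leaf 0x50c04)) (.node (.leaf 0x50c05) (.leaf 0x51203)))) (.node (.node (.node (.leaf 0x51302) (.leaf 0x51402)) (.node (.leaf 0x51403) (.leaf 0x51501))) (.node (.node (.leaf 0x51600) (.leaf 0x51801)) (.node (.leaf 0x51900) (.leaf 0x51f05))))) (.node (.node (.node (.node (.leaf 0x52004) (.leaf 0x52504)) (.node (.leaf 0x52505) (.leaf 0x52604))) (.node (.node (.leaf 0x52605) (.leaf 0x52803)) (.node (.leaf 0x52903) (.leaf 0x52b03)))) (.node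 (.node (.node (.leaf 0x52c03) (.leaf 0x52e05)) (.node (.leaf 0x52f04) (.leaf 0x53204))) (.node (.node (.leaf 0x53205) (.leaf 0x53304)) (.node (.leaf 0x53305) (.leaf 0x53702)))))) (.node (.node (.node (.node (.node (.leaf 0x53802) (.leaf 0x53a02)) (.node (.leaf 0x53b02) (.leaf 0x54105))) (.node (.node (.leaf 0x54205) (.leaf 0x54405)) (.node (.leaf 0x54505) (.leaf 0x54902)))) (.node (.node (.node (.leaf 0x54903) (.leaf 0x54a02)) (.node (.leaf 0x54a03) (.leaf 0x55004))) (.node (.node (.leaf 0x55104) (.leaf 0x55304)) (.node (.leaf 0x55404) (.leaf 0x55602))))) (.node (.node (.node (.node (.leaf 0x55603) (.leaf 0x55702)) (.node (.leaf 0x55703) (.leaf 0x55c01))) (.node (.node (.leaf 0x55c03) (.leaf 0x55d01)) (.node (.leaf 0x55d03) (.leaf 0x55f00)))) (.node (.node (.node (.leaf 0x55f04) (.leaf 0x55f05)) (.node (.leaf 0x56604) (.leaf 0x56605))) (.node (.node (.leaf 0x56704) (.leaf 0x56705)) (.node (.leaf 0x56a03) (.leaf 0x56b03))))))) (.node (.node (.node (.node (.node (.node (.leaf 0x56f03) (.leaf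 0x57003)) (.node (.leaf 0x57501) (.leaf 0x57504))) (.node (.node (.leaf 0x57505) (.leaf 0x57700)) (.node (.leaf 0x57703) (.leaf 0x57800)))) (.node (.node (.node (.leaf 0x57803) (.leaf 0x57f04)) (.node (.leaf 0x57f05) (.leaf 0x58004))) (.node (.node (.leaf 0x58005) (.leaf 0x58303)) (.node (.leaf 0x58403) (.leaf 0x58803))))) (.node (.node (.node (.node (.leaf 0x58903) (.leaf 0x58f01)) (.node (.leaf 0x58f04) (.leaf 0x58f05))) (.node (.node (.leaf 0x59200) (.leaf 0x59204)) (.node (.leaf 0x59205) (.leaf 0x59904)))) (.node (.node (.node (.leaf 0x59905) (.leaf 0x59a04)) (.node (.leaf 0x59a05) (.leaf 0x59d03))) (.node (.node (.leaf 0x59e03) (.leaf 0x5a203)) (.node (.leaf 0x5a303) (.leaf 0x5a902)))))) (.node (.node (.node (.node (.node (.leaf 0x5a903) (.leaf 0x5aa02)) (.node (.leaf 0x5aa03) (.leaf 0x5ad02))) (.node (.node (.leaf 0x5ad03) (.leaf 0x5ae02)) (.node (.leaf 0x5ae03) (.leaf 0x5e003)))) (.node (.node (.node (.leaf 0x5e103) (.leaf 0x5e800)) (.node (.leaf 0x5e801) (.leaf 0x5ea00))) (.node (.node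 (.leaf 0x5ea01) (.leaf 0x60e03)) (.node (.leaf 0x60f03) (.leaf 0x61600))))) (.node (.node (.node (.node (.leaf 0x61601) (.leaf 0x61900)) (.node (.leaf 0x61901) (.leaf 0x62505))) (.node (.node (.leaf 0x62604) (.leaf 0x62900)) (.node (.leaf 0x62b00) (.leaf 0x63305)))) (.node (.node (.node (.leaf 0x63404) (.leaf 0x63701)) (.node (.leaf 0x63901) (.leaf 0x65d02))) (.node (.node (.leaf 0x66102) (.leaf 0x66902)) (.node (.leaf 0x66d02) (.leaf 0x69900))))))))

def repsP22 : BT := (.node (.node (.node (.node (.node (.node (.node (.leaf 0x69901) (.leaf 0x6bd00)) (.node (.leaf 0x6bd01) (.leaf 0x6cd05))) (.node (.node (.leaf 0x6ce04) (.leaf 0x6cf00)) (.node (.leaf 0x6d100) (.leaf 0x6d705)))) (.node (.node (.node (.leaf 0x6d804) (.leaf 0x6d901)) (.node (.leaf 0x6db01) (.leaf 0x70302))) (.node (.node (.leaf 0x70303) (.leaf 0x70402)) (.node (.leaf 0x70403) (.leaf 0x71702))))) (.node (.node (.node (.node (.leaf 0x71703) (.leaf 0x71802)) (.node (.leaf 0x71803) (.leaf 0))) (.leaf 0)) (.leaf 0))) (.leaf 0)) (.leaf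 0))

def repsP23 : BT := (.leaf 0)

def repsP24 : BT := (.leaf 0)

def repsP25 : BT := (.leaf 0)

def repsP26 : BT := (.leaf 0)

def repsP27 : BT := (.leaf 0)

def repsP28 : BT := (.leaf 0)

def repsP29 : BT := (.leaf 0)

def repsP30 : BT := (.leaf 0)

def repsP31 : BT := (.leaf 0)

/-- Table. -/
def repsP : BT := (.node (.node (.node (.node (.node repsP0 repsP1) (.node repsP2 repsP3)) (.node (.node repsP4 repsP5) (.node repsP6 repsP7))) (.node (.node (.node repsP8 repsP9) (.node repsP10 repsP11)) (.node (.node repsP12 repsP13) (.node repsP14 repsP15)))) (.node (.node (.node (.node repsP16 repsP17) (.node repsP18 repsP19)) (.node (.node repsP20 repsP21) (.node repsP22 repsP23))) (.node (.node (.node repsP24 repsP25) (.node repsP26 repsP27)) (.node (.node repsP28 repsP29) (.node repsP30 repsP31)))))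

def eltsT0 : BT := (.node (.node (.node (.node (.node (.node (.node (.leaf 0x876543210) (.leaf 0x876543021)) (.node (.leaf 0x876540123) (.leaf 0x876541320))) (.node (.node (.leaf 0x876542301) (.leaf 0x876540231)) (.node (.leaf 0x876541032) (.leaf 0x876503241)))) (.node (.node (.node (.leaf 0x870513246) (.leaf 0x871053246)) (.node (.leaf 0x807153246) (.leaf 0x817453206))) (.node (.node (.leaf 0x867453210) (.leaf 0x876013245)) (.node (.leaf 0x870163245) (.leaf 0x801763245))))) (.node (.node (.node (.node (.leaf 0x814763205) (.leaf 0x854763210)) (.node (.leaf 0x876153240) (.leaf 0x876453201))) (.node (.node (.leaf 0x870541623) (.leaf 0x801547623)) (.node (.leaf 0x812547603) (.leaf 0x832547610)))) (.node (.node (.node (.leaf 0x832047651) (.leaf 0x832107654)) (.node (.leaf 0x876510243) (.leaf 0x876504321))) (.node (.node (.leaf 0x876014325) (.leaf 0x876124305)) (.node (.leaf 0x876043125) (.leaf 0x876143520)))))) (.node (.node (.node (.node (.node (.leaf 0x876243501) (.leaf 0x876501423)) (.node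 (.leaf 0x870516423) (.leaf 0x871056423))) (.node (.node (.leaf 0x875106423) (.leaf 0x875316420)) (.node (.leaf 0x870546132) (.leaf 0x871506432)))) (.node (.node (.node (.leaf 0x875016432) (.leaf 0x875136402)) (.node (.leaf 0x875306412) (.leaf 0x876503124))) (.node (.node (.leaf 0x876510324) (.leaf 0x876051324)) (.node (.leaf 0x876152304) (.leaf 0x876452310))))) (.node (.node (.node (.node (.leaf 0x870452361) (.leaf 0x801452367)) (.node (.leaf 0x876513420) (.leaf 0x870563421))) (.node (.node (.leaf 0x801563427) (.leaf 0x812563407)) (.node (.leaf 0x806452371) (.leaf 0x810452376)))) (.node (.node (.node (.leaf 0x870543126) (.leaf 0x871503426)) (.node (.leaf 0x872513406) (.leaf 0x872563410))) (.node (.node (.leaf 0x802563471) (.leaf 0x876502314)) (.node (.leaf 0x870512364) (.leaf 0x871052364))))))) (.node (.node (.node (.node (.node (.node (.leaf 0x807152364) (.leaf 0x817452360)) (.node (.leaf 0x867452301) (.leaf 0x876501234))) (.node (.node (.leaf 0x876512034) (.leaf 0x806572134)) (.node (.leaf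 0x816572430) (.leaf 0x860572431)))) (.node (.node (.node (.leaf 0x861072435) (.leaf 0x864172035)) (.node (.leaf 0x64872135) (.leaf 0x876512403))) (.node (.node (.leaf 0x806572413) (.leaf 0x816072453)) (.node (.leaf 0x860172453) (.leaf 0x61872453))))) (.node (.node (.node (.node (.leaf 0x164872053) (.leaf 0x876123045)) (.node (.leaf 0x876423105) (.leaf 0x870423615))) (.node (.node (.leaf 0x801423675) (.leaf 0x806573421)) (.node (.leaf 0x810573426) (.leaf 0x81573426)))) (.node (.node (.node (.leaf 0x183570426) (.leaf 0x483571026)) (.node (.leaf 0x806513247) (.leaf 0x810563247))) (.node (.node (.leaf 0x841563207) (.leaf 0x847563210)) (.node (.leaf 0x47563281) (.leaf 0x870543261)))))) (.node (.node (.node (.node (.node (.leaf 0x871043265) (.leaf 0x78143265)) (.node (.leaf 0x178243065) (.leaf 0x278043165))) (.node (.node (.leaf 0x278103465) (.leaf 0x278310465)) (.node (.leaf 0x208371465) (.leaf 0x871463205)))) (.node (.node (.node (.leaf 0x807463215) (.leaf 0x17463285)) (.node (.leaf 0x147063285)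 (.leaf 0x347160285))) (.node (.node (.leaf 0x876041235) (.leaf 0x806147235)) (.node (.leaf 0x816347205) (.leaf 0x846307215))))) (.node (.node (.node (.node (.leaf 0x806543271) (.leaf 0x816543207)) (.node (.leaf 0x846503217) (.leaf 0x46513287))) (.node (.node (.leaf 0x140563287) (.leaf 0x810543276)) (.node (.leaf 0x841503276) (.leaf 0x843510276)))) (.node (.node (.node (.leaf 0x843561270) (.leaf 0x43568271)) (.node (.leaf 0x806517423) (.leaf 0x810567423))) (.node (.node (.leaf 0x841567023) (.leaf 0x845067123)) (.node (.leaf 0x45167823) (.leaf 0x145367820))))))))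

def eltsT1 : BT := (.node (.node (.node (.node (.node (.node (.node (.leaf 0x245367801) (.leaf 0x876542130)) (.node (.leaf 0x870542631) (.leaf 0x871042635))) (.node (.node (.leaf 0x807142635) (.leaf 0x876043251)) (.node (.leaf 0x806143257) (.leaf 0x16843257)))) (.node (.node (.node (.leaf 0x146803257) (.leaf 0x406813257)) (.node (.leaf 0x416830257) (.leaf 0x871543062))) (.node (.node (.leaf 0x807543162) (.leaf 0x817543602)) (.node (.leaf 0x837540612) (.leaf 0x836540217))))) (.node (.node (.node (.node (.leaf 0x816043275) (.leaf 0x826143075)) (.node (.leaf 0x826340175) (.leaf 0x820341675))) (.node (.node (.leaf 0x821347605) (.leaf 0x807143265)) (.node (.leaf 0x817403265) (.leaf 0x857413260)))) (.node (.node (.node (.leaf 0x57483261) (.leaf 0x876143205)) (.node (.leaf 0x876340215) (.leaf 0x870341265))) (.node (.node (.leaf 0x871342065) (.leaf 0x807342165)) (.node (.leaf 0x17342865) (.leaf 0x870541236)))))) (.node (.node (.node (.node (.node (.leaf 0x871546230) (.leaf 0x78546231)) (.node (.leaf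 0x108546237) (.leaf 0x618540237))) (.node (.node (.leaf 0x873140265) (.leaf 0x73841265)) (.node (.leaf 0x103847265) (.leaf 0x513847260)))) (.node (.node (.node (.leaf 0x523847061) (.leaf 0x76543281)) (.node (.leaf 0x170543286) (.leaf 0x671543280))) (.node (.node (.leaf 0x673540281) (.leaf 0x76843215)) (.node (.leaf 0x170843265) (.leaf 0x471803265))))) (.node (.node (.node (.node (.leaf 0x407813265) (.leaf 0x417823065)) (.node (.leaf 0x870143256) (.leaf 0x71843256))) (.node (.node (.leaf 0x107843256) (.leaf 0x617843250)) (.node (.leaf 0x657843201) (.leaf 0x816543072)))) (.node (.node (.node (.leaf 0x836540172) (.leaf 0x830541672)) (.node (.leaf 0x831045672) (.leaf 0x76518234))) (.node (.node (.leaf 0x176538204) (.leaf 0x476538210)) (.node (.leaf 0x476038251) (.leaf 0x470138256))))))) (.node (.node (.node (.node (.node (.node (.leaf 0x806547132) (.leaf 0x816547302)) (.node (.leaf 0x836547012) (.leaf 0x36547182))) (.node (.node (.leaf 0x130547682) (.leaf 0x846103275)) (.node (.leaf 0x846310275)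 (.leaf 0x840361275)))) (.node (.node (.node (.leaf 0x806543127) (.leaf 0x810543627)) (.node (.leaf 0x821543607) (.leaf 0x827543610))) (.node (.node (.leaf 0x27543681) (.leaf 0x871360245)) (.node (.leaf 0x807361245) (.leaf 0x817364205))))) (.node (.node (.node (.node (.leaf 0x847360215) (.leaf 0x213847065)) (.node (.leaf 0x283047165) (.leaf 0x871563240))) (.node (.node (.leaf 0x78563241) (.leaf 0x108563247)) (.node (.leaf 0x618503247) (.leaf 0x106543287)))) (.node (.node (.node (.leaf 0x17843265) (.leaf 0x187043265)) (.node (.leaf 0x287143065) (.leaf 0x826347015))) (.node (.node (.leaf 0x216543087) (.leaf 0x236540187)) (.node (.leaf 0x230541687) (.leaf 0x71543268)))))) (.node (.node (.node (.node (.node (.leaf 0x173540268) (.leaf 0x673541208)) (.node (.leaf 0x673542018) (.leaf 0x603542178))) (.node (.node (.leaf 0x603547218) (.leaf 0x876543102)) (.node (.leaf 0x876540312) (.leaf 0x876041352)))) (.node (.node (.node (.leaf 0x870146352) (.leaf 0x71846352)) (.node (.leaf 0x173846052) (.leaf 0x703846152)))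 (.node (.node (.leaf 0x713806452) (.leaf 0x753816402)) (.node (.leaf 0x76341285) (.leaf 0x106347285))))) (.node (.node (.node (.node (.leaf 0x610347285) (.leaf 0x641307285)) (.node (.leaf 0x178543260) (.leaf 0x678543201))) (.node (.node (.leaf 0x871540263) (.leaf 0x873541260)) (.node (.leaf 0x803547261) (.leaf 0x13547268)))) (.node (.node (.node (.leaf 0x153047268) (.leaf 0x826403175)) (.node (.leaf 0x26413875) (.leaf 0x126430875))) (.node (.node (.leaf 0x526431870) (.leaf 0x520436871)) (.node (.leaf 0x816247035) (.leaf 0x826047135))))))))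

def eltsT2 : BT := (.node (.node (.node (.node (.node (.node (.node (.leaf 0x816403257) (.leaf 0x846013257)) (.node (.leaf 0x876142035) (.leaf 0x870642135))) (.node (.node (.leaf 0x801642735) (.leaf 0x817642035)) (.node (.leaf 0x860143275) (.leaf 0x861243075)))) (.node (.node (.node (.leaf 0x68243175) (.leaf 0x168240375)) (.node (.leaf 0x268041375) (.leaf 0x71548623))) (.node (.node (.leaf 0x175048623) (.leaf 0x275148603)) (.node (.leaf 0x275348610) (.leaf 0x205348671))))) (.node (.node (.node (.node (.leaf 0x876103425) (.leaf 0x876310425)) (.node (.leaf 0x806371425) (.leaf 0x16378425))) (.node (.node (.leaf 0x146378025) (.leaf 0x246378105)) (.node (.leaf 0x81543276) (.leaf 0x185043276)))) (.node (.node (.node (.leaf 0x485103276) (.leaf 0x485713206)) (.node (.leaf 0x485730216) (.leaf 0x26347185))) (.node (.node (.leaf 0x120347685) (.leaf 0x47361285)) (.node (.leaf 0x801543267) (.leaf 0x814503267)))))) (.node (.node (.node (.node (.node (.leaf 0x840513267) (.leaf 0x516043287)) (.node (.leaf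 0x526143087) (.leaf 0x526340187))) (.node (.node (.leaf 0x520341687) (.leaf 0x521347680)) (.node (.leaf 0x524307681) (.leaf 0x16583247)))) (.node (.node (.node (.leaf 0x146583207) (.leaf 0x406583217)) (.node (.leaf 0x416083257) (.leaf 0x186043257))) (.node (.node (.leaf 0x486103257) (.leaf 0x71548236)) (.node (.leaf 0x173548206) (.leaf 0x370548216))))) (.node (.node (.node (.node (.leaf 0x610543287) (.leaf 0x621543087)) (.node (.leaf 0x627543180) (.leaf 0x826543170))) (.node (.node (.leaf 0x820543671) (.leaf 0x876104235)) (.node (.leaf 0x876314205) (.leaf 0x870364215)))) (.node (.node (.node (.leaf 0x71364285) (.leaf 0x107364285)) (.node (.leaf 0x36541287) (.leaf 0x136542087))) (.node (.node (.leaf 0x630542187) (.leaf 0x176043285)) (.node (.leaf 0x670143285) (.leaf 0x601743285))))))) (.node (.node (.node (.node (.node (.node (.leaf 0x617043285) (.leaf 0x647103285)) (.node (.leaf 0x76143825) (.leaf 0x176340825))) (.node (.node (.leaf 0x276341805) (.leaf 0x206347815)) (.node (.leaf 0x210347865)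 (.leaf 0x813540267)))) (.node (.node (.node (.leaf 0x853041267) (.leaf 0x853147260)) (.node (.leaf 0x53847261) (.leaf 0x316540287))) (.node (.node (.leaf 0x26543871) (.leaf 0x126043875)) (.node (.leaf 0x326140875) (.leaf 0x326401875))))) (.node (.node (.node (.node (.leaf 0x320416875) (.leaf 0x436502187)) (.node (.leaf 0x430512687) (.leaf 0x873540162))) (.node (.node (.leaf 0x73541862) (.leaf 0x103547862)) (.node (.leaf 0x213547860) (.leaf 0x243507861)))) (.node (.node (.node (.leaf 0x870143625) (.leaf 0x871243605)) (.node (.leaf 0x807243615) (.leaf 0x17243685))) (.node (.node (.leaf 0x127043685) (.leaf 0x71543826)) (.node (.leaf 0x175043826) (.leaf 0x275143806)))))) (.node (.node (.node (.node (.node (.leaf 0x275340816) (.leaf 0x205341876)) (.node (.leaf 0x856143270) (.leaf 0x850643271))) (.node (.node (.leaf 0x51643278) (.leaf 0x821043675)) (.node (.leaf 0x824103675) (.leaf 0x860543172)))) (.node (.node (.node (.leaf 0x61543872) (.leaf 0x165043872)) (.node (.leaf 0x265143870) (.leaf 0x265340871)))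 (.node (.node (.leaf 0x265301874) (.leaf 0x820413675)) (.node (.leaf 0x871542603) (.leaf 0x807542613))))) (.node (.node (.node (.node (.leaf 0x17542683) (.leaf 0x137542680)) (.node (.leaf 0x437502681) (.leaf 0x875143260))) (.node (.node (.leaf 0x875340261) (.leaf 0x75341268)) (.node (.leaf 0x105347268) (.leaf 0x215347068)))) (.node (.node (.node (.leaf 0x245307168) (.leaf 0x806173245)) (.node (.leaf 0x816370245) (.leaf 0x846371205))) (.node (.node (.leaf 0x46378215) (.leaf 0x140378265)) (.node (.leaf 0x241378065) (.leaf 0x245378160))))))))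

def eltsT3 : BT := (.node (.node (.node (.node (.node (.node (.node (.leaf 0x873546201) (.leaf 0x73546218)) (.node (.leaf 0x815043267) (.leaf 0x850143267))) (.node (.node (.leaf 0x51843267) (.leaf 0x871340625)) (.node (.leaf 0x807341625) (.leaf 0x817342605)))) (.node (.node (.node (.leaf 0x827340615) (.leaf 0x27341685)) (.node (.leaf 0x18543267) (.leaf 0x158043267))) (.node (.node (.leaf 0x758143260) (.leaf 0x758243061)) (.node (.leaf 0x631540287) (.leaf 0x637541280))))) (.node (.node (.node (.node (.leaf 0x637542081) (.leaf 0x86143275)) (.node (.leaf 0x180643275) (.leaf 0x781643205))) (.node (.node (.leaf 0x671340285) (.leaf 0x607341285)) (.node (.leaf 0x617342085) (.leaf 0x627340185)))) (.node (.node (.node (.leaf 0x871503264) (.leaf 0x873510264)) (.node (.leaf 0x873051264) (.leaf 0x873152064))) (.node (.node (.leaf 0x73852164) (.leaf 0x103852764)) (.node (.leaf 0x847063251) (.leaf 0x271543086)))))) (.node (.node (.node (.node (.node (.leaf 0x207543186) (.leaf 0x217543680)) (.node (.leaf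 0x237540681) (.leaf 0x817643205))) (.node (.node (.leaf 0x847603215) (.leaf 0x870543612)) (.node (.leaf 0x71543682) (.leaf 0x107543682)))) (.node (.node (.node (.leaf 0x517043682) (.leaf 0x527143680)) (.node (.leaf 0x873510426) (.leaf 0x873051426))) (.node (.node (.leaf 0x73158426) (.leaf 0x173658420)) (.node (.leaf 0x273658401) (.leaf 0x247163085))))) (.node (.node (.node (.node (.leaf 0x871543206) (.leaf 0x873540216)) (.node (.leaf 0x73541286) (.leaf 0x173045286))) (.node (.node (.leaf 0x76541823) (.leaf 0x106547823)) (.node (.leaf 0x216547803) (.leaf 0x246507813)))) (.node (.node (.node (.leaf 0x240517863) (.leaf 0x241057863)) (.node (.leaf 0x243157860) (.leaf 0x513047862))) (.node (.node (.leaf 0x543107862) (.leaf 0x876503412)) (.node (.leaf 0x876013452) (.leaf 0x76183452))))))) (.node (.node (.node (.node (.node (.node (.leaf 0x876513204) (.leaf 0x76583214)) (.node (.leaf 0x176083254) (.leaf 0x476183250))) (.node (.node (.leaf 0x406783251) (.leaf 0x107543268)) (.node (.leaf 0x710543268)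 (.leaf 0x751043268)))) (.node (.node (.node (.leaf 0x86347215) (.leaf 0x180347265)) (.node (.leaf 0x870146235) (.leaf 0x871346205))) (.node (.node (.leaf 0x78346215) (.leaf 0x108346275)) (.node (.leaf 0x218346075) (.leaf 0x826543017))))) (.node (.node (.node (.node (.leaf 0x876051243) (.leaf 0x76158243)) (.node (.leaf 0x176458203) (.leaf 0x276458013))) (.node (.node (.leaf 0x270458163) (.leaf 0x276304815)) (.node (.leaf 0x270314865) (.leaf 0x201374865)))) (.node (.node (.node (.leaf 0x837145602) (.leaf 0x16543278)) (.node (.leaf 0x160543278) (.leaf 0x601543278))) (.node (.node (.leaf 0x176403825) (.leaf 0x706413825)) (.node (.leaf 0x716430825) (.leaf 0x726431805)))))) (.node (.node (.node (.node (.node (.leaf 0x720436815) (.leaf 0x706143285)) (.node (.leaf 0x716243085) (.leaf 0x726043185))) (.node (.node (.leaf 0x720143685) (.leaf 0x721340685)) (.node (.leaf 0x724301685) (.leaf 0x801573246)))) (.node (.node (.node (.leaf 0x815073246) (.leaf 0x85173246)) (.node (.leaf 0x185703246) (.leaf 0x841367205)))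 (.node (.node (.leaf 0x780143265) (.leaf 0x46317285)) (.node (.leaf 0x76543812) (.leaf 0x170543862))))) (.node (.node (.node (.node (.leaf 0x271543860) (.leaf 0x207543861)) (.node (.leaf 0x217043865) (.leaf 0x267143805))) (.node (.node (.leaf 0x267340815) (.leaf 0x176540283)) (.node (.leaf 0x78341625) (.leaf 0x178342605)))) (.node (.node (.node (.leaf 0x278340615) (.leaf 0x208341675)) (.node (.leaf 0x527403681) (.leaf 0x806541237))) (.node (.node (.leaf 0x816504237) (.leaf 0x836514207)) (.node (.leaf 0x36584217) (.leaf 0x136084257))))))))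

def eltsT4 : BT := (.node (.node (.node (.node (.node (.node (.node (.leaf 0x436180257) (.leaf 0x175043268)) (.node (.leaf 0x705143268) (.leaf 0x627143085))) (.node (.node (.leaf 0x675043281) (.leaf 0x816547230)) (.node (.leaf 0x856047231) (.leaf 0x56147238)))) (.node (.node (.node (.leaf 0x156347208) (.leaf 0x650347218)) (.node (.leaf 0x805743261) (.leaf 0x15743268))) (.node (.node (.leaf 0x806753241) (.leaf 0x810753246)) (.node (.leaf 0x81753246) (.leaf 0x810547632))))) (.node (.node (.node (.node (.leaf 0x841507632) (.leaf 0x845017632)) (.node (.leaf 0x845167032) (.leaf 0x845367102))) (.node (.node (.leaf 0x45367812) (.leaf 0x416823057)) (.node (.leaf 0x26543187) (.leaf 0x120543687)))) (.node (.node (.node (.leaf 0x176503284) (.leaf 0x706513284)) (.node (.leaf 0x710563284) (.leaf 0x741563280))) (.node (.node (.leaf 0x876140325) (.leaf 0x876241305)) (.node (.leaf 0x806247315) (.leaf 0x16247385)))))) (.node (.node (.node (.node (.node (.leaf 0x126047385) (.leaf 0x47613285)) (.node (.leaf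 0x716340285) (.leaf 0x746301285))) (.node (.node (.leaf 0x341560287) (.leaf 0x876541203)) (.node (.leaf 0x76548213) (.leaf 0x106548273)))) (.node (.node (.node (.leaf 0x610548273) (.leaf 0x806743215)) (.node (.leaf 0x810743265) (.leaf 0x81743265))) (.node (.node (.leaf 0x182743065) (.leaf 0x872143065)) (.node (.leaf 0x872340165) (.leaf 0x802341765))))) (.node (.node (.node (.node (.leaf 0x12348765) (.leaf 0x142308765)) (.node (.leaf 0x240318765) (.leaf 0x873501462))) (.node (.node (.leaf 0x73518462) (.leaf 0x173058462)) (.node (.leaf 0x273158460) (.leaf 0x203758461)))) (.node (.node (.node (.leaf 0x146503278) (.leaf 0x640513278)) (.node (.leaf 0x641530278) (.leaf 0x643501278))) (.node (.node (.leaf 0x643015278) (.leaf 0x176543082)) (.node (.leaf 0x216347085) (.leaf 0x801547236))))))) (.node (.node (.node (.node (.node (.node (.leaf 0x813547206) (.leaf 0x83547216)) (.node (.leaf 0x156043278) (.leaf 0x650143278))) (.node (.node (.leaf 0x281347065) (.leaf 0x108743265)) (.node (.leaf 0x418703265)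 (.leaf 0x480713265)))) (.node (.node (.node (.leaf 0x871263045) (.leaf 0x807263145)) (.node (.leaf 0x817263405) (.leaf 0x847263015))) (.node (.node (.leaf 0x160843257) (.leaf 0x601843257)) (.node (.leaf 0x870546213) (.leaf 0x71546283))))) (.node (.node (.node (.node (.leaf 0x173546280) (.leaf 0x416503287)) (.node (.leaf 0x486513207) (.leaf 0x18573246))) (.node (.node (.leaf 0x180573246) (.leaf 0x581073246)) (.node (.leaf 0x806143725) (.leaf 0x816340725)))) (.node (.node (.node (.leaf 0x846301725) (.leaf 0x840316725)) (.node (.leaf 0x841326705) (.leaf 0x48326715))) (.node (.node (.leaf 0x76148235) (.leaf 0x176348205)) (.node (.leaf 0x670348215) (.leaf 0x601348275)))))) (.node (.node (.node (.node (.node (.leaf 0x613048275) (.leaf 0x76143258)) (.node (.leaf 0x176340258) (.leaf 0x276341058))) (.node (.node (.leaf 0x206347158) (.leaf 0x210347658)) (.node (.leaf 0x241307658) (.leaf 0x245317608)))) (.node (.node (.node (.leaf 0x806723145) (.leaf 0x816723540)) (.node (.leaf 0x86723541) (.leaf 0x180723546)))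 (.node (.node (.leaf 0x581723046) (.leaf 0x673548210)) (.node (.leaf 0x603548271) (.leaf 0x176043852))))) (.node (.node (.node (.node (.leaf 0x276143850) (.leaf 0x276340851)) (.node (.leaf 0x270341856) (.leaf 0x176243805))) (.node (.node (.leaf 0x276043815) (.leaf 0x206143875)) (.node (.leaf 0x216340875) (.leaf 0x260341875)))) (.node (.node (.node (.leaf 0x261304875) (.leaf 0x16548237)) (.node (.leaf 0x160548237) (.leaf 0x601548237))) (.node (.node (.leaf 0x613548207) (.leaf 0x458103267)) (.node (.leaf 0x576041283) (.leaf 0x506147283))))))))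

def eltsT5 : BT := (.node (.node (.node (.node (.node (.node (.node (.leaf 0x516347280) (.leaf 0x526347081)) (.node (.leaf 0x803157264) (.leaf 0x813257064))) (.node (.node (.leaf 0x843257160) (.leaf 0x43257861)) (.node (.leaf 0x815047623) (.leaf 0x825147603)))) (.node (.node (.node (.leaf 0x825347610) (.leaf 0x120463875)) (.node (.leaf 0x73158264) (.leaf 0x173458260))) (.node (.node (.leaf 0x273458061) (.leaf 0x203458167)) (.node (.leaf 0x643512078) (.leaf 0x173542086))))) (.node (.node (.node (.node (.leaf 0x876513042) (.leaf 0x876053142)) (.node (.leaf 0x876153402) (.leaf 0x76853412))) (.node (.node (.leaf 0x170853462) (.leaf 0x701853462)) (.node (.leaf 0x713850462) (.leaf 0x753801462)))) (.node (.node (.node (.leaf 0x76813425) (.leaf 0x106873425)) (.node (.leaf 0x216873405) (.leaf 0x260873415))) (.node (.node (.leaf 0x261870435) (.leaf 0x870513462)) (.node (.leaf 0x871053462) (.leaf 0x873150462)))))) (.node (.node (.node (.node (.node (.leaf 0x873451062) (.leaf 0x73458162)) (.node (.leaf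 0x473508216) (.leaf 0x473018256))) (.node (.node (.leaf 0x156083247) (.leaf 0x456183207)) (.node (.leaf 0x806341275) (.leaf 0x16348275)))) (.node (.node (.node (.leaf 0x160348275) (.leaf 0x261348075)) (.node (.leaf 0x481603275) (.leaf 0x487613205))) (.node (.node (.leaf 0x876130245) (.leaf 0x876301245)) (.node (.leaf 0x806317245) (.leaf 0x812573046))))) (.node (.node (.node (.node (.leaf 0x82573146) (.leaf 0x182073546)) (.node (.leaf 0x582173046) (.leaf 0x37541682))) (.node (.node (.leaf 0x17348625) (.leaf 0x147308625)) (.node (.leaf 0x247318605) (.leaf 0x140367285)))) (.node (.node (.node (.leaf 0x876140253) (.leaf 0x76841253)) (.node (.leaf 0x176845203) (.leaf 0x706845213))) (.node (.node (.leaf 0x710845263) (.leaf 0x751840263)) (.node (.leaf 0x801347265) (.leaf 0x812347065))))))) (.node (.node (.node (.node (.node (.node (.leaf 0x82347165) (.leaf 0x471503286)) (.node (.leaf 0x473510286) (.leaf 0x403571286))) (.node (.node (.leaf 0x413578206) (.leaf 0x453078216)) (.node (.leaf 0x170643825)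 (.leaf 0x271643805)))) (.node (.node (.node (.leaf 0x207643815) (.leaf 0x217640835)) (.node (.leaf 0x267041835) (.leaf 0x816053247))) (.node (.node (.leaf 0x846153207) (.leaf 0x46853217)) (.node (.leaf 0x140853267) (.leaf 0x541803267))))) (.node (.node (.node (.node (.leaf 0x543810267) (.leaf 0x806513724)) (.node (.leaf 0x816523704) (.leaf 0x846523710))) (.node (.node (.leaf 0x840523761) (.leaf 0x841023765)) (.node (.leaf 0x48123765) (.leaf 0x148320765)))) (.node (.node (.node (.leaf 0x820347165) (.leaf 0x241563087)) (.node (.leaf 0x176853420) (.leaf 0x276853401))) (.node (.node (.leaf 0x206853417) (.leaf 0x216850437)) (.node (.leaf 0x260851437) (.leaf 0x817063245)))))) (.node (.node (.node (.node (.node (.leaf 0x847163205) (.leaf 0x870563214)) (.node (.leaf 0x801563274) (.leaf 0x18563274))) (.node (.node (.leaf 0x158063274) (.leaf 0x658103274)) (.node (.leaf 0x172543068) (.leaf 0x702543168)))) (.node (.node (.node (.leaf 0x712043568) (.leaf 0x752143068)) (.node (.leaf 0x876143052) (.leaf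 0x76843152))) (.node (.node (.leaf 0x106843752) (.leaf 0x610843752)) (.node (.leaf 0x651843702) (.leaf 0x657843012))))) (.node (.node (.node (.node (.leaf 0x176508243) (.leaf 0x276518043)) (.node (.leaf 0x276058143) (.leaf 0x270158643))) (.node (.node (.leaf 0x271458603) (.leaf 0x184703265)) (.node (.leaf 0x76183245) (.leaf 0x106783245)))) (.node (.node (.node (.leaf 0x516783240) (.leaf 0x586703241)) (.node (.leaf 0x580713246) (.leaf 0x176543208))) (.node (.node (.leaf 0x376540218) (.leaf 0x76541238)) (.node (.leaf 0x176504238) (.leaf 0x670514238))))))))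

def eltsT6 : BT := (.node (.node (.node (.node (.node (.node (.node (.leaf 0x358140267) (.leaf 0x641503287)) (.node (.leaf 0x647513280) (.leaf 0x170546823))) (.node (.node (.leaf 0x271546803) (.leaf 0x207546813)) (.node (.leaf 0x217046853) (.leaf 0x267140853)))) (.node (.node (.node (.leaf 0x267341850) (.leaf 0x875041263)) (.node (.leaf 0x875142063) (.leaf 0x875342160))) (.node (.node (.leaf 0x75342861) (.leaf 0x508143267)) (.node (.leaf 0x813570246) (.leaf 0x83571246))))) (.node (.node (.node (.node (.leaf 0x125743068) (.leaf 0x876145230)) (.node (.leaf 0x876405231) (.leaf 0x806415237))) (.node (.node (.leaf 0x810465237) (.leaf 0x81465237)) (.node (.leaf 0x183465207) (.leaf 0x283465017)))) (.node (.node (.node (.leaf 0x876403215) (.leaf 0x806413275)) (.node (.leaf 0x816423075) (.leaf 0x473501268))) (.node (.node (.leaf 0x473518260) (.leaf 0x876045132)) (.node (.leaf 0x876105432) (.leaf 0x76815432)))))) (.node (.node (.node (.node (.node (.leaf 0x106875432) (.leaf 0x216875430)) (.node (.leaf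 0x260875431) (.leaf 0x145703268))) (.node (.node (.leaf 0x173845260) (.leaf 0x273845061)) (.node (.leaf 0x203845167) (.leaf 0x213805467)))) (.node (.node (.node (.leaf 0x157843260) (.leaf 0x241307865)) (.node (.leaf 0x156843207) (.leaf 0x456803217))) (.node (.node (.leaf 0x450813267) (.leaf 0x451830267)) (.node (.leaf 0x53148267) (.leaf 0x153840267))))) (.node (.node (.node (.node (.leaf 0x106578234) (.leaf 0x416578230)) (.node (.leaf 0x436578201) (.leaf 0x430578216))) (.node (.node (.leaf 0x876510432) (.leaf 0x876521430)) (.node (.leaf 0x876025431) (.leaf 0x806125437)))) (.node (.node (.node (.leaf 0x16825437) (.leaf 0x160825437)) (.node (.leaf 0x170583264) (.leaf 0x471583260))) (.node (.node (.leaf 0x407583261) (.leaf 0x417083265)) (.node (.leaf 0x437180265) (.leaf 0x136540278))))))) (.node (.node (.node (.node (.node (.node (.leaf 0x630541278) (.leaf 0x801543672)) (.node (.leaf 0x18543672) (.leaf 0x158043672))) (.node (.node (.leaf 0x258143670) (.leaf 0x284307165)) (.node (.leaf 0x816540273)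 (.leaf 0x860541273)))) (.node (.node (.node (.leaf 0x61548273) (.leaf 0x163548270)) (.node (.leaf 0x76543128) (.leaf 0x176043528))) (.node (.node (.leaf 0x276143508) (.leaf 0x276340518)) (.node (.leaf 0x206341578) (.leaf 0x216348570))))) (.node (.node (.node (.node (.leaf 0x260348571) (.leaf 0x417803256)) (.node (.leaf 0x457813206) (.leaf 0x817043562))) (.node (.node (.leaf 0x847103562) (.leaf 0x847310562)) (.node (.leaf 0x847321560) (.leaf 0x47328561)))) (.node (.node (.node (.leaf 0x87413265) (.leaf 0x481573206)) (.node (.leaf 0x76548132) (.leaf 0x176548302))) (.node (.node (.leaf 0x670548312) (.leaf 0x601548372)) (.node (.leaf 0x613548072) (.leaf 0x817304625)))))) (.node (.node (.node (.node (.node (.leaf 0x847310625) (.leaf 0x847321605)) (.node (.leaf 0x47328615) (.leaf 0x817340265))) (.node (.node (.leaf 0x87341265) (.leaf 0x76248315)) (.node (.leaf 0x106248375) (.leaf 0x216048375)))) (.node (.node (.node (.leaf 0x260148375) (.leaf 0x807513264)) (.node (.leaf 0x817053264) (.leaf 0x857103264)))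 (.node (.node (.leaf 0x57813264) (.leaf 0x860341725)) (.node (.leaf 0x61348725) (.leaf 0x168340725))))) (.node (.node (.node (.node (.leaf 0x268341705) (.leaf 0x270346815)) (.node (.leaf 0x201346875) (.leaf 0x823541067))) (.node (.node (.leaf 0x23548167) (.leaf 0x123508467)) (.node (.leaf 0x203518467) (.leaf 0x213058467)))) (.node (.node (.node (.leaf 0x401853267) (.leaf 0x76513248)) (.node (.leaf 0x106573248) (.leaf 0x416573208))) (.node (.node (.leaf 0x456073218) (.leaf 0x450173268)) (.node (.leaf 0x451873260) (.leaf 0x842563017))))))))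

def eltsT7 : BT := (.node (.node (.node (.node (.node (.node (.node (.leaf 0x803541276) (.leaf 0x13548276)) (.node (.leaf 0x123548076) (.leaf 0x876103254))) (.node (.node (.leaf 0x806713254) (.leaf 0x16783254)) (.node (.leaf 0x613540278) (.leaf 0x875043162)))) (.node (.node (.node (.leaf 0x75143862) (.leaf 0x175340862)) (.node (.leaf 0x275341860) (.leaf 0x810643257))) (.node (.node (.leaf 0x81643257) (.leaf 0x184603257)) (.node (.leaf 0x480613257) (.leaf 0x85143267))))) (.node (.node (.node (.node (.leaf 0x185743260) (.leaf 0x285743061)) (.node (.leaf 0x176542803) (.leaf 0x276540813))) (.node (.node (.leaf 0x206541873) (.leaf 0x216045873)) (.node (.leaf 0x260145873) (.leaf 0x261345870)))) (.node (.node (.node (.leaf 0x801546273) (.leaf 0x18546273)) (.node (.leaf 0x158046273) (.leaf 0x658140273))) (.node (.node (.leaf 0x247103865) (.leaf 0x247310865)) (.node (.leaf 0x673504218) (.leaf 0x871543620)))))) (.node (.node (.node (.node (.node (.leaf 0x78543621) (.leaf 0x108543627)) (.node (.leaf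 0x618543027) (.leaf 0x78543216))) (.node (.node (.leaf 0x108543276) (.leaf 0x618543270)) (.node (.leaf 0x628543071) (.leaf 0x816057423)))) (.node (.node (.node (.leaf 0x846157023) (.leaf 0x846357120)) (.node (.leaf 0x840357621) (.leaf 0x41357628))) (.node (.node (.leaf 0x801743256) (.leaf 0x815743206)) (.node (.leaf 0x85743216) (.leaf 0x876053214))))) (.node (.node (.node (.node (.leaf 0x870153264) (.leaf 0x71853264)) (.node (.leaf 0x173850264) (.leaf 0x273851064))) (.node (.node (.leaf 0x203857164) (.leaf 0x876514023)) (.node (.leaf 0x876054123) (.leaf 0x870154623)))) (.node (.node (.node (.leaf 0x871450623) (.leaf 0x78451623)) (.node (.leaf 0x571043862) (.leaf 0x573140862))) (.node (.node (.leaf 0x573401862) (.leaf 0x503417862)) (.node (.leaf 0x83541267) (.leaf 0x183542067))))))) (.node (.node (.node (.node (.node (.node (.leaf 0x283540167) (.leaf 0x283501467)) (.node (.leaf 0x283015467) (.leaf 0x427183065))) (.node (.node (.leaf 0x417830265) (.leaf 0x846507231)) (.node (.leaf 0x46517238)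 (.leaf 0x146057238)))) (.node (.node (.node (.leaf 0x246157038) (.leaf 0x246357108)) (.node (.leaf 0x240357618) (.leaf 0x46183257))) (.node (.node (.leaf 0x806573214) (.leaf 0x810573264)) (.node (.leaf 0x841573260) (.leaf 0x48573261))))) (.node (.node (.node (.node (.leaf 0x148073265) (.leaf 0x248173065)) (.node (.leaf 0x248370165) (.leaf 0x423578016))) (.node (.node (.leaf 0x813740256) (.leaf 0x83741256)) (.node (.leaf 0x183704256) (.leaf 0x483710256)))) (.node (.node (.node (.leaf 0x168543207) (.leaf 0x608543217)) (.node (.leaf 0x17583264) (.leaf 0x157083264))) (.node (.node (.leaf 0x457183260) (.leaf 0x457283061)) (.node (.leaf 0x861340275) (.leaf 0x68341275)))))) (.node (.node (.node (.node (.node (.leaf 0x810647235) (.leaf 0x851647230)) (.node (.leaf 0x853647201) (.leaf 0x53647218))) (.node (.node (.leaf 0x173504286) (.leaf 0x172543806)) (.node (.leaf 0x270543816) (.leaf 0x271540836)))) (.node (.node (.node (.leaf 0x275041836) (.leaf 0x813540672)) (.node (.leaf 0x816243057) (.leaf 0x86243157)))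 (.node (.node (.leaf 0x186203457) (.leaf 0x486213057)) (.node (.leaf 0x826541073) (.leaf 0x826504173))))) (.node (.node (.node (.node (.leaf 0x26514873) (.leaf 0x126534870)) (.node (.leaf 0x526034871) (.leaf 0x807346215))) (.node (.node (.leaf 0x17346285) (.leaf 0x167340285)) (.node (.leaf 0x267341085) (.leaf 0x183540276)))) (.node (.node (.node (.leaf 0x683541270) (.leaf 0x683045271)) (.node (.leaf 0x71348265) (.leaf 0x107348265))) (.node (.node (.leaf 0x217348065) (.leaf 0x247308165)) (.node (.leaf 0x281573046) (.leaf 0x840657123))))))))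

def eltsT8 : BT := (.node (.node (.node (.node (.node (.node (.node (.leaf 0x41657823) (.leaf 0x143657820)) (.node (.leaf 0x243657801) (.leaf 0x106743258))) (.node (.node (.leaf 0x416703258) (.leaf 0x486713250)) (.node (.leaf 0x480763251) (.leaf 0x73548261)))) (.node (.node (.node (.leaf 0x103548267) (.leaf 0x213548067)) (.node (.leaf 0x253048167) (.leaf 0x253108467))) (.node (.node (.leaf 0x173540826) (.leaf 0x473501826)) (.node (.leaf 0x473518026) (.leaf 0x827643015))))) (.node (.node (.node (.node (.leaf 0x27643185) (.leaf 0x76583142)) (.node (.leaf 0x176083542) (.leaf 0x476183502))) (.node (.node (.leaf 0x476380512) (.leaf 0x176540328)) (.node (.leaf 0x276541308) (.leaf 0x206547318)))) (.node (.node (.node (.leaf 0x210547368) (.leaf 0x231547068)) (.node (.leaf 0x235047168) (.leaf 0x235107468))) (.node (.node (.leaf 0x701843265) (.leaf 0x713840265)) (.node (.leaf 0x753841260) (.leaf 0x146053287)))))) (.node (.node (.node (.node (.node (.leaf 0x573048216) (.leaf 0x476501283)) (.node (.leaf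 0x470516283) (.leaf 0x401576283))) (.node (.node (.leaf 0x413576280) (.leaf 0x816473205)) (.node (.leaf 0x86473215) (.leaf 0x180473265)))) (.node (.node (.node (.leaf 0x781403265) (.leaf 0x843560217)) (.node (.leaf 0x813045276) (.leaf 0x168342075))) (.node (.node (.leaf 0x268340175) (.leaf 0x453107268)) (.node (.leaf 0x758340261) (.leaf 0x814703256))))) (.node (.node (.node (.node (.leaf 0x84713256) (.leaf 0x176380245)) (.node (.leaf 0x276381045) (.leaf 0x270386145))) (.node (.node (.leaf 0x201386745) (.leaf 0x218306745)) (.node (.leaf 0x183075246) (.leaf 0x583170246)))) (.node (.node (.node (.leaf 0x485703261) (.leaf 0x208143765)) (.node (.leaf 0x218340765) (.leaf 0x248301765))) (.node (.node (.leaf 0x816340257) (.leaf 0x86341257)) (.node (.leaf 0x186304257) (.leaf 0x486310257))))))) (.node (.node (.node (.node (.node (.node (.leaf 0x81563247) (.leaf 0x185063247)) (.node (.leaf 0x485163207) (.leaf 0x485763210))) (.node (.node (.leaf 0x670541283) (.leaf 0x601547283)) (.node (.leaf 0x615047283)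 (.leaf 0x645107283)))) (.node (.node (.node (.leaf 0x645317280) (.leaf 0x87143562)) (.node (.leaf 0x187340562) (.leaf 0x287341560))) (.node (.node (.leaf 0x450683217) (.leaf 0x853142067)) (.node (.leaf 0x853240167) (.leaf 0x853201467))))) (.node (.node (.node (.node (.leaf 0x53218467) (.leaf 0x876402135)) (.node (.leaf 0x870412635) (.leaf 0x801472635))) (.node (.node (.leaf 0x18472635) (.leaf 0x168472035)) (.node (.leaf 0x876341025) (.leaf 0x806347125)))) (.node (.node (.node (.leaf 0x16347825) (.leaf 0x160347825)) (.node (.leaf 0x261347805) (.leaf 0x16543827))) (.node (.node (.leaf 0x156043827) (.leaf 0x650143827)) (.node (.leaf 0x651843027) (.leaf 0x870613254)))))) (.node (.node (.node (.node (.node (.leaf 0x71683254) (.leaf 0x107683254)) (.node (.leaf 0x417683250) (.leaf 0x457683201))) (.node (.node (.leaf 0x670538214) (.leaf 0x601538274)) (.node (.leaf 0x613508274) (.leaf 0x651403278)))) (.node (.node (.node (.leaf 0x241367085) (.leaf 0x258143067)) (.node (.leaf 0x842367015) (.leaf 0x76513824)))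 (.node (.node (.leaf 0x106573824) (.leaf 0x216573804)) (.node (.leaf 0x246573810) (.leaf 0x240573861))))) (.node (.node (.node (.node (.leaf 0x241073865) (.leaf 0x283541076)) (.node (.leaf 0x801743625) (.leaf 0x817043625))) (.node (.node (.leaf 0x827143605) (.leaf 0x701543286)) (.node (.leaf 0x714503286) (.leaf 0x754013286)))) (.node (.node (.node (.leaf 0x716083245) (.leaf 0x760183245)) (.node (.leaf 0x170643258) (.leaf 0x571643208))) (.node (.node (.leaf 0x507643218) (.leaf 0x170683245)) (.node (.leaf 0x371680245) (.leaf 0x375681240))))))))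

def eltsT9 : BT := (.node (.node (.node (.node (.node (.node (.node (.leaf 0x376048215) (.leaf 0x370148265)) (.node (.leaf 0x371408265) (.leaf 0x307418265))) (.node (.node (.leaf 0x870643521) (.leaf 0x71643528)) (.node (.leaf 0x175643028) (.leaf 0x174503268)))) (.node (.node (.node (.leaf 0x704513268) (.leaf 0x714583260)) (.node (.leaf 0x734580261) (.leaf 0x71563284))) (.node (.node (.leaf 0x174563280) (.leaf 0x574063281)) (.node (.leaf 0x504163287) (.leaf 0x816503274))))) (.node (.node (.node (.node (.leaf 0x86513274) (.leaf 0x180563274)) (.node (.leaf 0x681503274) (.leaf 0x876213405))) (.node (.node (.leaf 0x870263415) (.leaf 0x801263475)) (.node (.leaf 0x815263470) (.leaf 0x835260471)))) (.node (.node (.node (.leaf 0x417503268) (.leaf 0x427513068)) (.node (.leaf 0x76581243) (.leaf 0x170586243))) (.node (.node (.leaf 0x701586243) (.leaf 0x715086243)) (.node (.leaf 0x765180243) (.leaf 0x186503247)))))) (.node (.node (.node (.node (.node (.leaf 0x176803452) (.leaf 0x670813452)) (.node (.leaf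 0x671853402) (.leaf 0x673850412))) (.node (.node (.leaf 0x603851472) (.leaf 0x816540327)) (.node (.leaf 0x846501327) (.leaf 0x46518327)))) (.node (.node (.node (.leaf 0x146538027) (.leaf 0x687043251)) (.node (.leaf 0x831570426) (.leaf 0x835071426))) (.node (.node (.leaf 0x835172406) (.leaf 0x861543270)) (.node (.leaf 0x876413250) (.leaf 0x870463251))))) (.node (.node (.node (.node (.leaf 0x71463258) (.leaf 0x16743285)) (.node (.leaf 0x156743280) (.leaf 0x650743281))) (.node (.node (.leaf 0x580143276) (.leaf 0x376140285)) (.node (.leaf 0x376401285) (.leaf 0x376415280)))) (.node (.node (.node (.leaf 0x306475281) (.leaf 0x856103247)) (.node (.leaf 0x56813247) (.leaf 0x150863247))) (.node (.node (.leaf 0x851073264) (.leaf 0x58173264)) (.node (.leaf 0x158473260) (.leaf 0x576143280))))))) (.node (.node (.node (.node (.node (.node (.leaf 0x570643281) (.leaf 0x501643287)) (.node (.leaf 0x512643087) (.leaf 0x275143068))) (.node (.node (.leaf 0x275403168) (.leaf 0x205413768)) (.node (.leaf 0x215483760)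 (.leaf 0x235480761)))) (.node (.node (.node (.leaf 0x876514230) (.leaf 0x76584231)) (.node (.leaf 0x106584237) (.leaf 0x316584207))) (.node (.node (.leaf 0x356084217) (.leaf 0x350184267)) (.node (.leaf 0x437510268) (.leaf 0x701643258))))) (.node (.node (.node (.node (.leaf 0x715643208) (.leaf 0x725643018)) (.node (.leaf 0x875063241) (.leaf 0x75163248))) (.node (.node (.leaf 0x105763248) (.leaf 0x215763048)) (.node (.leaf 0x235760148) (.leaf 0x872543016)))) (.node (.node (.node (.leaf 0x807563241) (.leaf 0x17563248)) (.node (.leaf 0x157063248) (.leaf 0x871643250))) (.node (.node (.leaf 0x807643251) (.leaf 0x17643258)) (.node (.leaf 0x127643058) (.leaf 0x670543182)))))) (.node (.node (.node (.node (.node (.leaf 0x671503482) (.leaf 0x675013482)) (.node (.leaf 0x605173482) (.leaf 0x615473082))) (.node (.node (.leaf 0x635470182) (.leaf 0x816573240)) (.node (.leaf 0x860573241) (.leaf 0x61573248)))) (.node (.node (.node (.leaf 0x165073248) (.leaf 0x365170248)) (.node (.leaf 0x816045237) (.leaf 0x86145237)))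 (.node (.node (.leaf 0x180645237) (.leaf 0x581640237)) (.node (.leaf 0x126843057) (.leaf 0x876053421))))) (.node (.node (.node (.node (.leaf 0x76153428) (.leaf 0x176453028)) (.node (.leaf 0x376450128) (.leaf 0x306451728))) (.node (.node (.leaf 0x356180247) (.leaf 0x356481207)) (.node (.leaf 0x350486217) (.leaf 0x76541382)))) (.node (.node (.node (.leaf 0x176504382) (.leaf 0x670514382)) (.node (.leaf 0x601574382) (.leaf 0x615074382))) (.node (.node (.leaf 0x635174082) (.leaf 0x870513624)) (.node (.leaf 0x871053624) (.leaf 0x873150624))))))))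

def eltsT10 : BT := (.node (.node (.node (.node (.node (.node (.node (.leaf 0x73851624) (.leaf 0x103857624)) (.node (.leaf 0x213857604) (.leaf 0x243857610))) (.node (.node (.leaf 0x180543267) (.leaf 0x581043267)) (.node (.leaf 0x876502431) (.leaf 0x870512436)))) (.node (.node (.node (.leaf 0x801572436) (.leaf 0x815072436)) (.node (.leaf 0x870564231) (.leaf 0x71564238))) (.node (.node (.leaf 0x175064238) (.leaf 0x275164038)) (.node (.leaf 0x275364108) (.leaf 0x205364718))))) (.node (.node (.node (.node (.leaf 0x471586203) (.leaf 0x407586213)) (.node (.leaf 0x417086253) (.leaf 0x467180253))) (.node (.node (.leaf 0x806517234) (.leaf 0x16587234)) (.node (.leaf 0x160587234) (.leaf 0x561087234)))) (.node (.node (.node (.leaf 0x564187230) (.leaf 0x564780231)) (.node (.leaf 0x807543216) (.leaf 0x17543286))) (.node (.node (.leaf 0x137540286) (.leaf 0x856473210)) (.node (.leaf 0x850473261) (.leaf 0x51473268)))))) (.node (.node (.node (.node (.node (.leaf 0x470513268) (.leaf 0x471053268)) (.node (.leaf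 0x75148263) (.leaf 0x175408263))) (.node (.node (.leaf 0x375418260) (.leaf 0x305478261)) (.node (.leaf 0x276403518) (.leaf 0x206413578)))) (.node (.node (.node (.leaf 0x216430578) (.leaf 0x260431578)) (.node (.leaf 0x86543172) (.leaf 0x186543702))) (.node (.node (.leaf 0x786543012) (.leaf 0x740513286)) (.node (.leaf 0x741053286) (.leaf 0x807153462))))) (.node (.node (.node (.node (.leaf 0x17853462) (.leaf 0x137850462)) (.node (.leaf 0x437851062) (.leaf 0x16547832))) (.node (.node (.leaf 0x156047832) (.leaf 0x356147802)) (.node (.leaf 0x356407812) (.leaf 0x350417862)))) (.node (.node (.node (.leaf 0x351487062) (.leaf 0x870516234)) (.node (.leaf 0x871056234) (.leaf 0x873156204))) (.node (.node (.leaf 0x73856214) (.leaf 0x103856274)) (.node (.leaf 0x213856074) (.leaf 0x243856170))))))) (.node (.node (.node (.node (.node (.node (.leaf 0x36541872) (.leaf 0x130546872)) (.node (.leaf 0x531046872) (.leaf 0x532146870))) (.node (.node (.leaf 0x716543280) (.leaf 0x851043276)) (.node (.leaf 0x857143206)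 (.leaf 0x857403216)))) (.node (.node (.node (.leaf 0x57413286) (.leaf 0x871523046)) (.node (.leaf 0x875023146) (.leaf 0x805123746))) (.node (.node (.leaf 0x15823746) (.leaf 0x165823740)) (.node (.leaf 0x365820741) (.leaf 0x518063247))))) (.node (.node (.node (.node (.leaf 0x870643215) (.leaf 0x801643275)) (.node (.leaf 0x815643270) (.leaf 0x825643071))) (.node (.node (.leaf 0x406513278) (.leaf 0x416053278)) (.node (.leaf 0x460153278) (.leaf 0x461350278)))) (.node (.node (.node (.leaf 0x806153274) (.leaf 0x816453270)) (.node (.leaf 0x86453271) (.leaf 0x180453276))) (.node (.node (.leaf 0x281453076) (.leaf 0x836047215)) (.node (.leaf 0x36147285) (.leaf 0x136407285)))))) (.node (.node (.node (.node (.node (.leaf 0x236417085) (.leaf 0x230467185)) (.node (.leaf 0x874513260) (.leaf 0x804573261))) (.node (.node (.leaf 0x14573268) (.leaf 0x124573068)) (.node (.leaf 0x845103267) (.leaf 0x45813267)))) (.node (.node (.node (.leaf 0x145863207) (.leaf 0x876401325)) (.node (.leaf 0x870416325) (.leaf 0x71486325)))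 (.node (.node (.leaf 0x175486320) (.leaf 0x275486301)) (.node (.leaf 0x205486317) (.leaf 0x178643205))))) (.node (.node (.node (.node (.leaf 0x478603215) (.leaf 0x578643210)) (.node (.leaf 0x508643271) (.leaf 0x156087234))) (.node (.node (.leaf 0x356187204) (.leaf 0x356487210)) (.node (.leaf 0x350487261) (.leaf 0x716503248)))) (.node (.node (.node (.leaf 0x760513248) (.leaf 0x170563248)) (.node (.leaf 0x571063248) (.leaf 0x507163248))) (.node (.node (.leaf 0x517603248) (.leaf 0x836041572)) (.node (.leaf 0x36148572) (.leaf 0x136748502))))))))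

def eltsT11 : BT := (.node (.node (.node (.node (.node (.node (.node (.leaf 0x630748512) (.leaf 0x872513064)) (.node (.leaf 0x872053164) (.leaf 0x72153864))) (.node (.node (.leaf 0x102753864) (.leaf 0x512703864)) (.node (.leaf 0x532710864) (.leaf 0x836501472)))) (.node (.node (.node (.leaf 0x836015472) (.leaf 0x836175402)) (.node (.leaf 0x830675412) (.leaf 0x615743280))) (.node (.node (.leaf 0x635740281) (.leaf 0x315760248)) (.node (.leaf 0x875643201) (.leaf 0x75643218))))) (.node (.node (.node (.node (.leaf 0x785143206) (.leaf 0x785340216)) (.node (.leaf 0x873401265) (.leaf 0x73418265))) (.node (.node (.leaf 0x173428065) (.leaf 0x573428160)) (.node (.leaf 0x176542038) (.leaf 0x376542108)))) (.node (.node (.node (.leaf 0x306542718) (.leaf 0x316042758)) (.node (.leaf 0x360142758) (.leaf 0x361402758))) (.node (.node (.leaf 0x58143276) (.leaf 0x158403276)) (.node (.leaf 0x658413270) (.leaf 0x546038127)))))) (.node (.node (.node (.node (.node (.leaf 0x487013256) (.leaf 0x78643251)) (.node (.leaf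 0x108643257) (.leaf 0x78543162))) (.node (.node (.leaf 0x178503462) (.leaf 0x478513062)) (.node (.leaf 0x870453216) (.leaf 0x71453286)))) (.node (.node (.node (.leaf 0x107453286) (.leaf 0x860153247)) (.node (.leaf 0x61853247) (.leaf 0x165803247))) (.node (.node (.leaf 0x365810247) (.leaf 0x806573142)) (.node (.leaf 0x816073542) (.leaf 0x826173540))))) (.node (.node (.node (.node (.leaf 0x820673541) (.leaf 0x21673548)) (.node (.leaf 0x125673048) (.leaf 0x870653412))) (.node (.node (.leaf 0x71653482) (.leaf 0x175603482)) (.node (.leaf 0x375610482) (.leaf 0x305671482)))) (.node (.node (.node (.leaf 0x170548632) (.leaf 0x371548602)) (.node (.leaf 0x307548612) (.leaf 0x317048652))) (.node (.node (.leaf 0x860543217) (.leaf 0x61543287)) (.node (.leaf 0x164503287) (.leaf 0x564013287))))))) (.node (.node (.node (.node (.node (.node (.leaf 0x506183247) (.leaf 0x516380247)) (.node (.leaf 0x560381247) (.leaf 0x561382047))) (.node (.node (.leaf 0x805163247) (.leaf 0x186543270)) (.node (.leaf 0x680543271)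 (.leaf 0x175843206)))) (.node (.node (.node (.leaf 0x375840216) (.leaf 0x815047236)) (.node (.leaf 0x85147236) (.leaf 0x185740236))) (.node (.node (.leaf 0x175063284) (.leaf 0x275163084)) (.node (.leaf 0x275463180) (.leaf 0x205463781))))) (.node (.node (.node (.node (.leaf 0x381640275) (.leaf 0x476015283)) (.node (.leaf 0x470165283) (.leaf 0x471265083))) (.node (.node (.leaf 0x407265183) (.leaf 0x756183240)) (.node (.leaf 0x756380241) (.leaf 0x72583164)))) (.node (.node (.node (.leaf 0x102583764) (.leaf 0x512083764)) (.node (.leaf 0x532180764) (.leaf 0x532781064))) (.node (.node (.leaf 0x126583047) (.leaf 0x526083147)) (.node (.leaf 0x520183647) (.leaf 0x521683047)))))) (.node (.node (.node (.node (.node (.leaf 0x861503247) (.leaf 0x865013247)) (.node (.leaf 0x65183247) (.leaf 0x165380247))) (.node (.node (.leaf 0x176243058) (.leaf 0x706243158)) (.node (.leaf 0x716203458) (.leaf 0x726013458)))) (.node (.node (.node (.leaf 0x726130458) (.leaf 0x720631458)) (.node (.leaf 0x781453206) (.leaf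 0x782453016))) (.node (.node (.leaf 0x270541863) (.leaf 0x201547863)) (.node (.leaf 0x215047863) (.leaf 0x235147860))))) (.node (.node (.node (.node (.leaf 0x235407861) (.leaf 0x806571243)) (.node (.leaf 0x16578243) (.leaf 0x156078243))) (.node (.node (.leaf 0x356178240) (.leaf 0x356478201)) (.node (.leaf 0x807516432) (.leaf 0x17586432)))) (.node (.node (.node (.leaf 0x137586402) (.leaf 0x537086412)) (.node (.leaf 0x76518423) (.leaf 0x170568423))) (.node (.node (.leaf 0x701568423) (.leaf 0x713568420)) (.node (.leaf 0x723568401) (.leaf 0x176045238))))))))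

def eltsT12 : BT := (.node (.node (.node (.node (.node (.node (.node (.leaf 0x376145208) (.leaf 0x306745218)) (.node (.leaf 0x316705248) (.leaf 0x356710248))) (.node (.node (.leaf 0x350761248) (.leaf 0x170843652)) (.node (.leaf 0x371840652) (.leaf 0x307841652)))) (.node (.node (.node (.leaf 0x317804652) (.leaf 0x327814650)) (.node (.leaf 0x185643207) (.leaf 0x785643210))) (.node (.node (.leaf 0x876501342) (.leaf 0x806517342)) (.node (.leaf 0x810567342) (.leaf 0x831567042))))) (.node (.node (.node (.node (.leaf 0x835067142) (.leaf 0x35167842)) (.node (.leaf 0x135467802) (.leaf 0x235467810))) (.node (.node (.leaf 0x841603257) (.leaf 0x461803257)) (.node (.leaf 0x465813207) (.leaf 0x401765283)))) (.node (.node (.node (.leaf 0x415760283) (.leaf 0x817543260)) (.node (.leaf 0x857043261) (.leaf 0x57143268))) (.node (.node (.leaf 0x157403268) (.leaf 0x357410268)) (.node (.leaf 0x357421068) (.leaf 0x78541263)))))) (.node (.node (.node (.node (.node (.leaf 0x178546203) (.leaf 0x678540213)) (.node (.leaf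 0x816530724) (.leaf 0x836501724))) (.node (.node (.leaf 0x830516724) (.leaf 0x31586724)) (.node (.leaf 0x132586704) (.leaf 0x532086714)))) (.node (.node (.node (.leaf 0x74583261) (.leaf 0x104583267)) (.node (.leaf 0x214583067) (.leaf 0x871403256))) (.node (.node (.leaf 0x78413256) (.leaf 0x108473256)) (.node (.leaf 0x318470256) (.leaf 0x712643058))))) (.node (.node (.node (.node (.leaf 0x720643158) (.leaf 0x721603458)) (.node (.leaf 0x723610458) (.leaf 0x718403256))) (.node (.node (.leaf 0x738410256) (.leaf 0x802573164)) (.node (.leaf 0x12573864) (.leaf 0x132570864)))) (.node (.node (.node (.leaf 0x532071864) (.leaf 0x532176804)) (.node (.leaf 0x874501263) (.leaf 0x804517263))) (.node (.node (.leaf 0x814570263) (.leaf 0x461503278)) (.node (.leaf 0x465013278) (.leaf 0x465173208))))))) (.node (.node (.node (.node (.node (.node (.leaf 0x86153247) (.leaf 0x180653247)) (.node (.leaf 0x581603247) (.leaf 0x471530268))) (.node (.node (.leaf 0x870564123) (.leaf 0x871064523)) (.node (.leaf 0x873164520)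 (.leaf 0x701563248)))) (.node (.node (.node (.leaf 0x714563208) (.leaf 0x706143528)) (.node (.leaf 0x716403528) (.leaf 0x756413028))) (.node (.node (.leaf 0x750463128) (.leaf 0x18643275)) (.node (.leaf 0x745603218) (.leaf 0x471603258))))) (.node (.node (.node (.node (.leaf 0x456713208) (.leaf 0x450763218)) (.node (.leaf 0x571843260) (.leaf 0x574803261))) (.node (.node (.leaf 0x504813267) (.leaf 0x851643207)) (.node (.leaf 0x807541263) (.leaf 0x17548263)))) (.node (.node (.node (.leaf 0x157048263) (.leaf 0x357148260)) (.node (.leaf 0x357408261) (.leaf 0x176048532))) (.node (.node (.leaf 0x670148532) (.leaf 0x601748532)) (.node (.leaf 0x615748032) (.leaf 0x635748102)))))) (.node (.node (.node (.node (.node (.leaf 0x836510274) (.leaf 0x836521074)) (.node (.leaf 0x830526174) (.leaf 0x31526874))) (.node (.node (.leaf 0x132506874) (.leaf 0x532016874)) (.node (.leaf 0x106547238) (.leaf 0x716540238)))) (.node (.node (.node (.leaf 0x830516472) (.leaf 0x831056472)) (.node (.leaf 0x856043217) (.leaf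 0x56143287))) (.node (.node (.leaf 0x156403287) (.leaf 0x356410287)) (.node (.leaf 0x718043265) (.leaf 0x865043271))))) (.node (.node (.node (.node (.leaf 0x136840257) (.leaf 0x436801257)) (.node (.leaf 0x430816257) (.leaf 0x431860257))) (.node (.node (.leaf 0x836541027) (.leaf 0x836504127)) (.node (.leaf 0x836014527) (.leaf 0x830164527)))) (.node (.node (.node (.leaf 0x31864527) (.leaf 0x870516342)) (.node (.leaf 0x871056342) (.leaf 0x807156342))) (.node (.node (.leaf 0x17856342) (.leaf 0x137856042)) (.node (.leaf 0x437856102) (.leaf 0x806741253))))))))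

def eltsT13 : BT := (.node (.node (.node (.node (.node (.node (.node (.leaf 0x810746253) (.leaf 0x81746253)) (.node (.leaf 0x185746203) (.leaf 0x685740213))) (.node (.node (.leaf 0x78513264) (.leaf 0x108573264)) (.node (.leaf 0x418573260) (.leaf 0x458073261)))) (.node (.node (.node (.leaf 0x871063254) (.leaf 0x78163254)) (.node (.leaf 0x108763254) (.leaf 0x418763250))) (.node (.node (.leaf 0x438760251) (.leaf 0x876043512)) (.node (.leaf 0x876140532) (.leaf 0x76841532))))) (.node (.node (.node (.node (.leaf 0x170846532) (.leaf 0x271846530)) (.node (.leaf 0x274806531) (.leaf 0x204816537))) (.node (.node (.leaf 0x214836507) (.leaf 0x651043287)) (.node (.leaf 0x874503216) (.leaf 0x86541273)))) (.node (.node (.node (.leaf 0x186547203) (.leaf 0x786540213)) (.node (.leaf 0x403517826) (.leaf 0x413567820))) (.node (.node (.leaf 0x423567801) (.leaf 0x268543017)) (.node (.leaf 0x187643250) (.leaf 0x487603251)))))) (.node (.node (.node (.node (.node (.leaf 0x476503218) (.leaf 0x605143287)) (.node (.leaf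 0x615243087) (.leaf 0x16573284))) (.node (.node (.leaf 0x160573284) (.leaf 0x561073284)) (.node (.leaf 0x564173280) (.leaf 0x157643208)))) (.node (.node (.node (.leaf 0x870563142) (.leaf 0x871560342)) (.node (.leaf 0x875061342) (.leaf 0x805167342))) (.node (.node (.leaf 0x815467302) (.leaf 0x835467012)) (.node (.leaf 0x35467182) (.leaf 0x71643285))))) (.node (.node (.node (.node (.leaf 0x173640285) (.leaf 0x71846235)) (.node (.leaf 0x107846235) (.leaf 0x217846035))) (.node (.node (.leaf 0x237846105) (.leaf 0x237806415)) (.node (.leaf 0x516073248) (.leaf 0x560173248)))) (.node (.node (.node (.leaf 0x816743250) (.leaf 0x860743251)) (.node (.leaf 0x61743258) (.leaf 0x165743208))) (.node (.node (.leaf 0x465703218) (.leaf 0x475103268)) (.node (.leaf 0x76143582) (.leaf 0x170643582))))))) (.node (.node (.node (.node (.node (.node (.leaf 0x701643582) (.leaf 0x715643082)) (.node (.leaf 0x846503172) (.leaf 0x46513872))) (.node (.node (.leaf 0x146053872) (.leaf 0x640153872)) (.node (.leaf 0x641853072)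 (.leaf 0x643850172)))) (.node (.node (.node (.leaf 0x570143268) (.leaf 0x176053248)) (.node (.leaf 0x476153208) (.leaf 0x470653218))) (.node (.node (.leaf 0x401653278) (.leaf 0x415603278)) (.node (.leaf 0x870643152) (.leaf 0x871643502))))) (.node (.node (.node (.node (.leaf 0x875643012) (.leaf 0x587643201)) (.node (.leaf 0x670543218) (.leaf 0x186540237))) (.node (.node (.leaf 0x457013268) (.leaf 0x586043271)) (.node (.leaf 0x675843210) (.leaf 0x605843271)))) (.node (.node (.node (.leaf 0x178543602) (.leaf 0x678543012)) (.node (.leaf 0x581643270) (.leaf 0x584603271))) (.node (.node (.leaf 0x652413078) (.leaf 0x164573208)) (.node (.leaf 0x364570218) (.leaf 0x706541283)))))) (.node (.node (.node (.node (.node (.leaf 0x710546283) (.leaf 0x741506283)) (.node (.leaf 0x743516280) (.leaf 0x743056281))) (.node (.node (.leaf 0x73851462) (.leaf 0x103857462)) (.node (.leaf 0x413857062) (.leaf 0x715043286)))) (.node (.node (.node (.leaf 0x750143286) (.leaf 0x873521406)) (.node (.leaf 0x73528416) (.leaf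 0x173028456))) (.node (.node (.leaf 0x703128456) (.leaf 0x713628450)) (.node (.leaf 0x176403258) (.leaf 0x706413258))))) (.node (.node (.node (.node (.leaf 0x710463258) (.leaf 0x751463208)) (.node (.leaf 0x71583246) (.leaf 0x107583246))) (.node (.node (.leaf 0x417583206) (.leaf 0x467583210)) (.node (.leaf 0x467083251) (.leaf 0x874603251)))) (.node (.node (.node (.leaf 0x804613257) (.leaf 0x814623057)) (.node (.leaf 0x876152043) (.leaf 0x876352140))) (.node (.node (.leaf 0x806352741) (.leaf 0x16352748)) (.node (.leaf 0x876504132) (.leaf 0x876014532))))))))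

def eltsT14 : BT := (.node (.node (.node (.node (.node (.node (.node (.leaf 0x876134502) (.leaf 0x870634512)) (.node (.leaf 0x71634582) (.leaf 0x107634582))) (.node (.node (.leaf 0x217634580) (.leaf 0x267034581)) (.node (.leaf 0x871603452) (.leaf 0x875613402)))) (.node (.node (.node (.leaf 0x805673412) (.leaf 0x71863245)) (.node (.leaf 0x175863240) (.leaf 0x675803241))) (.node (.node (.leaf 0x605813247) (.leaf 0x376510284)) (.node (.leaf 0x376051284) (.leaf 0x370156284))))) (.node (.node (.node (.node (.leaf 0x371456280) (.leaf 0x876045213)) (.node (.leaf 0x76145283) (.leaf 0x176405283))) (.node (.node (.leaf 0x276415083) (.leaf 0x206475183)) (.node (.leaf 0x210475683) (.leaf 0x231475680)))) (.node (.node (.node (.leaf 0x76813254) (.leaf 0x176853204)) (.node (.leaf 0x706853214) (.leaf 0x710853264))) (.node (.node (.leaf 0x751803264) (.leaf 0x806543712)) (.node (.leaf 0x816043752) (.leaf 0x826143750)))))) (.node (.node (.node (.node (.node (.leaf 0x826340751) (.leaf 0x26341758)) (.node (.leaf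 0x126304758) (.leaf 0x620314758))) (.node (.node (.leaf 0x71564823) (.leaf 0x175064823)) (.node (.leaf 0x275164803) (.leaf 0x205764813)))) (.node (.node (.node (.leaf 0x806541723) (.leaf 0x16548723)) (.node (.leaf 0x146508723) (.leaf 0x546018723))) (.node (.node (.leaf 0x546138720) (.leaf 0x546738021)) (.node (.leaf 0x865743210) (.leaf 0x65743281))))) (.node (.node (.node (.node (.leaf 0x806173452) (.leaf 0x810673452)) (.node (.leaf 0x831670452) (.leaf 0x835671402))) (.node (.node (.leaf 0x35678412) (.leaf 0x275410368)) (.node (.leaf 0x205471368) (.leaf 0x806473251)))) (.node (.node (.node (.leaf 0x810473256) (.leaf 0x831470256)) (.node (.leaf 0x358470261) (.leaf 0x412653078))) (.node (.node (.leaf 0x467513208) (.leaf 0x715403268)) (.node (.leaf 0x276540138) (.leaf 0x276501438))))))) (.node (.node (.node (.node (.node (.node (.leaf 0x206517438) (.leaf 0x210567438)) (.node (.leaf 0x231567408) (.leaf 0x235067418))) (.node (.node (.leaf 0x876253041) (.leaf 0x76253148)) (.node (.leaf 0x106253748)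 (.leaf 0x316250748)))) (.node (.node (.node (.leaf 0x270543168) (.leaf 0x201543768)) (.node (.leaf 0x215043768) (.leaf 0x235140768))) (.node (.node (.leaf 0x235401768) (.leaf 0x876401253)) (.node (.leaf 0x870416253) (.leaf 0x871426053))))) (.node (.node (.node (.node (.leaf 0x875426103) (.leaf 0x805426713)) (.node (.leaf 0x187543206) (.leaf 0x487503216))) (.node (.node (.leaf 0x518643207) (.leaf 0x865147230)) (.node (.leaf 0x865407231) (.leaf 0x65417238)))) (.node (.node (.node (.leaf 0x165437208) (.leaf 0x265437018)) (.node (.leaf 0x816530247) (.leaf 0x860531247))) (.node (.node (.leaf 0x861537240) (.leaf 0x865037241)) (.node (.leaf 0x65137248) (.leaf 0x805643217)))))) (.node (.node (.node (.node (.node (.leaf 0x15643287) (.leaf 0x216743058)) (.node (.leaf 0x564073218) (.leaf 0x15863247))) (.node (.node (.leaf 0x816573402) (.leaf 0x836570412)) (.node (.leaf 0x830571462) (.leaf 0x31578462)))) (.node (.node (.node (.leaf 0x571043286) (.leaf 0x507143286)) (.node (.leaf 0x517643280) (.leaf 0x547603281)))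 (.node (.node (.leaf 0x36581274) (.leaf 0x130586274)) (.node (.leaf 0x531086274) (.leaf 0x532186074))))) (.node (.node (.node (.node (.leaf 0x532786104) (.leaf 0x76153842)) (.node (.leaf 0x106753842) (.leaf 0x610753842))) (.node (.node (.leaf 0x631750842) (.leaf 0x635701842)) (.node (.leaf 0x160583247) (.leaf 0x761583240)))) (.node (.node (.node (.leaf 0x764583201) (.leaf 0x471523068)) (.node (.leaf 0x803756214) (.leaf 0x13756284))) (.node (.node (.leaf 0x143756280) (.leaf 0x31548672)) (.node (.leaf 0x135048672) (.leaf 0x635148072))))))))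

def eltsT15 : BT := (.node (.node (.node (.node (.node (.node (.node (.leaf 0x816273045) (.leaf 0x86273145)) (.node (.leaf 0x180273645) (.leaf 0x581273640))) (.node (.node (.leaf 0x583270641) (.leaf 0x568043217)) (.node (.leaf 0x167543280) (.leaf 0x267543081)))) (.node (.node (.node (.leaf 0x658043271) (.leaf 0x570863241)) (.node (.leaf 0x501863247) (.leaf 0x801643752))) (.node (.node (.leaf 0x817643052) (.leaf 0x856073241)) (.node (.leaf 0x56173248) (.leaf 0x156473208))))) (.node (.node (.node (.node (.leaf 0x650473218) (.leaf 0x876051432)) (.node (.leaf 0x870156432) (.leaf 0x71856432))) (.node (.node (.leaf 0x173856402) (.leaf 0x703856412)) (.node (.leaf 0x876041523) (.leaf 0x876104523)))) (.node (.node (.node (.leaf 0x876314520) (.leaf 0x870364521)) (.node (.leaf 0x801364527) (.leaf 0x813064527))) (.node (.node (.leaf 0x176503428) (.leaf 0x670513428)) (.node (.leaf 0x671053428) (.leaf 0x607153428)))))) (.node (.node (.node (.node (.node (.leaf 0x617453028) (.leaf 0x637450128)) (.node (.leaf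 0x860413257) (.leaf 0x61483257))) (.node (.node (.leaf 0x165483207) (.leaf 0x670518243)) (.node (.leaf 0x601578243) (.leaf 0x613578240)))) (.node (.node (.node (.leaf 0x653078241) (.leaf 0x74518263)) (.node (.leaf 0x174580263) (.leaf 0x174583206))) (.node (.node (.leaf 0x136248570) (.leaf 0x630248571)) (.node (.leaf 0x631208574) (.leaf 0x86543217))))) (.node (.node (.node (.node (.leaf 0x537640281) (.leaf 0x806513472)) (.node (.leaf 0x810563472) (.leaf 0x831560472))) (.node (.node (.leaf 0x835061472) (.leaf 0x713640258)) (.node (.leaf 0x723641058) (.leaf 0x723648150)))) (.node (.node (.node (.leaf 0x723608451) (.leaf 0x824713056)) (.node (.leaf 0x24783156) (.leaf 0x124783650))) (.node (.node (.leaf 0x324780651) (.leaf 0x172643085)) (.node (.leaf 0x173508264) (.leaf 0x573018264))))))) (.node (.node (.node (.node (.node (.node (.leaf 0x573128064) (.leaf 0x816503742)) (.node (.leaf 0x836510742) (.leaf 0x36581742))) (.node (.node (.leaf 0x130586742) (.leaf 0x431586702)) (.node (.leaf 0x435086712)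 (.leaf 0x761543208)))) (.node (.node (.node (.leaf 0x765043218) (.leaf 0x470583216)) (.node (.leaf 0x471083256) (.leaf 0x875043216))) (.node (.node (.leaf 0x817056432) (.leaf 0x837156402)) (.node (.leaf 0x37856412) (.leaf 0x106543728))))) (.node (.node (.node (.node (.leaf 0x216543708) (.leaf 0x236540718)) (.node (.leaf 0x236041758) (.leaf 0x230146758))) (.node (.node (.leaf 0x231406758) (.leaf 0x238416750)) (.node (.leaf 0x681543207) (.leaf 0x170546238)))) (.node (.node (.node (.leaf 0x471506238) (.leaf 0x407516238)) (.node (.leaf 0x417056238) (.leaf 0x467150238))) (.node (.node (.leaf 0x875403261) (.leaf 0x75413268)) (.node (.leaf 0x105473268) (.leaf 0x472503168)))))) (.node (.node (.node (.node (.node (.leaf 0x472510368) (.leaf 0x472051368)) (.node (.leaf 0x472158360) (.leaf 0x106743825))) (.node (.node (.leaf 0x516743820) (.leaf 0x546703821)) (.node (.leaf 0x540713826) (.leaf 0x541730826)))) (.node (.node (.node (.leaf 0x756143208) (.leaf 0x750643218)) (.node (.leaf 0x873541602) (.leaf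 0x873045612))) (.node (.node (.leaf 0x803145672) (.leaf 0x765083241)) (.node (.leaf 0x165043287) (.leaf 0x478503261))))) (.node (.node (.node (.node (.leaf 0x874503162) (.leaf 0x804513762)) (.node (.leaf 0x814573062) (.leaf 0x56843271))) (.node (.node (.leaf 0x150843276) (.leaf 0x351840276)) (.node (.leaf 0x610573248) (.leaf 0x681573240)))) (.node (.node (.node (.leaf 0x684573201) (.leaf 0x36518472)) (.node (.leaf 0x130568472) (.leaf 0x631508472))) (.node (.node (.leaf 0x635018472) (.leaf 0x876403152)) (.node (.leaf 0x806413752) (.leaf 0x16483752))))))))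

def eltsT16 : BT := (.node (.node (.node (.node (.node (.node (.node (.leaf 0x160483752) (.leaf 0x361480752)) (.node (.leaf 0x476513280) (.leaf 0x470563281))) (.node (.node (.leaf 0x401563287) (.leaf 0x415063287)) (.node (.leaf 0x425163087) (.leaf 0x357180264)))) (.node (.node (.node (.leaf 0x357481260) (.leaf 0x357482061)) (.node (.leaf 0x816043527) (.leaf 0x836140527))) (.node (.node (.leaf 0x830641527) (.leaf 0x831604527)) (.node (.leaf 0x871602435) (.leaf 0x875612430))))) (.node (.node (.node (.node (.leaf 0x805672431) (.leaf 0x760543281)) (.node (.leaf 0x357160248) (.leaf 0x357461208))) (.node (.node (.leaf 0x356421087) (.leaf 0x854603217)) (.node (.leaf 0x846531720) (.leaf 0x46538721)))) (.node (.node (.node (.leaf 0x140538726) (.leaf 0x541038726)) (.node (.leaf 0x876142503) (.leaf 0x876402513))) (.node (.node (.leaf 0x806412573) (.leaf 0x816432570)) (.node (.leaf 0x860432571) (.leaf 0x61432578)))))) (.node (.node (.node (.node (.node (.leaf 0x836140275) (.leaf 0x836401275)) (.node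 (.leaf 0x830416275) (.leaf 0x31486275))) (.node (.node (.leaf 0x135486270) (.leaf 0x235486071)) (.node (.leaf 0x831640257) (.leaf 0x385140276)))) (.node (.node (.node (.leaf 0x76453218) (.leaf 0x170453268)) (.node (.leaf 0x701453268) (.leaf 0x138640275))) (.node (.node (.leaf 0x76413285) (.leaf 0x106473285)) (.node (.leaf 0x316470285) (.leaf 0x170645283))))) (.node (.node (.node (.node (.leaf 0x701645283) (.leaf 0x715640283)) (.node (.leaf 0x861403275) (.leaf 0x865413270))) (.node (.node (.leaf 0x865430271) (.leaf 0x65431278)) (.node (.leaf 0x165432078) (.leaf 0x306417285)))) (.node (.node (.node (.leaf 0x316427085) (.leaf 0x356427180)) (.node (.leaf 0x170563824) (.leaf 0x371560824))) (.node (.node (.leaf 0x375061824) (.leaf 0x375164820)) (.node (.leaf 0x305764821) (.leaf 0x810546237))))))) (.node (.node (.node (.node (.node (.node (.leaf 0x831546207) (.leaf 0x835046217)) (.node (.leaf 0x35146287) (.leaf 0x135406287))) (.node (.node (.leaf 0x235416087) (.leaf 0x271563048)) (.node (.leaf 0x275063148)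 (.leaf 0x205163748)))) (.node (.node (.node (.leaf 0x215463708) (.leaf 0x235460718)) (.node (.leaf 0x76852314) (.leaf 0x170852364))) (.node (.node (.leaf 0x471852360) (.leaf 0x180543672)) (.node (.leaf 0x681543072) (.leaf 0x756483201))))) (.node (.node (.node (.node (.leaf 0x836045127) (.leaf 0x36145827)) (.node (.leaf 0x136405827) (.leaf 0x236415807))) (.node (.node (.leaf 0x230465817) (.leaf 0x371540286)) (.node (.leaf 0x307541286) (.leaf 0x317546280)))) (.node (.node (.node (.leaf 0x276513084) (.leaf 0x276530184)) (.node (.leaf 0x276031584) (.leaf 0x270136584))) (.node (.node (.leaf 0x271436580) (.leaf 0x207436581)) (.node (.leaf 0x486573210) (.leaf 0x480573261)))))) (.node (.node (.node (.node (.node (.leaf 0x167850342) (.leaf 0x467851302)) (.node (.leaf 0x176530824) (.leaf 0x576031824))) (.node (.node (.leaf 0x570136824) (.leaf 0x501736824)) (.node (.leaf 0x512736804) (.leaf 0x532706814)))) (.node (.node (.node (.leaf 0x78643512) (.leaf 0x108643572)) (.node (.leaf 0x518643072) (.leaf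 0x68172435))) (.node (.node (.leaf 0x107853264) (.leaf 0x417853260)) (.node (.leaf 0x610743258) (.leaf 0x651743208))))) (.node (.node (.node (.node (.leaf 0x653740218) (.leaf 0x851743260)) (.node (.leaf 0x58743261) (.leaf 0x783541206))) (.node (.node (.leaf 0x135740268) (.leaf 0x806153427)) (.node (.leaf 0x16853427) (.leaf 0x160853427)))) (.node (.node (.node (.leaf 0x261853407) (.leaf 0x263850417)) (.node (.leaf 0x871530246) (.leaf 0x873501246))) (.node (.node (.leaf 0x156048237) (.leaf 0x456108237)) (.node (.leaf 0x456810237) (.leaf 0x781543260))))))))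

def eltsT17 : BT := (.node (.node (.node (.node (.node (.node (.node (.leaf 0x816547023) (.leaf 0x846507123)) (.node (.leaf 0x46517823) (.leaf 0x146057823))) (.node (.node (.leaf 0x246157803) (.leaf 0x246357810)) (.node (.leaf 0x240357861) (.leaf 0x651340278)))) (.node (.node (.node (.leaf 0x871504236) (.leaf 0x873514206)) (.node (.leaf 0x803574216) (.leaf 0x13574286))) (.node (.node (.leaf 0x183574206) (.leaf 0x483570216)) (.node (.leaf 0x483071256) (.leaf 0x285713046))))) (.node (.node (.node (.node (.leaf 0x703541268) (.leaf 0x713045268)) (.node (.leaf 0x753140268) (.leaf 0x18743256))) (.node (.node (.leaf 0x180743256) (.leaf 0x481703256)) (.node (.leaf 0x461508237) (.leaf 0x463518207)))) (.node (.node (.node (.leaf 0x463578210) (.leaf 0x17543862)) (.node (.leaf 0x147503862) (.leaf 0x247513860))) (.node (.node (.leaf 0x247530861) (.leaf 0x247031865)) (.node (.leaf 0x876342105) (.leaf 0x876302415)))))) (.node (.node (.node (.node (.node (.leaf 0x870312465) (.leaf 0x801372465)) (.node (.leaf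 0x18372465) (.leaf 0x148372065))) (.node (.node (.leaf 0x13857264) (.leaf 0x143857260)) (.node (.leaf 0x243857061) (.leaf 0x263548071)))) (.node (.node (.node (.leaf 0x263048175) (.leaf 0x86341725)) (.node (.leaf 0x186342705) (.leaf 0x286340715))) (.node (.node (.leaf 0x280341765) (.leaf 0x245317860)) (.node (.leaf 0x76853241) (.leaf 0x106853247))))) (.node (.node (.node (.node (.leaf 0x416853207) (.leaf 0x653041278)) (.node (.leaf 0x86743251) (.leaf 0x103547286))) (.node (.node (.leaf 0x264308175) (.leaf 0x758403261)) (.node (.leaf 0x187304265) (.leaf 0x487310265)))) (.node (.node (.node (.leaf 0x651843270) (.leaf 0x652843071)) (.node (.leaf 0x176843502) (.leaf 0x706843512))) (.node (.node (.leaf 0x710843562) (.leaf 0x751843062)) (.node (.leaf 0x618043257) (.leaf 0x816503427))))))) (.node (.node (.node (.node (.node (.node (.leaf 0x860513427) (.leaf 0x861523407)) (.node (.leaf 0x863520417) (.leaf 0x863021457))) (.node (.node (.leaf 0x863125407) (.leaf 0x63825417)) (.node (.leaf 0x158340276)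 (.leaf 0x258341076)))) (.node (.node (.node (.leaf 0x258346170) (.leaf 0x487513260)) (.node (.leaf 0x875103246) (.leaf 0x805713246))) (.node (.node (.leaf 0x15783246) (.leaf 0x125783046)) (.node (.leaf 0x271540368) (.leaf 0x275041368))))) (.node (.node (.node (.node (.leaf 0x205147368) (.leaf 0x205347861)) (.node (.leaf 0x710843256) (.leaf 0x751843206))) (.node (.node (.leaf 0x871523460) (.leaf 0x873520461)) (.node (.leaf 0x803521467) (.leaf 0x813025467)))) (.node (.node (.node (.leaf 0x83125467) (.leaf 0x672543081)) (.node (.leaf 0x718643250) (.leaf 0x758643201))) (.node (.node (.leaf 0x73518246) (.leaf 0x683542071)) (.node (.leaf 0x187342065) (.leaf 0x287340165)))))) (.node (.node (.node (.node (.node (.leaf 0x178340265) (.leaf 0x278341065)) (.node (.leaf 0x278304165) (.leaf 0x208314765))) (.node (.node (.leaf 0x123547068) (.leaf 0x240657813)) (.node (.leaf 0x867042135) (.leaf 0x67142835)))) (.node (.node (.node (.leaf 0x176058423) (.leaf 0x276158403)) (.node (.leaf 0x206758413) (.leaf 0x210758463)))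 (.node (.node (.leaf 0x806374215) (.leaf 0x810374265)) (.node (.leaf 0x841370265) (.leaf 0x48371265))))) (.node (.node (.node (.node (.leaf 0x876324015) (.leaf 0x870324165)) (.node (.leaf 0x71324865) (.leaf 0x76158324))) (.node (.node (.leaf 0x176458320) (.leaf 0x276458301)) (.node (.leaf 0x206458317) (.leaf 0x210458367)))) (.node (.node (.node (.leaf 0x648503271) (.leaf 0x756843210)) (.node (.leaf 0x750843261) (.leaf 0x261843057))) (.node (.node (.leaf 0x263840157) (.leaf 0x263801457)) (.node (.leaf 0x263815407) (.leaf 0x456380217))))))))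

def eltsT18 : BT := (.node (.node (.node (.node (.node (.node (.node (.leaf 0x860541327) (.leaf 0x861045327)) (.node (.leaf 0x863145027) (.leaf 0x63845127))) (.node (.node (.leaf 0x135780246) (.leaf 0x407153268)) (.node (.leaf 0x871043652) (.leaf 0x78143652)))) (.node (.node (.node (.leaf 0x108743652) (.leaf 0x618743052)) (.node (.leaf 0x671504283) (.leaf 0x607514283))) (.node (.node (.leaf 0x617054283) (.leaf 0x647150283)) (.node (.leaf 0x736540281) (.leaf 0x107643285))))) (.node (.node (.node (.node (.leaf 0x614503278) (.leaf 0x576840213)) (.node (.leaf 0x726543081) (.leaf 0x487103265))) (.node (.node (.leaf 0x576043218) (.leaf 0x405713268)) (.node (.leaf 0x415723068) (.leaf 0x186573204)))) (.node (.node (.node (.leaf 0x786503214) (.leaf 0)) (.leaf 0)) (.leaf 0)))) (.leaf 0)) (.leaf 0))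

def eltsT19 : BT := (.leaf 0)

def eltsT20 : BT := (.leaf 0)

def eltsT21 : BT := (.leaf 0)

def eltsT22 : BT := (.leaf 0)

def eltsT23 : BT := (.leaf 0)

def eltsT24 : BT := (.leaf 0)

def eltsT25 : BT := (.leaf 0)

def eltsT26 : BT := (.leaf 0)

def eltsT27 : BT := (.leaf 0)

def eltsT28 : BT := (.leaf 0)

def eltsT29 : BT := (.leaf 0)

def eltsT30 : BT := (.leaf 0)

def eltsT31 : BT := (.leaf 0)

/-- Table. -/
def eltsT : BT := (.node (.node (.node (.node (.node eltsT0 eltsT1) (.node eltsT2 eltsT3)) (.node (.node eltsT4 eltsT5) (.node eltsT6 eltsT7))) (.node (.node (.node eltsT8 eltsT9) (.node eltsT10 eltsT11)) (.node (.node eltsT12 eltsT13) (.node eltsT14 eltsT15)))) (.node (.node (.node (.node eltsT16 eltsT17) (.node eltsT18 eltsT19)) (.node (.node eltsT20 eltsT21) (.node eltsT22 eltsT23))) (.node (.node (.node eltsT24 eltsT25) (.node eltsT26 eltsT27)) (.node (.node eltsT28 eltsT29) (.node eltsT30 eltsT31)))))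

def eltsP0 : BT := (.node (.node (.node (.node (.node (.node (.node (.leaf 0x0) (.leaf 0x0)) (.node (.leaf 0x101) (.leaf 0x201))) (.node (.node (.leaf 0x300) (.leaf 0x1)) (.node (.leaf 0x500) (.leaf 0x2)))) (.node (.node (.node (.leaf 0x704) (.leaf 0x803)) (.node (.leaf 0x905) (.leaf 0xa02))) (.node (.node (.leaf 0xb04) (.leaf 0x703)) (.node (.leaf 0xd04) (.leaf 0xe05))))) (.node (.node (.node (.node (.leaf 0xf02) (.leaf 0x1003)) (.node (.leaf 0xd03) (.leaf 0x1202))) (.node (.node (.leaf 0x204) (.leaf 0x1405)) (.node (.leaf 0x1500) (.leaf 0x1601)))) (.node (.node (.node (.leaf 0x1703) (.leaf 0x1802)) (.node (.leaf 0x701) (.leaf 0x302))) (.node (.node (.leaf 0x1b03) (.leaf 0x1c00)) (.node (.leaf 0x103) (.leaf 0x1e03)))))) (.node (.node (.node (.node (.node (.leaf 0x1f00) (.leaf 0x202)) (.node (.leaf 0x2104) (.leaf 0x2203))) (.node (.node (.leaf 0x2303) (.leaf 0x2401)) (.node (.leaf 0x604) (.leaf 0x2602)))) (.node (.node (.node (.leaf 0x2703) (.leaf 0x2801)) (.node (.leaf 0x2901) (.leaf 0x102)))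 (.node (.node (.leaf 0x2b01) (.leaf 0x2c03)) (.node (.leaf 0x2d00) (.leaf 0x2e02))))) (.node (.node (.node (.node (.leaf 0x2f04) (.leaf 0x3005)) (.node (.leaf 0x2b02) (.leaf 0x3204))) (.node (.node (.leaf 0x3305) (.leaf 0x3400)) (.node (.leaf 0x2f05) (.leaf 0x3604)))) (.node (.node (.node (.leaf 0x104) (.leaf 0x3802)) (.node (.leaf 0x3900) (.leaf 0x3a04))) (.node (.node (.leaf 0x3b05) (.leaf 0x402)) (.node (.leaf 0x3d04) (.leaf 0x3e03))))))) (.node (.node (.node (.node (.node (.node (.leaf 0x3f05) (.leaf 0x4002)) (.node (.leaf 0x4104) (.leaf 0x502))) (.node (.node (.leaf 0x4300) (.leaf 0x4405)) (.node (.leaf 0x4502) (.leaf 0x4604)))) (.node (.node (.node (.leaf 0x4703) (.leaf 0x4802)) (.node (.leaf 0x4906) (.leaf 0x2100))) (.node (.node (.leaf 0x4b05) (.leaf 0x4c03)) (.node (.leaf 0x4d04) (.leaf 0x4e06))))) (.node (.node (.node (.node (.leaf 0x4f02) (.leaf 0xd00)) (.node (.leaf 0x5102) (.leaf 0x5204))) (.node (.node (.leaf 0x5305) (.leaf 0x3205)) (.node (.leaf 0x5504) (.leaf 0x5606)))) (.node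 (.node (.node (.leaf 0x5701) (.leaf 0x5802)) (.node (.leaf 0x705) (.leaf 0x5a04))) (.node (.node (.leaf 0x5b02) (.leaf 0x5c05)) (.node (.leaf 0x5d06) (.leaf 0x4)))))) (.node (.node (.node (.node (.node (.leaf 0x5f03) (.leaf 0x6006)) (.node (.leaf 0x6100) (.leaf 0x6200))) (.node (.node (.leaf 0x6302) (.leaf 0x6401)) (.node (.leaf 0x6505) (.leaf 0xe02)))) (.node (.node (.node (.leaf 0x6705) (.leaf 0x6806)) (.node (.leaf 0x6902) (.leaf 0x6a01))) (.node (.node (.leaf 0x503) (.leaf 0x6c05)) (.node (.leaf 0x6d01) (.leaf 0x6e02))))) (.node (.node (.node (.node (.leaf 0x5) (.leaf 0x7005)) (.node (.leaf 0x7102) (.leaf 0x7206))) (.node (.node (.leaf 0x7304) (.leaf 0x7004)) (.node (.leaf 0x7502) (.leaf 0x7601)))) (.node (.node (.node (.leaf 0x7704) (.leaf 0x7806)) (.node (.leaf 0x2105) (.leaf 0x7a04))) (.node (.node (.leaf 0x7b02) (.leaf 0x7c03)) (.node (.leaf 0x7d06) (.leaf 0x7e01))))))))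

def eltsP1 : BT := (.node (.node (.node (.node (.node (.node (.node (.leaf 0x7f00) (.leaf 0x600)) (.node (.leaf 0x8104) (.leaf 0x8203))) (.node (.node (.leaf 0x8305) (.leaf 0x3)) (.node (.leaf 0x8505) (.leaf 0x8606)))) (.node (.node (.node (.leaf 0x8702) (.leaf 0x8802)) (.node (.leaf 0x8901) (.leaf 0x5f00))) (.node (.node (.leaf 0x8b05) (.leaf 0x8c04)) (.node (.leaf 0x8d01) (.leaf 0x7101))))) (.node (.node (.node (.node (.leaf 0x7003) (.leaf 0x9000)) (.node (.leaf 0x9101) (.leaf 0x9204))) (.node (.node (.leaf 0x9305) (.leaf 0x6005)) (.node (.leaf 0x9502) (.leaf 0x9603)))) (.node (.node (.node (.leaf 0x9706) (.leaf 0x8503)) (.node (.leaf 0x9901) (.leaf 0x9a04))) (.node (.node (.leaf 0x9b00) (.leaf 0x9c05)) (.node (.leaf 0x9d06) (.leaf 0x504)))))) (.node (.node (.node (.node (.node (.leaf 0x9f04) (.leaf 0xa006)) (.node (.leaf 0xa105) (.leaf 0xa204))) (.node (.node (.leaf 0x6001) (.leaf 0xa406)) (.node (.leaf 0xa505) (.leaf 0xa603)))) (.node (.node (.node (.leaf 0xa700) (.leaf 0x6)) (.node (.leaf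 0xa904) (.leaf 0xaa04))) (.node (.node (.leaf 0xab01) (.leaf 0x9906)) (.node (.leaf 0xad04) (.leaf 0xae02))))) (.node (.node (.node (.node (.leaf 0xaf05) (.leaf 0xb000)) (.node (.leaf 0x8504) (.leaf 0xb206))) (.node (.node (.leaf 0xb305) (.leaf 0xb404)) (.node (.leaf 0xb503) (.leaf 0x7000)))) (.node (.node (.node (.leaf 0xb701) (.leaf 0xb804)) (.node (.leaf 0xb903) (.leaf 0x4306))) (.node (.node (.leaf 0xbb01) (.leaf 0xbc02)) (.node (.leaf 0xbd03) (.leaf 0xbe04))))))) (.node (.node (.node (.node (.node (.node (.leaf 0x605) (.leaf 0xc001)) (.node (.leaf 0xc101) (.leaf 0xc206))) (.node (.node (.leaf 0xc304) (.leaf 0x9002)) (.node (.leaf 0xc501) (.leaf 0xc604)))) (.node (.node (.node (.leaf 0x105) (.leaf 0xc804)) (.node (.leaf 0xc900) (.leaf 0xca05))) (.node (.node (.leaf 0xcb06) (.leaf 0xe01)) (.node (.leaf 0xcd05) (.leaf 0xce02))))) (.node (.node (.node (.node (.leaf 0xcf02) (.leaf 0xa600)) (.node (.leaf 0xd106) (.leaf 0x804))) (.node (.node (.leaf 0xd306) (.leaf 0xd405)) (.node (.leaf 0xd504)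 (.leaf 0xa905)))) (.node (.node (.node (.leaf 0x9506) (.leaf 0xd806)) (.node (.leaf 0xd900) (.leaf 0x6e00))) (.node (.node (.leaf 0xd700) (.leaf 0xdc01)) (.node (.leaf 0xdd04) (.leaf 0x5f06)))))) (.node (.node (.node (.node (.node (.leaf 0xdf01) (.leaf 0xe004)) (.node (.leaf 0xe100) (.leaf 0xe205))) (.node (.node (.leaf 0xe105) (.leaf 0x100)) (.node (.leaf 0xe501) (.leaf 0xe603)))) (.node (.node (.node (.leaf 0xe704) (.leaf 0xe806)) (.node (.leaf 0xe901) (.leaf 0xea05))) (.node (.node (.leaf 0xeb02) (.leaf 0xec03)) (.node (.leaf 0x9a06) (.leaf 0xee05))))) (.node (.node (.node (.node (.leaf 0xef04) (.leaf 0xf002)) (.node (.leaf 0xdf06) (.leaf 0xf204))) (.node (.node (.leaf 0x5f01) (.leaf 0xf401)) (.node (.leaf 0xf505) (.leaf 0xf606)))) (.node (.node (.node (.leaf 0xf703) (.leaf 0x9102)) (.node (.leaf 0xf906) (.leaf 0xfa01))) (.node (.node (.leaf 0xfb03) (.leaf 0xfc04)) (.node (.leaf 0x6d00) (.leaf 0xfe00))))))))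

def eltsP2 : BT := (.node (.node (.node (.node (.node (.node (.node (.leaf 0x8602) (.leaf 0x10002)) (.node (.leaf 0x6c00) (.leaf 0x10204))) (.node (.node (.leaf 0x10305) (.leaf 0x10405)) (.node (.leaf 0x9004) (.leaf 0x10600)))) (.node (.node (.node (.leaf 0x10706) (.leaf 0x10801)) (.node (.leaf 0x10900) (.leaf 0x1406))) (.node (.node (.leaf 0x10b03) (.leaf 0x10c00)) (.node (.leaf 0x10d01) (.leaf 0x10e05))))) (.node (.node (.node (.node (.leaf 0x1e02) (.leaf 0x11001)) (.node (.leaf 0x11105) (.leaf 0x11206))) (.node (.node (.leaf 0x11302) (.leaf 0x11400)) (.node (.leaf 0x7506) (.leaf 0x11603)))) (.node (.node (.node (.leaf 0x11702) (.leaf 0x11805)) (.node (.leaf 0x11901) (.leaf 0xdb06))) (.node (.node (.leaf 0x11b04) (.leaf 0xd006)) (.node (.leaf 0x5f05) (.leaf 0x11e02)))))) (.node (.node (.node (.node (.node (.leaf 0x11f02) (.leaf 0xd703)) (.node (.leaf 0x12100) (.leaf 0x12201))) (.node (.node (.leaf 0x12304) (.leaf 0x12405)) (.node (.leaf 0x12502) (.leaf 0x5a06)))) (.node (.node (.node (.leaf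 0x12702) (.leaf 0x12802)) (.node (.leaf 0x12903) (.leaf 0x8706))) (.node (.node (.leaf 0x12b02) (.leaf 0x9f06)) (.node (.leaf 0x12d01) (.leaf 0x12e01))))) (.node (.node (.node (.node (.leaf 0xd704) (.leaf 0x13000)) (.node (.leaf 0x13105) (.leaf 0xb700))) (.node (.node (.leaf 0x13304) (.leaf 0x6c02)) (.node (.leaf 0x13501) (.leaf 0x13604)))) (.node (.node (.node (.leaf 0x13706) (.leaf 0x13805)) (.node (.leaf 0x8f06) (.leaf 0x13a00))) (.node (.node (.leaf 0x13b04) (.leaf 0xa903)) (.node (.leaf 0x13d04) (.leaf 0x13e05))))))) (.node (.node (.node (.node (.node (.node (.leaf 0x13f05) (.leaf 0x14002)) (.node (.leaf 0x1e06) (.leaf 0x14201))) (.node (.node (.leaf 0x14300) (.leaf 0x14405)) (.node (.leaf 0x14504) (.leaf 0x11e01)))) (.node (.node (.node (.leaf 0x14703) (.leaf 0x14805)) (.node (.leaf 0x14906) (.leaf 0xd701))) (.node (.node (.leaf 0x13306) (.leaf 0x14c03)) (.node (.leaf 0x14d01) (.leaf 0x14e02))))) (.node (.node (.node (.node (.leaf 0x14f04) (.leaf 0x13b02)) (.node (.leaf 0x15104) (.leaf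 0x8b01))) (.node (.node (.leaf 0x15306) (.leaf 0x15405)) (.node (.leaf 0x15500) (.leaf 0x15602)))) (.node (.node (.node (.leaf 0x1e04) (.leaf 0x15800)) (.node (.leaf 0x15905) (.leaf 0x15a06))) (.node (.node (.leaf 0x15b00) (.leaf 0x3806)) (.node (.leaf 0x15d03) (.leaf 0x15e00)))))) (.node (.node (.node (.node (.node (.leaf 0x15f01) (.leaf 0x16005)) (.node (.leaf 0x9003) (.leaf 0x16204))) (.node (.node (.leaf 0x16306) (.leaf 0x13403)) (.node (.leaf 0x16502) (.leaf 0xb704)))) (.node (.node (.node (.leaf 0x16706) (.leaf 0x16803)) (.node (.leaf 0x16900) (.leaf 0x16a01))) (.node (.node (.leaf 0x16b02) (.leaf 0xf904)) (.node (.leaf 0x1400) (.leaf 0x16e05))))) (.node (.node (.node (.node (.leaf 0x16f06) (.leaf 0x17001)) (.node (.leaf 0x17102) (.leaf 0x6003))) (.node (.node (.leaf 0x17301) (.leaf 0x17406)) (.node (.leaf 0x17505) (.leaf 0x17600)))) (.node (.node (.node (.leaf 0x17702) (.leaf 0xd05)) (.node (.leaf 0x17901) (.leaf 0x17a02))) (.node (.node (.leaf 0x17b06) (.leaf 0x17c04)) (.node (.leaf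 0x17d00) (.leaf 0x17e03))))))))

def eltsP3 : BT := (.node (.node (.node (.node (.node (.node (.node (.leaf 0xa001) (.leaf 0x18006)) (.node (.leaf 0x11e03) (.leaf 0x18203))) (.node (.node (.leaf 0x18306) (.leaf 0x15801)) (.node (.leaf 0x18505) (.leaf 0x18600)))) (.node (.node (.node (.leaf 0x18700) (.leaf 0x18806)) (.node (.leaf 0x11e06) (.leaf 0x18a03))) (.node (.node (.leaf 0x18b05) (.leaf 0x18c00)) (.node (.leaf 0x13001) (.leaf 0x18e05))))) (.node (.node (.node (.node (.leaf 0x18f00) (.leaf 0x9006)) (.node (.leaf 0x19104) (.leaf 0x19205))) (.node (.node (.leaf 0x13e01) (.leaf 0x19405)) (.node (.leaf 0x19500) (.leaf 0x19600)))) (.node (.node (.node (.leaf 0x5f02) (.leaf 0x19801)) (.node (.leaf 0x19903) (.leaf 0x19a00))) (.node (.node (.leaf 0x19b06) (.leaf 0x19c05)) (.node (.leaf 0x5d03) (.leaf 0xaa00)))))) (.node (.node (.node (.node (.node (.leaf 0x19f05) (.leaf 0x1a004)) (.node (.leaf 0x1a101) (.leaf 0x9504))) (.node (.node (.leaf 0x1a302) (.leaf 0xe504)) (.node (.leaf 0x1a506) (.leaf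 0x1a605)))) (.node (.node (.node (.leaf 0x1a703) (.leaf 0x1a800)) (.node (.leaf 0x3901) (.leaf 0x1aa03))) (.node (.node (.leaf 0x1ab06) (.leaf 0x1ac04)) (.node (.leaf 0x1ad00) (.leaf 0x6a00))))) (.node (.node (.node (.node (.leaf 0x5f04) (.leaf 0x1b001)) (.node (.leaf 0x1b106) (.leaf 0x1b203))) (.node (.node (.leaf 0x206) (.leaf 0x1b405)) (.node (.leaf 0x1b500) (.leaf 0x1b602)))) (.node (.node (.node (.leaf 0x1b704) (.leaf 0x1b803)) (.node (.leaf 0x1b901) (.leaf 0x15503))) (.node (.node (.leaf 0x1bb02) (.leaf 0xe502)) (.node (.leaf 0x1bd03) (.leaf 0x1be06))))))) (.node (.node (.node (.node (.node (.node (.leaf 0x702) (.leaf 0x1c006)) (.node (.leaf 0x1c103) (.leaf 0x1c202))) (.node (.node (.leaf 0x1c305) (.leaf 0xdf05)) (.node (.leaf 0x1c505) (.leaf 0x1c603)))) (.node (.node (.node (.leaf 0x6e06) (.leaf 0x1c804)) (.node (.leaf 0x6c04) (.leaf 0x1ca01))) (.node (.node (.leaf 0x1cb06) (.leaf 0x1cc05)) (.node (.leaf 0x1cd00) (.leaf 0x7100))))) (.node (.node (.node (.node (.leaf 0x1a03) (.leaf 0x1d006))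 (.node (.leaf 0x1d102) (.leaf 0x1d200))) (.node (.node (.leaf 0x1d304) (.leaf 0x14402)) (.node (.leaf 0x1d504) (.leaf 0x1d605)))) (.node (.node (.node (.leaf 0xba05) (.leaf 0x7006)) (.node (.leaf 0x1d904) (.leaf 0x1da04))) (.node (.node (.leaf 0x14202) (.leaf 0x1dc05)) (.node (.leaf 0x1dd01) (.leaf 0x1de00)))))) (.node (.node (.node (.node (.node (.leaf 0x1df04) (.leaf 0x13d05)) (.node (.leaf 0x1e100) (.leaf 0x1e200))) (.node (.node (.leaf 0x1e304) (.leaf 0x1e401)) (.node (.leaf 0x1e502) (.leaf 0x805)))) (.node (.node (.node (.leaf 0x1e703) (.leaf 0x1e806)) (.node (.leaf 0x1e905) (.leaf 0xc705))) (.node (.node (.leaf 0xd905) (.leaf 0x6f06)) (.node (.leaf 0xe506) (.leaf 0x1ee04))))) (.node (.node (.node (.node (.leaf 0x1ef00) (.leaf 0x1f005)) (.node (.leaf 0x1f103) (.leaf 0x1f204))) (.node (.node (.leaf 0x1f301) (.leaf 0xa901)) (.node (.leaf 0x18506) (.leaf 0x1f600)))) (.node (.node (.node (.leaf 0x1f700) (.leaf 0x1f805)) (.node (.leaf 0x1a902) (.leaf 0x505))) (.node (.node (.leaf 0x1fb02)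 (.leaf 0x1fc01)) (.node (.leaf 0x1fd06) (.leaf 0x1fe03))))))))

def eltsP4 : BT := (.node (.node (.node (.node (.node (.node (.node (.leaf 0x1ff02) (.leaf 0xdf03)) (.node (.leaf 0x20105) (.leaf 0x14000))) (.node (.node (.leaf 0xab03) (.leaf 0x1fb05)) (.node (.leaf 0x20503) (.leaf 0x20606)))) (.node (.node (.node (.leaf 0x20701) (.leaf 0x20804)) (.node (.leaf 0x17305) (.leaf 0x20a06))) (.node (.node (.leaf 0x1205) (.leaf 0x20c04)) (.node (.leaf 0x20d06) (.leaf 0xc004))))) (.node (.node (.node (.node (.leaf 0x20f02) (.leaf 0x21003)) (.node (.leaf 0x21104) (.leaf 0x21201))) (.node (.node (.leaf 0x21306) (.leaf 0x8900)) (.node (.leaf 0x1cf06) (.leaf 0x21604)))) (.node (.node (.node (.leaf 0xa902) (.leaf 0x21805)) (.node (.leaf 0x21904) (.leaf 0x21a02))) (.node (.node (.leaf 0x1e01) (.leaf 0x21c00)) (.node (.leaf 0x21d05) (.leaf 0x21e06)))))) (.node (.node (.node (.node (.node (.leaf 0x21f00) (.leaf 0x1a406)) (.node (.leaf 0x1e101) (.leaf 0x22202))) (.node (.node (.leaf 0x7401) (.leaf 0x501)) (.node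 (.leaf 0x22506) (.leaf 0x22605)))) (.node (.node (.node (.leaf 0x22704) (.leaf 0x9905)) (.node (.leaf 0x22904) (.leaf 0x22a06))) (.node (.node (.leaf 0x22b00) (.leaf 0x6000)) (.node (.leaf 0x22d01) (.leaf 0x22e05))))) (.node (.node (.node (.node (.leaf 0x22f06) (.leaf 0x23002)) (.node (.leaf 0x23100) (.leaf 0x15302))) (.node (.node (.leaf 0x23306) (.leaf 0x23403)) (.node (.leaf 0x23500) (.leaf 0x23605)))) (.node (.node (.node (.leaf 0x1d902) (.leaf 0x23804)) (.node (.leaf 0x23901) (.leaf 0x23a01))) (.node (.node (.leaf 0x23b03) (.leaf 0xa900)) (.node (.leaf 0xef00) (.leaf 0x9f05))))))) (.node (.node (.node (.node (.node (.node (.leaf 0x23f01) (.leaf 0x24006)) (.node (.leaf 0x1d903) (.leaf 0x24204))) (.node (.node (.leaf 0x1c900) (.leaf 0x6105)) (.node (.leaf 0x24502) (.leaf 0x24606)))) (.node (.node (.node (.leaf 0xe00) (.leaf 0x24805)) (.node (.leaf 0x24902) (.leaf 0x24a02))) (.node (.node (.leaf 0x8704) (.leaf 0x24c04)) (.node (.leaf 0x22504) (.leaf 0x24e06))))) (.node (.node (.node (.node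 (.leaf 0x24f01) (.leaf 0xd702)) (.node (.leaf 0x25106) (.leaf 0x1e706))) (.node (.node (.leaf 0x25306) (.leaf 0x25403)) (.node (.leaf 0x1e05) (.leaf 0x25601)))) (.node (.node (.node (.leaf 0x25702) (.leaf 0x25804)) (.node (.leaf 0x25900) (.leaf 0x25a06))) (.node (.node (.leaf 0x6c06) (.leaf 0x25c01)) (.node (.leaf 0x25d04) (.leaf 0x25e05)))))) (.node (.node (.node (.node (.node (.leaf 0x25f01) (.leaf 0x8506)) (.node (.leaf 0x26101) (.leaf 0x26200))) (.node (.node (.leaf 0x26305) (.leaf 0x26404)) (.node (.leaf 0x26502) (.leaf 0x26603)))) (.node (.node (.node (.leaf 0x5105) (.leaf 0x26803)) (.node (.leaf 0x26906) (.leaf 0x26a04))) (.node (.node (.leaf 0x26b03) (.leaf 0x12e04)) (.node (.leaf 0x26d05) (.leaf 0x1ee03))))) (.node (.node (.node (.node (.leaf 0x26f00) (.leaf 0x27001)) (.node (.leaf 0x27104) (.leaf 0x14200))) (.node (.node (.leaf 0x27300) (.leaf 0x27405)) (.node (.leaf 0x27501) (.leaf 0x27604)))) (.node (.node (.node (.leaf 0x27702) (.leaf 0x1fb06)) (.node (.leaf 0x27904) (.leaf 0x27a04)))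 (.node (.node (.leaf 0x27b01) (.leaf 0x18b02)) (.node (.leaf 0x1f503) (.leaf 0x27e05))))))))

def eltsP5 : BT := (.node (.node (.node (.node (.node (.node (.node (.leaf 0x27f01) (.leaf 0x28000)) (.node (.leaf 0x19a05) (.leaf 0x28200))) (.node (.node (.leaf 0x28302) (.leaf 0x28406)) (.node (.leaf 0x1503) (.leaf 0x28600)))) (.node (.node (.node (.leaf 0x28701) (.leaf 0xfa04)) (.node (.leaf 0x19a06) (.leaf 0x28a02))) (.node (.node (.leaf 0x28b00) (.leaf 0x28c05)) (.node (.leaf 0x23b00) (.leaf 0x1b200))))) (.node (.node (.node (.node (.leaf 0x700) (.leaf 0x29003)) (.node (.leaf 0x29102) (.leaf 0x29206))) (.node (.node (.leaf 0x29304) (.leaf 0x29405)) (.node (.leaf 0x29501) (.leaf 0x29603)))) (.node (.node (.node (.leaf 0x11006) (.leaf 0x29805)) (.node (.leaf 0x29900) (.leaf 0x29a04))) (.node (.node (.leaf 0x29b01) (.leaf 0x1bd04)) (.node (.leaf 0x29d03) (.leaf 0x29e01)))))) (.node (.node (.node (.node (.node (.leaf 0x29f02) (.leaf 0x2a006)) (.node (.leaf 0x12e02) (.leaf 0x2a203))) (.node (.node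 (.leaf 0x12703) (.leaf 0x2a402)) (.node (.leaf 0x9a05) (.leaf 0x2a606)))) (.node (.node (.node (.leaf 0x2a704) (.leaf 0x2a800)) (.node (.leaf 0x19202) (.leaf 0x2aa05))) (.node (.node (.leaf 0xd01) (.leaf 0x2ac01)) (.node (.leaf 0x2ad05) (.leaf 0x1e700))))) (.node (.node (.node (.node (.leaf 0x2af06) (.leaf 0x2b003)) (.node (.leaf 0x2b103) (.leaf 0x8e06))) (.node (.node (.leaf 0x18606) (.leaf 0x2b402)) (.node (.leaf 0x2b500) (.leaf 0x1ed04)))) (.node (.node (.node (.leaf 0x8501) (.leaf 0x2b806)) (.node (.leaf 0x2b903) (.leaf 0x2ba05))) (.node (.node (.leaf 0x2bb04) (.leaf 0x2bc03)) (.node (.leaf 0x9b05) (.leaf 0x2be00))))))) (.node (.node (.node (.node (.node (.node (.leaf 0x2bf06) (.leaf 0xaa02)) (.node (.leaf 0x2c101) (.leaf 0x2c205))) (.node (.node (.leaf 0x2c306) (.leaf 0x2c403)) (.node (.leaf 0x14204) (.leaf 0x2c600)))) (.node (.node (.node (.leaf 0x2c705) (.leaf 0x2c801)) (.node (.leaf 0x2c904) (.leaf 0x5a03))) (.node (.node (.leaf 0x2cb02) (.leaf 0x2cc06)) (.node (.leaf 0x2cd04) (.leaf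 0x2ce03))))) (.node (.node (.node (.node (.leaf 0x2cf01) (.leaf 0x2b05)) (.node (.leaf 0x2d100) (.leaf 0x2d202))) (.node (.node (.leaf 0x2d304) (.leaf 0x2d403)) (.node (.leaf 0x2d506) (.leaf 0x2d601)))) (.node (.node (.node (.leaf 0xdb04) (.leaf 0x7400)) (.node (.leaf 0x29803) (.leaf 0x2da00))) (.node (.node (.leaf 0x2db05) (.leaf 0x2dc01)) (.node (.leaf 0x2dd04) (.leaf 0xf05)))))) (.node (.node (.node (.node (.node (.leaf 0x2df02) (.leaf 0x1c004)) (.node (.leaf 0x2e105) (.leaf 0x2e206))) (.node (.node (.leaf 0x2e303) (.leaf 0x2e404)) (.node (.leaf 0xdf00) (.leaf 0x2e605)))) (.node (.node (.node (.leaf 0x2e703) (.leaf 0x2e803)) (.node (.leaf 0x8500) (.leaf 0x2ea06))) (.node (.node (.leaf 0x2eb05) (.leaf 0x2ec04)) (.node (.leaf 0x2ed03) (.leaf 0x2ee05))))) (.node (.node (.node (.node (.leaf 0x22602) (.leaf 0x2f000)) (.node (.leaf 0x2f103) (.leaf 0x2f204))) (.node (.node (.leaf 0x2f302) (.leaf 0x22b02)) (.node (.leaf 0xd06) (.leaf 0x2f605)))) (.node (.node (.node (.leaf 0x2f703) (.leaf 0x2f806))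 (.node (.leaf 0x2f904) (.leaf 0xa906))) (.node (.node (.leaf 0x2fb01) (.leaf 0x506)) (.node (.leaf 0x2fd02) (.leaf 0x2fe04))))))))

def eltsP6 : BT := (.node (.node (.node (.node (.node (.node (.node (.leaf 0x18b01) (.leaf 0x13002)) (.node (.leaf 0x30105) (.leaf 0x1b404))) (.node (.node (.leaf 0x30300) (.leaf 0x30405)) (.node (.leaf 0x30503) (.leaf 0x30604)))) (.node (.node (.node (.leaf 0x30701) (.leaf 0xf403)) (.node (.leaf 0x30900) (.leaf 0x30a01))) (.node (.node (.leaf 0x30b06) (.leaf 0x18b03)) (.node (.leaf 0x1e701) (.leaf 0x30e06))))) (.node (.node (.node (.node (.leaf 0x20b00) (.leaf 0x6c03)) (.node (.leaf 0x31102) (.leaf 0x31205))) (.node (.node (.leaf 0x31304) (.leaf 0x31406)) (.node (.leaf 0x31501) (.leaf 0x31600)))) (.node (.node (.node (.leaf 0x9902) (.leaf 0x31805)) (.node (.leaf 0x31900) (.leaf 0xe002))) (.node (.node (.leaf 0x31b06) (.leaf 0x603)) (.node (.leaf 0x31d02) (.leaf 0x31e06)))))) (.node (.node (.node (.node (.node (.leaf 0x31f05) (.leaf 0x32000)) (.node (.leaf 0x32104)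 (.leaf 0x20b02))) (.node (.node (.leaf 0xa503) (.leaf 0x32400)) (.node (.leaf 0x32505) (.leaf 0x32602)))) (.node (.node (.node (.leaf 0xd803) (.leaf 0x14602)) (.node (.leaf 0x8703) (.leaf 0x32a02))) (.node (.node (.leaf 0x32b04) (.leaf 0x32c01)) (.node (.leaf 0x14806) (.leaf 0x32e06))))) (.node (.node (.node (.node (.leaf 0xbb05) (.leaf 0x33002)) (.node (.leaf 0x33101) (.leaf 0x33204))) (.node (.node (.leaf 0x1bd01) (.leaf 0x33400)) (.node (.leaf 0x33503) (.leaf 0x33605)))) (.node (.node (.node (.leaf 0x33706) (.leaf 0x33804)) (.node (.leaf 0x1c104) (.leaf 0x33a02))) (.node (.node (.leaf 0x33b05) (.leaf 0x33c03)) (.node (.leaf 0x33d01) (.leaf 0x1d901))))))) (.node (.node (.node (.node (.node (.node (.leaf 0x33f04) (.leaf 0x1a505)) (.node (.leaf 0x34106) (.leaf 0x34203))) (.node (.node (.leaf 0x34300) (.leaf 0x24402)) (.node (.leaf 0x7001) (.leaf 0x34604)))) (.node (.node (.node (.leaf 0x34706) (.leaf 0x34801)) (.node (.leaf 0x106) (.leaf 0x34a03))) (.node (.node (.leaf 0x34b00) (.leaf 0x34c01))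 (.node (.leaf 0x34d05) (.leaf 0x34e06))))) (.node (.node (.node (.node (.leaf 0x34f04) (.leaf 0xb402)) (.node (.leaf 0x35103) (.leaf 0x8c03))) (.node (.node (.leaf 0x35302) (.leaf 0x35401)) (.node (.leaf 0x35500) (.leaf 0x35606)))) (.node (.node (.node (.leaf 0x9606) (.leaf 0x25402)) (.node (.leaf 0x606) (.leaf 0x35a01))) (.node (.node (.leaf 0x35b04) (.leaf 0x35c05)) (.node (.leaf 0x35d01) (.leaf 0x18602)))))) (.node (.node (.node (.node (.node (.leaf 0x35f02) (.leaf 0x36000)) (.node (.leaf 0x36106) (.leaf 0x9501))) (.node (.node (.leaf 0x36306) (.leaf 0x21d06)) (.node (.leaf 0x36505) (.leaf 0x36600)))) (.node (.node (.node (.leaf 0x36704) (.leaf 0x19805)) (.node (.leaf 0x36903) (.leaf 0x36a03))) (.node (.node (.leaf 0x36b06) (.leaf 0x25704)) (.node (.leaf 0x36d06) (.leaf 0x36e06))))) (.node (.node (.node (.node (.leaf 0x36f00) (.leaf 0x14404)) (.node (.leaf 0x37105) (.leaf 0x14700))) (.node (.node (.leaf 0x37306) (.leaf 0x37402)) (.node (.leaf 0x37500) (.leaf 0x37603)))) (.node (.node (.node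 (.leaf 0x2ce02) (.leaf 0x706)) (.node (.leaf 0x37905) (.leaf 0x37a02))) (.node (.node (.leaf 0x37b03) (.leaf 0x37c04)) (.node (.leaf 0x37d06) (.leaf 0x5c00))))))))

def eltsP7 : BT := (.node (.node (.node (.node (.node (.node (.node (.leaf 0x1b105) (.leaf 0x38006)) (.node (.leaf 0x38100) (.leaf 0x8502))) (.node (.node (.leaf 0x38305) (.leaf 0x38406)) (.node (.leaf 0x1db01) (.leaf 0x8b03)))) (.node (.node (.node (.leaf 0x38706) (.leaf 0x38801)) (.node (.leaf 0x38900) (.leaf 0x8604))) (.node (.node (.leaf 0x38b06) (.leaf 0x38c02)) (.node (.leaf 0x38d02) (.leaf 0x18206))))) (.node (.node (.node (.node (.leaf 0x38f05) (.leaf 0x39000)) (.node (.leaf 0x1b400) (.leaf 0x39200))) (.node (.node (.leaf 0x39305) (.leaf 0x39403)) (.node (.leaf 0x39504) (.leaf 0x39601)))) (.node (.node (.node (.leaf 0x24e05) (.leaf 0x39806)) (.node (.leaf 0x39903) (.leaf 0x39a04))) (.node (.node (.leaf 0x1f202) (.leaf 0x39c01)) (.node (.leaf 0xe102) (.leaf 0x3804)))))) (.node (.node (.node (.node (.node (.leaf 0x39f06)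 (.leaf 0x3a005)) (.node (.leaf 0x3a104) (.leaf 0x1b006))) (.node (.node (.leaf 0x3a305) (.leaf 0x3a404)) (.node (.leaf 0x3a500) (.leaf 0x7a03)))) (.node (.node (.node (.leaf 0x3a702) (.leaf 0x3a801)) (.node (.leaf 0x3a904) (.leaf 0x3aa06))) (.node (.node (.leaf 0xb205) (.leaf 0x3ac03)) (.node (.leaf 0x3ad06) (.leaf 0x1c003))))) (.node (.node (.node (.node (.leaf 0x3af04) (.leaf 0x3b006)) (.node (.leaf 0x3b101) (.leaf 0x3b200))) (.node (.node (.leaf 0x3b305) (.leaf 0x2102)) (.node (.leaf 0x3b503) (.leaf 0x3b604)))) (.node (.node (.node (.leaf 0x3b702) (.leaf 0x3b806)) (.node (.leaf 0x1ef03) (.leaf 0x3ba01))) (.node (.node (.leaf 0x3bb02) (.leaf 0x3bc05)) (.node (.leaf 0x14706) (.leaf 0x3be00))))))) (.node (.node (.node (.node (.node (.node (.leaf 0x3bf00) (.leaf 0x3c002)) (.node (.leaf 0x3c103) (.leaf 0x33d00))) (.node (.node (.leaf 0xb001) (.leaf 0x20502)) (.node (.leaf 0x3c506) (.leaf 0x3c603)))) (.node (.node (.node (.leaf 0x3c700) (.leaf 0x3c801)) (.node (.leaf 0x3c904) (.leaf 0x10106)))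 (.node (.node (.leaf 0x1c005) (.leaf 0x3cc04)) (.node (.leaf 0x3cd02) (.leaf 0x3ce06))))) (.node (.node (.node (.node (.leaf 0x3cf03) (.leaf 0x3d000)) (.node (.leaf 0x3d101) (.leaf 0x2c400))) (.node (.node (.leaf 0x3ac01) (.leaf 0x3d406)) (.node (.leaf 0x3d502) (.leaf 0x3d602)))) (.node (.node (.node (.leaf 0x18a04) (.leaf 0x3d804)) (.node (.leaf 0x36906) (.leaf 0x3da03))) (.node (.node (.leaf 0x3db02) (.leaf 0x3dc00)) (.node (.leaf 0x10601) (.leaf 0x3de06)))))) (.node (.node (.node (.node (.node (.leaf 0x6d04) (.leaf 0x3e003)) (.node (.leaf 0x3e101) (.leaf 0x3e206))) (.node (.node (.leaf 0x1b202) (.leaf 0x15d00)) (.node (.leaf 0x3e500) (.leaf 0x3e601)))) (.node (.node (.node (.leaf 0x3e703) (.leaf 0x34101)) (.node (.leaf 0x8600) (.leaf 0x3ea06))) (.node (.node (.leaf 0x3eb02) (.leaf 0x3ec02)) (.node (.leaf 0x34600) (.leaf 0x3ee02))))) (.node (.node (.node (.node (.leaf 0x3ef06) (.leaf 0x3f001)) (.node (.leaf 0x3f103) (.leaf 0x1cb05))) (.node (.node (.leaf 0x3f306) (.leaf 0x3f404)) (.node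 (.leaf 0x3f500) (.leaf 0x11601)))) (.node (.node (.node (.leaf 0x3f704) (.leaf 0x3f803)) (.node (.leaf 0x9b06) (.leaf 0x3fa05))) (.node (.node (.leaf 0x3fb00) (.leaf 0x3fc02)) (.node (.leaf 0x25400) (.leaf 0x3a804))))))))

def eltsP8 : BT := (.node (.node (.node (.node (.node (.node (.node (.leaf 0x3ff06) (.leaf 0x40001)) (.node (.leaf 0x40100) (.leaf 0x26105))) (.node (.node (.leaf 0x40302) (.leaf 0x40406)) (.node (.leaf 0x40504) (.leaf 0xf506)))) (.node (.node (.node (.leaf 0x40705) (.leaf 0x40800)) (.node (.leaf 0x40903) (.leaf 0x40a02))) (.node (.node (.leaf 0x15d01) (.leaf 0x40c02)) (.node (.leaf 0x40d06) (.leaf 0x1a300))))) (.node (.node (.node (.node (.leaf 0x40f06) (.leaf 0x29006)) (.node (.leaf 0x41103) (.leaf 0x41202))) (.node (.node (.leaf 0x41301) (.leaf 0x34a01)) (.node (.leaf 0x41500) (.leaf 0x41605)))) (.node (.node (.node (.leaf 0x41704) (.leaf 0x41801)) (.node (.leaf 0x41903) (.leaf 0x41a02))) (.node (.node (.leaf 0xae05) (.leaf 0x41c01)) (.node (.leaf 0x41d03) (.leaf 0x7303))))))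 (.node (.node (.node (.node (.node (.leaf 0x12e03) (.leaf 0x1f502)) (.node (.leaf 0x42104) (.leaf 0x42205))) (.node (.node (.leaf 0x42301) (.leaf 0x17902)) (.node (.leaf 0x42506) (.leaf 0x42604)))) (.node (.node (.node (.leaf 0x42705) (.leaf 0x5c01)) (.node (.leaf 0x38003) (.leaf 0x3df00))) (.node (.node (.leaf 0x42b00) (.leaf 0xf802)) (.node (.leaf 0x18c01) (.leaf 0x3ac02))))) (.node (.node (.node (.node (.leaf 0x42f06) (.leaf 0x2f601)) (.node (.leaf 0x43100) (.leaf 0x43204))) (.node (.node (.leaf 0x43305) (.leaf 0x43406)) (.node (.leaf 0x30f03) (.leaf 0x43603)))) (.node (.node (.node (.leaf 0x39002) (.leaf 0x6305)) (.node (.leaf 0x43901) (.leaf 0x43a02))) (.node (.node (.leaf 0x8601) (.leaf 0x43c06)) (.node (.leaf 0x43d02) (.leaf 0x43e02))))))) (.node (.node (.node (.node (.node (.node (.leaf 0x5b06) (.leaf 0x44003)) (.node (.leaf 0x44102) (.leaf 0x44205))) (.node (.node (.leaf 0x1f504) (.leaf 0x44405)) (.node (.leaf 0x44503) (.leaf 0x44602)))) (.node (.node (.node (.leaf 0x44701) (.leaf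 0x35306)) (.node (.leaf 0x44901) (.leaf 0x44a00))) (.node (.node (.leaf 0x2a504) (.leaf 0x14800)) (.node (.leaf 0x44d00) (.leaf 0x44e02))))) (.node (.node (.node (.node (.leaf 0x44f06) (.leaf 0x10202)) (.node (.leaf 0x45104) (.leaf 0x45205))) (.node (.node (.leaf 0x45306) (.leaf 0x45404)) (.node (.leaf 0x21c01) (.leaf 0x45605)))) (.node (.node (.node (.leaf 0x45706) (.leaf 0x45804)) (.node (.leaf 0x45900) (.leaf 0xc806))) (.node (.node (.leaf 0x45b03) (.leaf 0x45c04)) (.node (.leaf 0x45d06) (.leaf 0x38304)))))) (.node (.node (.node (.node (.node (.leaf 0x45f06) (.leaf 0x46005)) (.node (.leaf 0x46102) (.leaf 0x46203))) (.node (.node (.leaf 0xbc04) (.leaf 0x46405)) (.node (.leaf 0x46501) (.leaf 0x24302)))) (.node (.node (.node (.leaf 0x2b700) (.leaf 0x18b00)) (.node (.leaf 0x1eb00) (.leaf 0x2b06))) (.node (.node (.leaf 0x46b05) (.leaf 0x46c00)) (.node (.leaf 0x46d02) (.leaf 0x46e04))))) (.node (.node (.node (.node (.leaf 0x46f03) (.leaf 0x3f700)) (.node (.leaf 0x15805) (.leaf 0x47205))) (.node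 (.node (.leaf 0x47300) (.leaf 0xaa05)) (.node (.leaf 0x47502) (.leaf 0x47603)))) (.node (.node (.node (.leaf 0x2f705) (.leaf 0x47804)) (.node (.leaf 0x26104) (.leaf 0x47a03))) (.node (.node (.leaf 0x47b05) (.leaf 0x2f604)) (.node (.leaf 0x47d01) (.leaf 0x47e03))))))))

def eltsP9 : BT := (.node (.node (.node (.node (.node (.node (.node (.leaf 0x25d01) (.leaf 0x48004)) (.node (.leaf 0x48102) (.leaf 0x48205))) (.node (.node (.leaf 0x1f04) (.leaf 0x48406)) (.node (.leaf 0x48503) (.leaf 0xdf02)))) (.node (.node (.node (.leaf 0x48705) (.leaf 0x48806)) (.node (.leaf 0x48901) (.leaf 0x2e106))) (.node (.node (.leaf 0x48b02) (.leaf 0x48c03)) (.node (.leaf 0x48d05) (.leaf 0x7002))))) (.node (.node (.node (.node (.leaf 0x48f06) (.leaf 0x49004)) (.node (.leaf 0x49104) (.leaf 0x11000))) (.node (.node (.leaf 0x49304) (.leaf 0x49405)) (.node (.leaf 0x49503) (.leaf 0x49601)))) (.node (.node (.node (.leaf 0x1c502) (.leaf 0x49800)) (.node (.leaf 0x1a06) (.leaf 0x49a04))) (.node (.node (.leaf 0x49b05) (.leaf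 0x49c03)) (.node (.leaf 0x49d04) (.leaf 0x12706)))))) (.node (.node (.node (.node (.node (.leaf 0x2eb02) (.leaf 0x4a004)) (.node (.leaf 0x4a103) (.leaf 0x4a201))) (.node (.node (.leaf 0x4a305) (.leaf 0xc801)) (.node (.leaf 0x4a502) (.leaf 0x4a606)))) (.node (.node (.node (.leaf 0x4a701) (.leaf 0xb506)) (.node (.leaf 0x5601) (.leaf 0x4aa03))) (.node (.node (.leaf 0x4ab00) (.leaf 0x7504)) (.node (.leaf 0x38302) (.leaf 0x4ae04))))) (.node (.node (.node (.node (.leaf 0x4af06) (.leaf 0x22906)) (.node (.leaf 0x4b103) (.leaf 0x4b204))) (.node (.node (.leaf 0x11703) (.leaf 0x13d01)) (.node (.leaf 0x4b502) (.leaf 0x4b603)))) (.node (.node (.node (.leaf 0x4b705) (.leaf 0x2cb03)) (.node (.leaf 0x4b906) (.leaf 0x4ba04))) (.node (.node (.leaf 0x3cd03) (.leaf 0x4bc06)) (.node (.leaf 0x4bd02) (.leaf 0x13d03))))))) (.node (.node (.node (.node (.node (.node (.leaf 0x4bf04) (.leaf 0x4c005)) (.node (.leaf 0x4c100) (.leaf 0x20100))) (.node (.node (.leaf 0x4c302) (.leaf 0x4c405)) (.node (.leaf 0x4c506) (.leaf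 0x4c601)))) (.node (.node (.node (.leaf 0x4302) (.leaf 0x4c806)) (.node (.leaf 0x4c905) (.leaf 0x4ca01))) (.node (.node (.leaf 0x4cb03) (.leaf 0x4cc04)) (.node (.leaf 0x49801) (.leaf 0x47a05))))) (.node (.node (.node (.node (.leaf 0x4cf03) (.leaf 0x4d000)) (.node (.leaf 0xd303) (.leaf 0x4d206))) (.node (.node (.leaf 0x4d305) (.leaf 0x4d400)) (.node (.leaf 0x4d501) (.leaf 0x1b000)))) (.node (.node (.node (.leaf 0xd305) (.leaf 0x4d806)) (.node (.leaf 0x4d903) (.leaf 0xb204))) (.node (.node (.leaf 0x4db05) (.leaf 0x4dc06)) (.node (.leaf 0x4dd00) (.leaf 0x23d04)))))) (.node (.node (.node (.node (.node (.leaf 0x4df02) (.leaf 0x4e003)) (.node (.leaf 0x4e105) (.leaf 0x4e202))) (.node (.node (.leaf 0x4e301) (.leaf 0x5a05)) (.node (.leaf 0x4e504) (.leaf 0x4e606)))) (.node (.node (.node (.leaf 0x4e703) (.leaf 0x4e801)) (.node (.leaf 0x1fb03) (.leaf 0x4ea06))) (.node (.node (.leaf 0x4eb04) (.leaf 0x4ec03)) (.node (.leaf 0x8700) (.leaf 0x3203))))) (.node (.node (.node (.node (.leaf 0x4ef06) (.leaf 0x4f002))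 (.node (.leaf 0x4f101) (.leaf 0x4f205))) (.node (.node (.leaf 0x2a401) (.leaf 0x4f402)) (.node (.leaf 0x4f504) (.leaf 0xe606)))) (.node (.node (.node (.leaf 0x4f702) (.leaf 0x4f804)) (.node (.leaf 0x4f905) (.leaf 0x4fa03))) (.node (.node (.leaf 0x4fb01) (.leaf 0x2b04)) (.node (.leaf 0x4fd03) (.leaf 0x4fe01))))))))

def eltsP10 : BT := (.node (.node (.node (.node (.node (.node (.node (.leaf 0x4ff06) (.leaf 0x50005)) (.node (.leaf 0x50100) (.leaf 0x50202))) (.node (.node (.leaf 0x18a06) (.leaf 0x50403)) (.node (.leaf 0x8102) (.leaf 0x50604)))) (.node (.node (.node (.leaf 0x50705) (.leaf 0x50803)) (.node (.leaf 0x4c804) (.leaf 0x50a06))) (.node (.node (.leaf 0x50b03) (.leaf 0x50c00)) (.node (.leaf 0x50d01) (.leaf 0x50e05))))) (.node (.node (.node (.node (.leaf 0x49b02) (.leaf 0x51005)) (.node (.leaf 0x51103) (.leaf 0x51204))) (.node (.node (.leaf 0x4305) (.leaf 0x51406)) (.node (.leaf 0x51504) (.leaf 0x51603)))) (.node (.node (.node (.leaf 0x51702) (.leaf 0x51805)) (.node (.leaf 0x1b005) (.leaf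 0x51a06))) (.node (.node (.leaf 0x51b01) (.leaf 0x42503)) (.node (.leaf 0x51d04) (.leaf 0x51e06)))))) (.node (.node (.node (.node (.node (.leaf 0x48702) (.leaf 0x52003)) (.node (.leaf 0x30906) (.leaf 0x52202))) (.node (.node (.leaf 0x52301) (.leaf 0x52405)) (.node (.leaf 0x34c02) (.leaf 0x52605)))) (.node (.node (.node (.leaf 0x52701) (.leaf 0x52804)) (.node (.leaf 0xb706) (.leaf 0x52a05))) (.node (.node (.leaf 0x52b05) (.leaf 0x47602)) (.node (.leaf 0x52d03) (.leaf 0x29e05))))) (.node (.node (.node (.node (.leaf 0x52f06) (.leaf 0x53001)) (.node (.leaf 0x53102) (.leaf 0xc006))) (.node (.node (.leaf 0x53303) (.leaf 0x53401)) (.node (.leaf 0x53502) (.leaf 0x53604)))) (.node (.node (.node (.leaf 0x53706) (.leaf 0x4304)) (.node (.leaf 0x53903) (.leaf 0x53a01))) (.node (.node (.leaf 0x53b06) (.leaf 0x53c05)) (.node (.leaf 0x53d00) (.leaf 0x53e02))))))) (.node (.node (.node (.node (.node (.node (.leaf 0xb806) (.leaf 0x54004)) (.node (.leaf 0x54103) (.leaf 0x54200))) (.node (.node (.leaf 0xd705)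 (.leaf 0x7503)) (.node (.leaf 0x54505) (.leaf 0x54602)))) (.node (.node (.node (.leaf 0x54706) (.leaf 0x800)) (.node (.leaf 0x54903) (.leaf 0x54a05))) (.node (.node (.leaf 0x54b06) (.leaf 0x54c04)) (.node (.leaf 0x54d01) (.leaf 0xd503))))) (.node (.node (.node (.node (.leaf 0x9904) (.leaf 0x55005)) (.node (.leaf 0x55103) (.leaf 0x55200))) (.node (.node (.leaf 0x23802) (.leaf 0x55403)) (.node (.leaf 0x55504) (.leaf 0x55601)))) (.node (.node (.node (.leaf 0x3af05) (.leaf 0x55802)) (.node (.leaf 0x55906) (.leaf 0x55a04))) (.node (.node (.leaf 0x55b00) (.leaf 0x6e01)) (.node (.leaf 0x55d06) (.leaf 0x55e02)))))) (.node (.node (.node (.node (.node (.leaf 0x55f00) (.leaf 0x56004)) (.node (.leaf 0x19802) (.leaf 0x56205))) (.node (.node (.leaf 0x56306) (.leaf 0x56400)) (.node (.leaf 0x18202) (.leaf 0x56606)))) (.node (.node (.node (.leaf 0x56704) (.leaf 0x21c02)) (.node (.leaf 0x56904) (.leaf 0x56a06))) (.node (.node (.leaf 0x56b03) (.leaf 0x56c00)) (.node (.leaf 0x56d05) (.leaf 0x6104))))) (.node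 (.node (.node (.node (.leaf 0x56f02) (.leaf 0x47b06)) (.node (.leaf 0x57105) (.leaf 0x51503))) (.node (.node (.leaf 0x57301) (.leaf 0x57402)) (.node (.leaf 0x57504) (.leaf 0x37a05)))) (.node (.node (.node (.leaf 0x57704) (.leaf 0x37904)) (.node (.leaf 0x57903) (.leaf 0x57a05))) (.node (.node (.leaf 0x57b04) (.leaf 0xb803)) (.node (.leaf 0x57d06) (.leaf 0x57e05))))))))

def eltsP11 : BT := (.node (.node (.node (.node (.node (.node (.node (.leaf 0x57f04) (.leaf 0x19800)) (.node (.leaf 0x58103) (.leaf 0x58206))) (.node (.node (.leaf 0x58305) (.leaf 0x58403)) (.node (.leaf 0x58501) (.leaf 0xb802)))) (.node (.node (.node (.leaf 0x58703) (.leaf 0x58805)) (.node (.leaf 0x58904) (.leaf 0x13f03))) (.node (.node (.leaf 0x58b01) (.leaf 0x4d401)) (.node (.leaf 0x4db03) (.leaf 0x58e06))))) (.node (.node (.node (.node (.leaf 0x11705) (.leaf 0x59001)) (.node (.leaf 0xa402) (.leaf 0x59206))) (.node (.node (.leaf 0x59300) (.leaf 0x59403)) (.node (.leaf 0x2fd00) (.leaf 0x59601)))) (.node (.node (.node (.leaf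 0x59705) (.leaf 0x59803)) (.node (.leaf 0x59904) (.leaf 0x59a02))) (.node (.node (.leaf 0x54506) (.leaf 0x59c02)) (.node (.leaf 0x59d04) (.leaf 0x4a803)))))) (.node (.node (.node (.node (.node (.leaf 0x35106) (.leaf 0x4db06)) (.node (.leaf 0x5a105) (.leaf 0x8b06))) (.node (.node (.leaf 0x5a302) (.leaf 0x5a402)) (.node (.leaf 0x1304) (.leaf 0x5a606)))) (.node (.node (.node (.leaf 0x5a705) (.leaf 0x2cb04)) (.node (.leaf 0x5a906) (.leaf 0x5aa03))) (.node (.node (.leaf 0x5ab01) (.leaf 0x29005)) (.node (.leaf 0x5ad03) (.leaf 0x5ae00))))) (.node (.node (.node (.node (.leaf 0x5af04) (.leaf 0x5b006)) (.node (.leaf 0x5b103) (.leaf 0x29204))) (.node (.node (.leaf 0x5b306) (.leaf 0x5b403)) (.node (.leaf 0x5b501) (.leaf 0x5b605)))) (.node (.node (.node (.leaf 0x35a04) (.leaf 0x5b801)) (.node (.leaf 0x5b905) (.leaf 0x5ba03))) (.node (.node (.leaf 0x7104) (.leaf 0x5bc06)) (.node (.leaf 0x5bd02) (.leaf 0x5be03))))))) (.node (.node (.node (.node (.node (.node (.leaf 0x2a403) (.leaf 0x5c001)) (.node (.leaf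 0x5c104) (.leaf 0x5c200))) (.node (.node (.leaf 0x4d205) (.leaf 0x1d906)) (.node (.leaf 0x5c504) (.leaf 0xb303)))) (.node (.node (.node (.leaf 0x5c701) (.leaf 0x23f03)) (.node (.leaf 0x5c906) (.leaf 0x5ca05))) (.node (.node (.leaf 0x48b03) (.leaf 0x5cc00)) (.node (.leaf 0x5cd02) (.leaf 0x5ce05))))) (.node (.node (.node (.node (.leaf 0x19201) (.leaf 0x42103)) (.node (.leaf 0x5d104) (.leaf 0x5d200))) (.node (.node (.leaf 0x5d305) (.leaf 0x2a405)) (.node (.leaf 0x5d501) (.leaf 0x58106)))) (.node (.node (.node (.leaf 0x5d705) (.leaf 0x5d803)) (.node (.leaf 0x5d901) (.leaf 0x5da05))) (.node (.node (.leaf 0x12700) (.leaf 0x5dc03)) (.node (.leaf 0x5dd04) (.leaf 0x5de04)))))) (.node (.node (.node (.node (.node (.leaf 0x5b04) (.leaf 0x5e003)) (.node (.leaf 0x5e106) (.leaf 0x5e201))) (.node (.node (.leaf 0x26100) (.leaf 0x5e405)) (.node (.leaf 0x5e502) (.leaf 0x5e600)))) (.node (.node (.node (.leaf 0x5e701) (.leaf 0x5e804)) (.node (.leaf 0x55b05) (.leaf 0x5ea00))) (.node (.node (.leaf 0x39304) (.leaf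 0x5ec05)) (.node (.leaf 0x5ed03) (.leaf 0x5ee01))))) (.node (.node (.node (.node (.leaf 0x5ef02) (.leaf 0x1a05)) (.node (.leaf 0x5f106) (.leaf 0x5f203))) (.node (.node (.leaf 0x5f301) (.leaf 0x5f402)) (.node (.leaf 0x2705) (.leaf 0x5f606)))) (.node (.node (.node (.leaf 0x5f701) (.leaf 0x5f803)) (.node (.leaf 0x2106) (.leaf 0x5fa04))) (.node (.node (.leaf 0x5fb05) (.leaf 0x5fc01)) (.node (.leaf 0x5fd00) (.leaf 0x2fd03))))))))

def eltsP12 : BT := (.node (.node (.node (.node (.node (.node (.node (.leaf 0x5ff01) (.leaf 0x60005)) (.node (.leaf 0x60102) (.leaf 0x60203))) (.node (.node (.leaf 0x60304) (.leaf 0x2eb04)) (.node (.leaf 0x60501) (.leaf 0x60605)))) (.node (.node (.node (.leaf 0x60702) (.leaf 0x60800)) (.node (.leaf 0x38c03) (.leaf 0x60a05))) (.node (.node (.leaf 0xe602) (.leaf 0x60c05)) (.node (.leaf 0x60d04) (.leaf 0x60e01))))) (.node (.node (.node (.node (.leaf 0x60f03) (.leaf 0x61006)) (.node (.leaf 0x61102) (.leaf 0x61200))) (.node (.node (.leaf 0x38b02) (.leaf 0x24c02)) (.node (.leaf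 0x61503) (.leaf 0x5d205)))) (.node (.node (.node (.leaf 0x61703) (.leaf 0x11e05)) (.node (.leaf 0x61903) (.leaf 0x61a06))) (.node (.node (.leaf 0x61b02) (.leaf 0x61c01)) (.node (.leaf 0x61d00) (.leaf 0xf406)))))) (.node (.node (.node (.node (.node (.leaf 0x61f04) (.leaf 0x62004)) (.node (.leaf 0x2d101) (.leaf 0x62201))) (.node (.node (.leaf 0x62304) (.leaf 0x62406)) (.node (.leaf 0x62500) (.leaf 0x62603)))) (.node (.node (.node (.leaf 0x56206) (.leaf 0x62805)) (.node (.leaf 0x62900) (.leaf 0xb202))) (.node (.node (.leaf 0x62b06) (.leaf 0x62c05)) (.node (.leaf 0x62d01) (.leaf 0x4cf00))))) (.node (.node (.node (.node (.leaf 0x62f00) (.leaf 0x63002)) (.node (.leaf 0x63101) (.leaf 0x62d05))) (.node (.node (.leaf 0x63301) (.leaf 0x58105)) (.node (.leaf 0x63506) (.leaf 0x63601)))) (.node (.node (.node (.leaf 0x63703) (.leaf 0x63804)) (.node (.leaf 0xf402) (.leaf 0x63a05))) (.node (.node (.leaf 0x63b05) (.leaf 0x1da02)) (.node (.leaf 0x63d03) (.leaf 0x63e05))))))) (.node (.node (.node (.node (.node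 (.node (.leaf 0x2cb06) (.leaf 0x64004)) (.node (.leaf 0x64103) (.leaf 0x52001))) (.node (.node (.leaf 0x3b504) (.leaf 0x64403)) (.node (.leaf 0x64501) (.leaf 0x57905)))) (.node (.node (.node (.leaf 0x64702) (.leaf 0x34b05)) (.node (.leaf 0x64902) (.leaf 0x64a03))) (.node (.node (.leaf 0x64b04) (.leaf 0x55106)) (.node (.leaf 0x4d002) (.leaf 0x47a02))))) (.node (.node (.node (.node (.leaf 0x40403) (.leaf 0x65004)) (.node (.leaf 0xae03) (.leaf 0x65202))) (.node (.node (.leaf 0x65305) (.leaf 0x38b03)) (.node (.leaf 0xf405) (.leaf 0x65606)))) (.node (.node (.node (.leaf 0x65703) (.leaf 0x65801)) (.node (.leaf 0x65902) (.leaf 0x35a03))) (.node (.node (.leaf 0x65b04) (.leaf 0x65c05)) (.node (.leaf 0x65d03) (.leaf 0x65e01)))))) (.node (.node (.node (.node (.node (.leaf 0x48f01) (.leaf 0x66000)) (.node (.leaf 0x66104) (.leaf 0x66206))) (.node (.node (.leaf 0x66300) (.leaf 0x66403)) (.node (.leaf 0x2fd05) (.leaf 0x66605)))) (.node (.node (.node (.leaf 0x58704) (.leaf 0x66803)) (.node (.leaf 0x7103)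 (.leaf 0x66a06))) (.node (.node (.leaf 0x66b02) (.leaf 0x66c01)) (.node (.leaf 0x24505) (.leaf 0x4ad03))))) (.node (.node (.node (.node (.leaf 0x8701) (.leaf 0x67002)) (.node (.leaf 0x67104) (.leaf 0x67204))) (.node (.node (.leaf 0x4a501) (.leaf 0x67402)) (.node (.leaf 0x67503) (.leaf 0x67604)))) (.node (.node (.node (.leaf 0x67706) (.leaf 0x60c04)) (.node (.leaf 0x67903) (.leaf 0x67a05))) (.node (.node (.leaf 0x67b06) (.leaf 0x67c01)) (.node (.leaf 0x67d02) (.leaf 0x2b805))))))))

def eltsP13 : BT := (.node (.node (.node (.node (.node (.node (.node (.leaf 0x67f04) (.leaf 0x68006)) (.node (.leaf 0x68103) (.leaf 0x68204))) (.node (.node (.leaf 0x19806) (.leaf 0x68405)) (.node (.leaf 0x68502) (.leaf 0x68603)))) (.node (.node (.node (.leaf 0x2e103) (.leaf 0x68806)) (.node (.leaf 0x68905) (.leaf 0x68a02))) (.node (.node (.leaf 0x68b01) (.leaf 0xe503)) (.node (.leaf 0x68d01) (.leaf 0x68e06))))) (.node (.node (.node (.node (.leaf 0x68f04) (.leaf 0x69000)) (.node (.leaf 0x69102) (.leaf 0x69205)))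 (.node (.node (.leaf 0x69301) (.leaf 0x13003)) (.node (.leaf 0x1b002) (.leaf 0x34606)))) (.node (.node (.node (.leaf 0x69705) (.leaf 0x69805)) (.node (.leaf 0x40d05) (.leaf 0x69a04))) (.node (.node (.leaf 0x69b00) (.leaf 0x3d800)) (.node (.leaf 0x38c05) (.leaf 0x69e02)))))) (.node (.node (.node (.node (.node (.leaf 0x2fb02) (.leaf 0x20405)) (.node (.leaf 0x6a100) (.leaf 0x3cc06))) (.node (.node (.leaf 0x6a304) (.leaf 0x6a403)) (.node (.leaf 0x6a502) (.leaf 0x4dd03)))) (.node (.node (.node (.leaf 0x29004) (.leaf 0x6a801)) (.node (.leaf 0x6a903) (.leaf 0x6aa05))) (.node (.node (.leaf 0x6ab02) (.leaf 0x6ac01)) (.node (.leaf 0x6ad06) (.leaf 0x55006))))) (.node (.node (.node (.node (.leaf 0x6af01) (.leaf 0x1ca06)) (.node (.leaf 0x6b105) (.leaf 0x6b200))) (.node (.node (.leaf 0x6b301) (.leaf 0x6b402)) (.node (.leaf 0x37a03) (.leaf 0x6b604)))) (.node (.node (.node (.leaf 0x8605) (.leaf 0x6b804)) (.node (.leaf 0x6b906) (.leaf 0x6ba03))) (.node (.node (.leaf 0x6bb02) (.leaf 0x20102)) (.node (.leaf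 0x68d06) (.leaf 0x6be04))))))) (.node (.node (.node (.node (.node (.node (.leaf 0x6bf05) (.leaf 0x6c003)) (.node (.leaf 0xb702) (.leaf 0x6c206))) (.node (.node (.leaf 0x6c303) (.leaf 0x6c404)) (.node (.leaf 0x6c506) (.leaf 0x6c601)))) (.node (.node (.node (.leaf 0x20103) (.leaf 0x37903)) (.node (.leaf 0x6c902) (.leaf 0x6ca04))) (.node (.node (.leaf 0x6cb05) (.leaf 0x6cc03)) (.node (.leaf 0x2ea04) (.leaf 0x6ce03))))) (.node (.node (.node (.node (.leaf 0x6cf03) (.leaf 0x69e03)) (.node (.leaf 0x2fb04) (.leaf 0x27906))) (.node (.node (.leaf 0x49803) (.leaf 0x5c503)) (.node (.leaf 0x5c704) (.leaf 0x6d605)))) (.node (.node (.node (.leaf 0x5a304) (.leaf 0x6d804)) (.node (.leaf 0x19203) (.leaf 0x6da02))) (.node (.node (.leaf 0x46700) (.leaf 0x4e702)) (.node (.leaf 0x6dd01) (.leaf 0x1f505)))))) (.node (.node (.node (.node (.node (.leaf 0x6df04) (.leaf 0x6e002)) (.node (.leaf 0x6e101) (.leaf 0x6e203))) (.node (.node (.leaf 0x29f06) (.leaf 0x6e405)) (.node (.leaf 0x6e502) (.leaf 0x47503)))) (.node (.node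 (.node (.leaf 0x6e703) (.leaf 0x1aa00)) (.node (.leaf 0x6e906) (.leaf 0x6ea03))) (.node (.node (.leaf 0x6eb05) (.leaf 0x6ec04)) (.node (.leaf 0x26102) (.leaf 0x6ee05))))) (.node (.node (.node (.node (.leaf 0x6ef04) (.leaf 0x6f003)) (.node (.leaf 0x806) (.leaf 0x6f205))) (.node (.node (.leaf 0x6f302) (.leaf 0x6f404)) (.node (.leaf 0x6f503) (.leaf 0x4db02)))) (.node (.node (.node (.leaf 0x6f705) (.leaf 0x6f800)) (.node (.leaf 0x1d000) (.leaf 0x6fa01))) (.node (.node (.leaf 0x6fb05) (.leaf 0x6fc06)) (.node (.leaf 0x602) (.leaf 0x6fe03))))))))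

def eltsP14 : BT := (.node (.node (.node (.node (.node (.node (.node (.leaf 0x6ff01) (.leaf 0x70004)) (.node (.leaf 0x70106) (.leaf 0x70205))) (.node (.node (.leaf 0x70300) (.leaf 0x70404)) (.node (.leaf 0x6ce02) (.leaf 0x70603)))) (.node (.node (.node (.leaf 0x70705) (.leaf 0xe06)) (.node (.leaf 0x70903) (.leaf 0x70a04))) (.node (.node (.leaf 0x70b05) (.leaf 0x21801)) (.node (.leaf 0x70d03) (.leaf 0x70e04))))) (.node (.node (.node (.node (.leaf 0x70f02) (.leaf 0x22503)) (.node (.leaf 0x71106) (.leaf 0x71202))) (.node (.node (.leaf 0x71300) (.leaf 0x71405)) (.node (.leaf 0x71504) (.leaf 0x71601)))) (.node (.node (.node (.leaf 0x38306) (.leaf 0x71803)) (.node (.leaf 0x71905) (.leaf 0x71a04))) (.node (.node (.leaf 0x71b03) (.leaf 0xe505)) (.node (.leaf 0x71d03) (.leaf 0x71e00)))))) (.node (.node (.node (.node (.node (.leaf 0x71f01) (.leaf 0x72006)) (.node (.leaf 0x72102) (.leaf 0x72204))) (.node (.node (.leaf 0x64406) (.leaf 0x72403)) (.node (.leaf 0x72500) (.leaf 0x72605)))) (.node (.node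 (.node (.leaf 0x205) (.leaf 0x72806)) (.node (.leaf 0x72902) (.leaf 0x72a03))) (.node (.node (.leaf 0x72b01) (.leaf 0x72c05)) (.node (.leaf 0x3ad04) (.leaf 0x72e06))))) (.node (.node (.node (.node (.leaf 0x1be05) (.leaf 0x73004)) (.node (.leaf 0x73101) (.leaf 0x73203))) (.node (.node (.leaf 0x73306) (.leaf 0x4c401)) (.node (.leaf 0x73505) (.leaf 0x4ae05)))) (.node (.node (.node (.leaf 0x73704) (.leaf 0x73801)) (.node (.leaf 0x4be01) (.leaf 0x6cc00))) (.node (.node (.leaf 0x49804) (.leaf 0x20202)) (.node (.leaf 0x59600) (.leaf 0x73e02))))))) (.node (.node (.node (.node (.node (.node (.leaf 0x73f05) (.leaf 0x74004)) (.node (.leaf 0x74101) (.leaf 0x74203))) (.node (.node (.leaf 0x1200) (.leaf 0x74406)) (.node (.leaf 0x74505) (.leaf 0x74601)))) (.node (.node (.node (.leaf 0x2e600) (.leaf 0x74805)) (.node (.leaf 0x74903) (.leaf 0x74a01))) (.node (.node (.leaf 0x74b02) (.leaf 0x2b802)) (.node (.leaf 0x74d04) (.leaf 0x74e00))))) (.node (.node (.node (.node (.leaf 0x74f03) (.leaf 0x75005)) (.node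 (.leaf 0x11605) (.leaf 0x75202))) (.node (.node (.leaf 0x5a203) (.leaf 0x5c904)) (.node (.leaf 0x75502) (.leaf 0x75606)))) (.node (.node (.node (.leaf 0x75701) (.leaf 0x75800)) (.node (.leaf 0x5a01) (.leaf 0x75a04))) (.node (.node (.leaf 0x75b05) (.leaf 0x75c03)) (.node (.leaf 0x75d06) (.leaf 0x58e05)))))) (.node (.node (.node (.node (.node (.leaf 0x75f06) (.leaf 0x40300)) (.node (.leaf 0x6dd03) (.leaf 0x5c406))) (.node (.node (.leaf 0x5ad02) (.leaf 0x76401)) (.node (.leaf 0x76504) (.leaf 0x76606)))) (.node (.node (.node (.leaf 0xaa03) (.leaf 0x76805)) (.node (.leaf 0x76904) (.leaf 0x76a02))) (.node (.node (.leaf 0x66006) (.leaf 0x76c04)) (.node (.leaf 0x76d03) (.leaf 0x76e00))))) (.node (.node (.node (.node (.leaf 0x76f05) (.leaf 0x29106)) (.node (.leaf 0x77105) (.leaf 0x77204))) (.node (.node (.leaf 0x77301) (.leaf 0x77403)) (.node (.leaf 0x12704) (.leaf 0x77605)))) (.node (.node (.node (.leaf 0x77702) (.leaf 0x52000)) (.node (.leaf 0x53b05) (.leaf 0x77a06))) (.node (.node (.leaf 0x77b02)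 (.leaf 0xb906)) (.node (.leaf 0x77d03) (.leaf 0x77e04))))))))

def eltsP15 : BT := (.node (.node (.node (.node (.node (.node (.node (.leaf 0x17900) (.leaf 0x78006)) (.node (.leaf 0x78104) (.leaf 0x78203))) (.node (.node (.leaf 0x78301) (.leaf 0x3d803)) (.node (.leaf 0x51b04) (.leaf 0x78600)))) (.node (.node (.node (.leaf 0x3a503) (.leaf 0x70a03)) (.node (.leaf 0x78905) (.leaf 0x6ce05))) (.node (.node (.leaf 0x78b05) (.leaf 0x4e503)) (.node (.leaf 0x78d06) (.leaf 0x78e02))))) (.node (.node (.node (.node (.leaf 0x78f04) (.leaf 0x33403)) (.node (.leaf 0x79104) (.leaf 0x79206))) (.node (.node (.leaf 0x79301) (.leaf 0x79405)) (.node (.leaf 0x203) (.leaf 0x79602)))) (.node (.node (.node (.leaf 0x79701) (.leaf 0x79804)) (.node (.leaf 0x79905) (.leaf 0x79a01))) (.node (.node (.leaf 0x34a02) (.leaf 0x79c04)) (.node (.leaf 0x79d03) (.leaf 0x79e05)))))) (.node (.node (.node (.node (.node (.leaf 0x79f02) (.leaf 0x7a001)) (.node (.leaf 0x10004) (.leaf 0x7a206))) (.node (.node (.leaf 0x7a303) (.leaf 0x2f004))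 (.node (.leaf 0x7a505) (.leaf 0x7a601)))) (.node (.node (.node (.leaf 0x7a703) (.leaf 0x63a06)) (.node (.leaf 0x7a906) (.leaf 0x6f202))) (.node (.node (.leaf 0x57e00) (.leaf 0x7ac04)) (.node (.leaf 0x7ad02) (.leaf 0x7106))))) (.node (.node (.node (.node (.leaf 0x76a01) (.leaf 0x1bd05)) (.node (.leaf 0x7b104) (.leaf 0x7b201))) (.node (.node (.leaf 0x7b303) (.leaf 0x4cf01)) (.node (.leaf 0x7b500) (.leaf 0x7b606)))) (.node (.node (.node (.leaf 0x7b702) (.leaf 0x42f00)) (.node (.leaf 0x7b906) (.leaf 0x7ba04))) (.node (.node (.leaf 0x7bb01) (.leaf 0x6af00)) (.node (.leaf 0x40702) (.leaf 0x7be03))))))) (.node (.node (.node (.node (.node (.node (.leaf 0x7bf00) (.leaf 0x71d02)) (.node (.leaf 0x7c101) (.leaf 0x7c206))) (.node (.node (.leaf 0x7c304) (.leaf 0x7c402)) (.node (.leaf 0x7c503) (.leaf 0x1da05)))) (.node (.node (.node (.leaf 0x7c703) (.leaf 0x7ab02)) (.node (.leaf 0x7c903) (.leaf 0x1b003))) (.node (.node (.leaf 0x5f603) (.leaf 0x7cc01)) (.node (.leaf 0x7cd06) (.leaf 0x34a05))))) (.node (.node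 (.node (.node (.leaf 0x7cf00) (.leaf 0x7d001)) (.node (.leaf 0x7d103) (.leaf 0x7d204))) (.node (.node (.leaf 0x7d302) (.leaf 0x7d406)) (.node (.leaf 0x13006) (.leaf 0x2fd04)))) (.node (.node (.node (.leaf 0x7d702) (.leaf 0x7d805)) (.node (.leaf 0x7d903) (.leaf 0x7da04))) (.node (.node (.leaf 0x17302) (.leaf 0x7dc06)) (.node (.leaf 0x7dd05) (.leaf 0x2e602)))))) (.node (.node (.node (.node (.node (.leaf 0x7df01) (.leaf 0x7e003)) (.node (.leaf 0x7e106) (.leaf 0x14205))) (.node (.node (.leaf 0x7e303) (.leaf 0x7e402)) (.node (.leaf 0x7e504) (.leaf 0x7e601)))) (.node (.node (.node (.leaf 0x24205) (.leaf 0x7e804)) (.node (.leaf 0x15304) (.leaf 0x7ea03))) (.node (.node (.leaf 0x7eb05) (.leaf 0x77703)) (.node (.leaf 0x5bd03) (.leaf 0xf202))))) (.node (.node (.node (.node (.leaf 0x8b02) (.leaf 0x7f005)) (.node (.leaf 0x7f105) (.leaf 0x16206))) (.node (.node (.leaf 0x7f304) (.leaf 0x7f401)) (.node (.leaf 0x37a04) (.leaf 0x7f606)))) (.node (.node (.node (.leaf 0x7f702) (.leaf 0x58706)) (.node (.leaf 0x7f904)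 (.leaf 0x7fa04))) (.node (.node (.leaf 0x7fb03) (.leaf 0x2ea02)) (.node (.leaf 0x7fd05) (.leaf 0x7fe06))))))))

def eltsP16 : BT := (.node (.node (.node (.node (.node (.node (.node (.leaf 0x7ff04) (.leaf 0x80001)) (.node (.leaf 0x21802) (.leaf 0x80204))) (.node (.node (.leaf 0x80305) (.leaf 0x80403)) (.node (.leaf 0x80500) (.leaf 0x3db01)))) (.node (.node (.node (.leaf 0x80702) (.leaf 0x80800)) (.node (.leaf 0xc803) (.leaf 0x80a01))) (.node (.node (.leaf 0x80b04) (.leaf 0x80c02)) (.node (.leaf 0x10302) (.leaf 0x80e03))))) (.node (.node (.node (.node (.leaf 0x80f05) (.leaf 0x54404)) (.node (.leaf 0x4da01) (.leaf 0x81202))) (.node (.node (.leaf 0x66d00) (.leaf 0x65502)) (.node (.leaf 0x62202) (.leaf 0x81606)))) (.node (.node (.node (.leaf 0x81704) (.leaf 0x81803)) (.node (.leaf 0x79600) (.leaf 0x81a02))) (.node (.node (.leaf 0x81b05) (.leaf 0x81c01)) (.node (.leaf 0x81d04) (.leaf 0x81e06)))))) (.node (.node (.node (.node (.node (.leaf 0x9001) (.leaf 0x82002)) (.node (.leaf 0x82104) (.leaf 0x82206)))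 (.node (.node (.leaf 0x82303) (.leaf 0x82400)) (.node (.leaf 0x38b01) (.leaf 0x11701)))) (.node (.node (.node (.leaf 0x1306) (.leaf 0x82804)) (.node (.leaf 0x82905) (.leaf 0x64d01))) (.node (.node (.leaf 0x31806) (.leaf 0x82c05)) (.node (.leaf 0x82d01) (.leaf 0x71204))))) (.node (.node (.node (.node (.leaf 0x82f05) (.leaf 0x83003)) (.node (.leaf 0x10602) (.leaf 0x83203))) (.node (.node (.leaf 0x83301) (.leaf 0x83406)) (.node (.leaf 0x83500) (.leaf 0x4b605)))) (.node (.node (.node (.leaf 0x83700) (.leaf 0x83803)) (.node (.leaf 0x46b04) (.leaf 0x83a01))) (.node (.node (.leaf 0x83b03) (.leaf 0x83c02)) (.node (.leaf 0x83d05) (.leaf 0x1fb04))))))) (.node (.node (.node (.node (.node (.node (.leaf 0x83f01) (.leaf 0x84003)) (.node (.leaf 0x84106) (.leaf 0x84202))) (.node (.node (.leaf 0x84300) (.leaf 0x57900)) (.node (.leaf 0x84503) (.leaf 0x84605)))) (.node (.node (.node (.leaf 0x84702) (.leaf 0x84801)) (.node (.leaf 0x2e06) (.leaf 0x84a04))) (.node (.node (.leaf 0x84b02) (.leaf 0x52a04)) (.node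 (.leaf 0x84d04) (.leaf 0x5d502))))) (.node (.node (.node (.node (.leaf 0x67403) (.leaf 0x85006)) (.node (.leaf 0x85102) (.leaf 0x85200))) (.node (.node (.leaf 0x85304) (.leaf 0xaa01)) (.node (.leaf 0x85505) (.leaf 0x85604)))) (.node (.node (.node (.leaf 0x21800) (.leaf 0x85801)) (.node (.leaf 0x85903) (.leaf 0x85a04))) (.node (.node (.leaf 0x85b02) (.leaf 0x85c05)) (.node (.leaf 0x37b06) (.leaf 0x85e04)))))) (.node (.node (.node (.node (.node (.leaf 0x67c04) (.leaf 0x86002)) (.node (.leaf 0x46b01) (.leaf 0x86203))) (.node (.node (.leaf 0x86304) (.leaf 0x86405)) (.node (.leaf 0x86500) (.leaf 0x86601)))) (.node (.node (.node (.leaf 0x6cf06) (.leaf 0x86805)) (.node (.leaf 0x86903) (.leaf 0x4806))) (.node (.node (.leaf 0x3b105) (.leaf 0x86c02)) (.node (.leaf 0x40304) (.leaf 0x86e03))))) (.node (.node (.node (.node (.leaf 0x86f01) (.leaf 0x22a03)) (.node (.leaf 0x87106) (.leaf 0x3f705))) (.node (.node (.leaf 0x20b01) (.leaf 0x4ef05)) (.node (.leaf 0x87506) (.leaf 0x87604)))) (.node (.node (.node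 (.leaf 0x87700) (.leaf 0x87801)) (.node (.leaf 0x801) (.leaf 0x87a01))) (.node (.node (.leaf 0x27903) (.leaf 0x87c02)) (.node (.leaf 0x87d06) (.leaf 0x50405))))))))

def eltsP17 : BT := (.node (.node (.node (.node (.node (.node (.node (.leaf 0x72805) (.leaf 0x88002)) (.node (.leaf 0x88106) (.leaf 0x88203))) (.node (.node (.leaf 0x88300) (.leaf 0x88401)) (.node (.leaf 0x88504) (.leaf 0x24301)))) (.node (.node (.node (.leaf 0x9f02) (.leaf 0x88801)) (.node (.leaf 0x88905) (.leaf 0x88a06))) (.node (.node (.leaf 0x30f02) (.leaf 0x88c02)) (.node (.leaf 0x88d03) (.leaf 0x1ea00))))) (.node (.node (.node (.node (.leaf 0xe005) (.leaf 0x89003)) (.node (.leaf 0x89103) (.leaf 0x3ac06))) (.node (.node (.leaf 0x89306) (.leaf 0x89402)) (.node (.leaf 0x27a02) (.leaf 0x89601)))) (.node (.node (.node (.leaf 0x89705) (.leaf 0x8c06)) (.node (.leaf 0x89902) (.leaf 0x89a00))) (.node (.node (.leaf 0x89b01) (.leaf 0x89c03)) (.node (.leaf 0x10201) (.leaf 0x89e02)))))) (.node (.node (.node (.node (.node (.leaf 0x89f04)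 (.leaf 0x8a005)) (.node (.leaf 0x8a106) (.leaf 0x8a202))) (.node (.node (.leaf 0x28206) (.leaf 0x8a402)) (.node (.leaf 0x8a500) (.leaf 0x34900)))) (.node (.node (.node (.leaf 0x8a703) (.leaf 0x25706)) (.node (.leaf 0x8a900) (.leaf 0x8aa00))) (.node (.node (.leaf 0x8ab04) (.leaf 0x32903)) (.node (.leaf 0x1206) (.leaf 0x8ae05))))) (.node (.node (.node (.node (.leaf 0x8af02) (.leaf 0x88701)) (.node (.leaf 0x6b806) (.leaf 0x1b205))) (.node (.node (.leaf 0x2a902) (.leaf 0x18c02)) (.node (.leaf 0x36402) (.leaf 0x8b602)))) (.node (.node (.node (.leaf 0x24306) (.leaf 0x8b800)) (.node (.leaf 0x2eb03) (.leaf 0x8ba05))) (.node (.node (.leaf 0x8bb04) (.leaf 0x8bc03)) (.node (.leaf 0x5a204) (.leaf 0xc802))))))) (.node (.node (.node (.node (.node (.node (.leaf 0x8bf04) (.leaf 0x8c000)) (.node (.leaf 0x8c101) (.leaf 0x8c203))) (.node (.node (.leaf 0x8c303) (.leaf 0x8c406)) (.node (.leaf 0x59c01) (.leaf 0x8c600)))) (.node (.node (.node (.leaf 0x8c704) (.leaf 0x49806)) (.node (.leaf 0x903) (.leaf 0x8ca05)))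 (.node (.node (.leaf 0x8cb06) (.leaf 0x8cc00)) (.node (.leaf 0x74801) (.leaf 0x8ce03))))) (.node (.node (.node (.node (.leaf 0x8cf05) (.leaf 0x38a05)) (.node (.leaf 0xb405) (.leaf 0x8d203))) (.node (.node (.leaf 0x29d00) (.leaf 0x8d401)) (.node (.leaf 0x8d505) (.leaf 0x8d603)))) (.node (.node (.node (.leaf 0x8d706) (.leaf 0xab00)) (.node (.leaf 0x4cf06) (.leaf 0x8da03))) (.node (.node (.leaf 0x87b06) (.leaf 0x3f800)) (.node (.leaf 0x36400) (.leaf 0x8de00)))))) (.node (.node (.node (.node (.node (.leaf 0x6101) (.leaf 0x8e000)) (.node (.leaf 0x8e102) (.leaf 0x8e205))) (.node (.node (.leaf 0xf700) (.leaf 0x88404)) (.node (.leaf 0x10504) (.leaf 0x8e606)))) (.node (.node (.node (.leaf 0x5fa03) (.leaf 0x8e800)) (.node (.leaf 0x8e905) (.leaf 0x8ea04))) (.node (.node (.leaf 0x13605) (.leaf 0x8ec04)) (.node (.leaf 0x8ed02) (.leaf 0x8ee06))))) (.node (.node (.node (.node (.leaf 0x13600) (.leaf 0x8f004)) (.node (.leaf 0x8f106) (.leaf 0x2d06))) (.node (.node (.leaf 0x8f302) (.leaf 0x8f400)) (.node (.leaf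 0x8f505) (.leaf 0x8f604)))) (.node (.node (.node (.leaf 0x3a502) (.leaf 0x32a05)) (.node (.leaf 0x8f904) (.leaf 0x24c00))) (.node (.node (.leaf 0x8fb01) (.leaf 0x8fc02)) (.node (.leaf 0x8fd03) (.leaf 0x2a501))))))))

def eltsP18 : BT := (.node (.node (.node (.node (.node (.node (.node (.leaf 0x4a504) (.leaf 0x90003)) (.node (.leaf 0x90101) (.leaf 0x90206))) (.node (.node (.leaf 0x8cc01) (.leaf 0x52105)) (.node (.leaf 0x1a503) (.leaf 0x90606)))) (.node (.node (.node (.leaf 0x90705) (.leaf 0x90804)) (.node (.leaf 0x44402) (.leaf 0x90a05))) (.node (.node (.leaf 0x90b03) (.leaf 0x90c02)) (.node (.leaf 0x54401) (.leaf 0x6af05))))) (.node (.node (.node (.node (.leaf 0x1db02) (.leaf 0x2ba03)) (.node (.leaf 0x54400) (.leaf 0xd902))) (.node (.node (.leaf 0x2fb03) (.leaf 0x6bd05)) (.node (.leaf 0x91500) (.leaf 0x49005)))) (.node (.node (.node (.leaf 0x91705) (.leaf 0)) (.leaf 0)) (.leaf 0)))) (.leaf 0)) (.leaf 0))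

def eltsP19 : BT := (.leaf 0)

def eltsP20 : BT := (.leaf 0)

def eltsP21 : BT := (.leaf 0)

def eltsP22 : BT := (.leaf 0)

def eltsP23 : BT := (.leaf 0)

def eltsP24 : BT := (.leaf 0)

def eltsP25 : BT := (.leaf 0)

def eltsP26 : BT := (.leaf 0)

def eltsP27 : BT := (.leaf 0)

def eltsP28 : BT := (.leaf 0)

def eltsP29 : BT := (.leaf 0)

def eltsP30 : BT := (.leaf 0)

def eltsP31 : BT := (.leaf 0)

/-- Table. -/
def eltsP : BT := (.node (.node (.node (.node (.node eltsP0 eltsP1) (.node eltsP2 eltsP3)) (.node (.node eltsP4 eltsP5) (.node eltsP6 eltsP7))) (.node (.node (.node eltsP8 eltsP9) (.node eltsP10 eltsP11)) (.node (.node eltsP12 eltsP13) (.node eltsP14 eltsP15)))) (.node (.node (.node (.node eltsP16 eltsP17) (.node eltsP18 eltsP19)) (.node (.node eltsP20 eltsP21) (.node eltsP22 eltsP23))) (.node (.node (.node eltsP24 eltsP25) (.node eltsP26 eltsP27)) (.node (.node eltsP28 eltsP29) (.node eltsP30 eltsP31)))))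

def hsT0 : BT := (.node (.node (.node (.node (.node (.node (.leaf 0x876543210) (.leaf 0x876542301)) (.node (.leaf 0x876541032) (.leaf 0x867453210))) (.node (.node (.leaf 0x854763210) (.leaf 0x876453201)) (.node (.leaf 0x832107654) (.leaf 0x876540123)))) (.node (.node (.node (.leaf 0x867452301) (.leaf 0x854762301)) (.node (.leaf 0x876452310) (.leaf 0x832106745))) (.node (.node (.leaf 0x867451032) (.leaf 0x854761032)) (.node (.leaf 0x876450132) (.leaf 0x832105476))))) (.node (.node (.node (.node (.leaf 0x845673210) (.leaf 0x867543201)) (.node (.leaf 0x823017654) (.leaf 0x845763201))) (.node (.node (.leaf 0x810327654) (.leaf 0x876451023)) (.node (.leaf 0x854673201) (.leaf 0x832017645)))) (.node (.node (.node (.leaf 0x867450123) (.leaf 0x854760123)) (.node (.leaf 0x832104567) (.leaf 0x845672301))) (.node (.node (.leaf 0x867542310) (.leaf 0x823016745)) (.node (.leaf 0x845762310) (.leaf 0x810326745)))))) (.node (.node (.node (.node (.node (.leaf 0x854672310) (.leaf 0x832016754)) (.node (.leaf 0x845671032)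 (.leaf 0x867540132))) (.node (.node (.leaf 0x823015476) (.leaf 0x845760132)) (.node (.leaf 0x810325476) (.leaf 0x854670132)))) (.node (.node (.node (.leaf 0x832014576) (.leaf 0x801237654)) (.node (.leaf 0x867541023) (.leaf 0x823107645))) (.node (.node (.leaf 0x845761023) (.leaf 0x801327645)) (.node (.leaf 0x854671023) (.leaf 0x832015467))))) (.node (.node (.node (.node (.leaf 0x810237645) (.leaf 0x845670123)) (.node (.leaf 0x823014567) (.leaf 0x810324567))) (.node (.node (.leaf 0x801236745) (.leaf 0x823106754)) (.node (.leaf 0x801326754) (.leaf 0x810236754)))) (.node (.node (.node (.leaf 0x801235476) (.leaf 0x823104576)) (.node (.leaf 0x801324576) (.leaf 0x810234576))) (.node (.node (.leaf 0x823105467) (.leaf 0x801325467)) (.node (.leaf 0x810235467) (.leaf 0x801234567)))))))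

/-- Table. -/
def hsT : BT := hsT0

def hsP0 : BT := (.node (.node (.node (.node (.node (.node (.leaf 0x0) (.leaf 0x0)) (.node (.leaf 0x1) (.leaf 0x2))) (.node (.node (.leaf 0x3) (.leaf 0x4)) (.node (.leaf 0x5) (.leaf 0x101)))) (.node (.node (.node (.leaf 0x102) (.leaf 0x103)) (.node (.leaf 0x104) (.leaf 0x105))) (.node (.node (.leaf 0x202) (.leaf 0x203)) (.node (.leaf 0x204) (.leaf 0x205))))) (.node (.node (.node (.node (.leaf 0x303) (.leaf 0x304)) (.node (.leaf 0x305) (.leaf 0x404))) (.node (.node (.leaf 0x405) (.leaf 0x501)) (.node (.leaf 0x503) (.leaf 0x505)))) (.node (.node (.node (.leaf 0x702) (.leaf 0x703)) (.node (.leaf 0x705) (.leaf 0x803))) (.node (.node (.leaf 0x804) (.leaf 0x805)) (.node (.leaf 0x904) (.leaf 0x905)))))) (.node (.node (.node (.node (.node (.leaf 0xa03) (.leaf 0xa05)) (.node (.leaf 0xc03) (.leaf 0xc04))) (.node (.node (.leaf 0xc05) (.leaf 0xd04)) (.node (.leaf 0xd05) (.leaf 0xe03)))) (.node (.node (.node (.leaf 0xe05) (.leaf 0x1005)) (.node (.leaf 0x1101) (.leaf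 0x1105))) (.node (.node (.leaf 0x1301) (.leaf 0x1305)) (.node (.leaf 0x1503) (.leaf 0x1505))))) (.node (.node (.node (.node (.leaf 0x1605) (.leaf 0x1803)) (.node (.leaf 0x1805) (.leaf 0x1905))) (.node (.node (.leaf 0x1b05) (.leaf 0x1c05)) (.node (.leaf 0x1e05) (.leaf 0x2005)))) (.node (.node (.node (.leaf 0x2205) (.leaf 0x2305)) (.node (.leaf 0x2505) (.leaf 0x2705))) (.node (.node (.leaf 0x2a05) (.leaf 0x2c05)) (.node (.leaf 0x2e05) (.leaf 0x3105)))))))

/-- Table. -/
def hsP : BT := hsP0

def gensA : List ℕ := [36344967201, 36344955441, 36344705601, 36339724881, 36244304481, 34465919601, 1985229441]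

def gensP : List ℕ := [36344963841, 36344959026, 36092326416, 35776770576, 36343984641, 35199678036, 36344967696]

def elts : Tab := ⟨9, 2329, 12, eltsT, []⟩

def hsTab : Tab := ⟨9, 64, 6, hsT, []⟩

def tab : Tab := ⟨9, 2835, 12, repsT, [36344967696, 36344963841, 36344959026, 36092326416, 35776770576, 36343984641, 35199678036, 36344955171, 36092322561, 35776766721, 36343980816, 35199674181, 36092317746, 35776761906, 36343972146, 35199669366, 35524129296, 36093309441, 34947036756, 35525112321, 34631480916, 36343975971, 35775787521, 35198694981, 36092313891, 35776758051, 35199665511, 35524125441, 36093305616, 34947032901, 35525108496, 34631477061, 35775783696, 35198691156, 35524120626, 36093296946, 34947028086, 35525099826, 34631472246, 35775775026, 35198682486, 34378839636, 36093300771, 34948019781, 35525103651, 34379822661, 35775778851, 35198686311, 34630497861, 35524116771, 34947024231, 34631468391, 34378835781, 34948015956, 34379818836, 34630494036, 34378830966, 34948007286, 34379810166,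 34630485366, 34948011111, 34379813991, 34630489191, 34378827111]⟩

def seedIx : List (ℕ × ℕ) := [(26, 1), (13, 29), (32, 37), (32, 42), (49, 53), (55, 60), (66, 74), (66, 80)]

def seeds : List (ℕ × ℕ) := seedIx.map fun s => (elts.rep s.1, elts.rep s.2)

end Cfsg.Lib.AltSection.Two
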